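import Cfsg.Agent.Lib.U43Type.Defs

/-!
# S5390 / S5391: from the letters to the group
-/

set_option autoImplicit false
set_option linter.unusedSectionVars false
set_option maxRecDepth 100000
set_option linter.style.haveILetI false

namespace CfsgLib.U43Type

open Subgroup

universe u

/-- the powers used for inverses -/
def hinv (n : ℕ) : ℕ :=
  let a := hm n n
  let b := hm a a
  let c := hm b b
  let d := hm c c
  hm (hm (hm d b) a) n

/-- `n⁻¹ q⁻¹ n q` -/
def hcomm (n q : ℕ) : ℕ := hm (hm (hm (hinv n) (hinv q)) n) q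

/-- `m n m⁻¹` -/
def hconj (m n : ℕ) : ℕ := hm (hm m n) (hinv m)

/-- the codes of `Q` -/
def qList : List ℕ := (List.range 1152).filter inQ

/-- the next step of the closure under the five letters -/
def grow (S : ℕ) : ℕ :=
  (List.range 1152).foldl
    (fun A n => if S.testBit n then letC.foldl (fun B l => B ||| 1 <<< hm n l) A else A) S

/-- iterated `grow` -/
def growN : ℕ → ℕ → ℕ
  | 0, S => S
  | k + 1, S => growN k (grow S)

theorem norm_check : ((List.range 24).all fun a => (List.range 24).all fun b =>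
    decide (normP a b < 288) && decide (mm a b < 24) && decide (tab5 thTab a < 24) &&
      decide (tab5 negTab a < 24) && (decide (12 ≤ a) || decide (tab5 posTab a < 24))) = true := by
  decide +kernel

theorem norm_bounds {a b : ℕ} (ha : a < 24) (hb : b < 24) :
    normP a b < 288 ∧ mm a b < 24 ∧ tab5 thTab a < 24 ∧ tab5 negTab a < 24 ∧
      (a < 12 → tab5 posTab a < 24) := by
  have h := List.all_eq_true.1 (List.all_eq_true.1 norm_check a (List.mem_range.2 ha)) b
    (List.mem_range.2 hb)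
  simp only [Bool.and_eq_true, Bool.or_eq_true, decide_eq_true_eq] at h
  obtain ⟨⟨⟨⟨h1, h2⟩, h3⟩, h4⟩, h5⟩ := h
  exact ⟨h1, h2, h3, h4, fun h12 => h5.resolve_left (by omega)⟩

theorem hm_lt {m n : ℕ} (hm' : m < 1152) (hn : n < 1152) : hm m n < 1152 := by
  simp only [hm, hmul, if_true]
  generalize hA : normP _ _ = A
  have : A < 288 := by
    subst hA
    have p1 : ∀ k, k < 288 → tab5 posTab (k / 24) < 24 := fun k hk =>
      (norm_bounds (a := k / 24) (b := 0) (by omega) (by norm_num)).2.2.2.2 (by omega)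
    have th : ∀ c, c < 24 → tab5 thTab c < 24 := fun c hc =>
      (norm_bounds (b := 0) hc (by norm_num)).2.2.1
    have ng : ∀ c, c < 24 → tab5 negTab c < 24 := fun c hc =>
      (norm_bounds (b := 0) hc (by norm_num)).2.2.2.1
    have pk := p1 (m / 4) (by omega)
    have pl := p1 (n / 4) (by omega)
    have hc : ∀ c d, c < 24 → d < 24 → ∀ (P : Prop) [Decidable P], (if P then c else d) < 24 :=
      fun c d h1 h2 P _ => by split <;> assumption
    refine (norm_bounds (norm_bounds pk ?_).2.1 ?_).1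
    · exact hc _ _ (th _ (hc _ _ (by omega) pl _)) (hc _ _ (by omega) pl _) _
    · have hd : ∀ d, d < 24 → mm (m / 4 % 24) d < 24 := fun d hd' =>
        (norm_bounds (Nat.mod_lt _ (by norm_num)) hd').2.1
      have hd' := hd _ (hc _ _ (th _ (hc _ _ pl (Nat.mod_lt (n / 4) (by norm_num : 0 < 24))
        (m % 2 = 1))) (hc _ _ pl (Nat.mod_lt (n / 4) (by norm_num : 0 < 24)) (m % 2 = 1))
        (m / 2 % 2 = 1))
      exact hc _ _ (ng _ hd') hd' _
  omega

theorem grow_full : Nat.beq (growN 16 (1 <<< oneC)) (2 ^ 1152 - 1) = true := by decide +kernel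

theorem normal_check : ((List.range 1152).all fun n =>
    Nat.beq n oneC || (qList.any fun q =>
      (!Nat.beq (hcomm n q) oneC) && decide (hcomm n q < 1152) &&
        (Nat.beq (hcomm n q) zC || qList.any fun p => Nat.beq (hcomm (hcomm n q) p) zC)) ||
      Nat.beq n zC) = true := by
  decide +kernel

theorem inv_check : ((List.range 1152).all fun n =>
    decide (hinv n < 1152) && Nat.beq (hm n (hinv n)) oneC) = true := by decide +kernel

/-- codes conjugating `eC` to ten different involutions -/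
def tenConj : List ℕ :=
  (List.range 1152).foldl (fun l m => if l.length < 10 && !(l.map fun a => hconj a eC).contains (hconj m eC)
    then m :: l else l) []

theorem ten_check : ((tenConj.map fun a => hconj a eC).Nodup ∧ tenConj.length = 10 ∧
    ∀ a ∈ tenConj, a < 1152) := by decide +kernel

theorem fuse_check : ((List.range 1152).any fun m => Nat.beq (hconj m eC) (hm zC eC)) = true := by
  decide +kernel

theorem code_lt : oneC < 1152 ∧ zC < 1152 ∧ eC < 1152 ∧ (∀ l ∈ letC, l < 1152) ∧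
    hm oneC oneC = oneC := by decide +kernel

section

variable {G : Type u} [Group G] {z : G} {Q : Subgroup G} (E : Emb true true z Q)

theorem Emb.map_hm {m n : ℕ} (hm' : m < 1152) (hn : n < 1152) : E.φ (hm m n) = E.φ m * E.φ n :=
  E.map_mul m n hm' hn

theorem Emb.map_one : E.φ oneC = 1 := by
  have h := E.map_hm code_lt.1 code_lt.1
  rw [code_lt.2.2.2.2] at h
  exact mul_left_cancel (a := E.φ oneC) (by rw [mul_one]; exact h.symm)

theorem hinv_spec {n : ℕ} (hn : n < 1152) : hinv n < 1152 ∧ hm n (hinv n) = oneC := by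
  have h := List.all_eq_true.1 inv_check n (List.mem_range.2 hn)
  simpa using h

theorem Emb.map_inv {n : ℕ} (hn : n < 1152) : E.φ (hinv n) = (E.φ n)⁻¹ := by
  obtain ⟨h1, h2⟩ := hinv_spec hn
  refine (inv_eq_of_mul_eq_one_right ?_).symm
  rw [← E.map_hm hn h1, h2, E.map_one]

theorem grow_sound (P : ℕ → Prop) (hP : ∀ n, n < 1152 → P n → ∀ l ∈ letC, P (hm n l)) (S : ℕ)
    (hS : ∀ n, S.testBit n = true → P n) : ∀ n, (grow S).testBit n = true → P n := by
  suffices H : ∀ (L : List ℕ), (∀ a ∈ L, a < 1152) → ∀ A : ℕ, (∀ n, A.testBit n = true → P n) →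
      ∀ n, (L.foldl (fun A n => if S.testBit n then letC.foldl (fun B l => B ||| 1 <<< hm n l) A
        else A) A).testBit n = true → P n from
    H (List.range 1152) (fun a ha => List.mem_range.1 ha) S hS
  intro L
  induction L with
  | nil => exact fun _ A hA => hA
  | cons a L ih =>
    intro hL A hA
    refine ih (fun b hb => hL b (List.mem_cons_of_mem _ hb)) _ ?_
    by_cases ha : S.testBit a
    swap
    · simpa [ha] using hA
    simp only [ha, if_true]
    suffices H2 : ∀ (M : List ℕ), (∀ l ∈ M, l ∈ letC) → ∀ B : ℕ, (∀ n, B.testBit n = true → P n) →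
        ∀ n, (M.foldl (fun B l => B ||| 1 <<< hm a l) B).testBit n = true → P n from
      H2 letC (fun l hl => hl) A hA
    intro M
    induction M with
    | nil => exact fun _ B hB => hB
    | cons l M ihM =>
      intro hM B hB
      refine ihM (fun b hb => hM b (List.mem_cons_of_mem _ hb)) _ fun n hn => ?_
      rw [Nat.testBit_or, Bool.or_eq_true] at hn
      rcases hn with hn | hn
      · exact hB n hn
      · rw [Nat.one_shiftLeft, Nat.testBit_two_pow] at hn
        rw [← of_decide_eq_true hn]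
        exact hP a (hL a (List.mem_cons_self ..)) (hS a ha) l (hM l (List.mem_cons_self ..))

theorem all_codes (P : ℕ → Prop) (h1 : P oneC)
    (hP : ∀ n, n < 1152 → P n → ∀ l ∈ letC, P (hm n l)) : ∀ n, n < 1152 → P n := by
  have H : ∀ k S, (∀ n, S.testBit n = true → P n) →
      ∀ n, (growN k S).testBit n = true → P n := by
    intro k
    induction k with
    | zero => exact fun S hS => hS
    | succ k ih => exact fun S hS => ih _ (grow_sound P hP S hS)
  intro n hn
  refine H 16 (1 <<< oneC) (fun m hm' => ?_) n ?_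
  · rw [Nat.one_shiftLeft, Nat.testBit_two_pow] at hm'
    rw [← of_decide_eq_true hm']
    exact h1
  · rw [Nat.eq_of_beq_eq_true grow_full, Nat.testBit_two_pow_sub_one]
    exact decide_eq_true hn

/-- The first five letters generate the centralizer. -/
theorem Emb.cent_le {H : Subgroup G} (hl : ∀ l ∈ letC, E.φ l ∈ H) :
    centralizer ({z} : Set G) ≤ H := by
  intro a ha
  obtain ⟨n, hn, rfl⟩ := (E.mem_cent a).1 ha
  refine all_codes (fun m => E.φ m ∈ H) (E.map_one ▸ one_mem H) (fun m hm' h l hl' => ?_) n hn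
  rw [E.map_hm hm' (code_lt.2.2.2.1 l hl')]
  exact mul_mem h (hl l hl')

theorem Emb.code {a : G} (ha : a ∈ centralizer ({z} : Set G)) : ∃ n < 1152, E.φ n = a :=
  (E.mem_cent a).1 ha

theorem hconj_lt {a b : ℕ} (ha : a < 1152) (hb : b < 1152) : hconj a b < 1152 :=
  hm_lt (hm_lt ha hb) (hinv_spec ha).1

theorem Emb.map_conj {a b : ℕ} (ha : a < 1152) (hb : b < 1152) :
    E.φ (hconj a b) = E.φ a * E.φ b * (E.φ a)⁻¹ := by
  rw [hconj, E.map_hm (hm_lt ha hb) (hinv_spec ha).1, E.map_hm ha hb, E.map_inv ha]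

theorem Emb.map_comm {n q : ℕ} (hn : n < 1152) (hq : q < 1152) :
    E.φ (hcomm n q) = (E.φ n)⁻¹ * (E.φ q)⁻¹ * E.φ n * E.φ q := by
  have h1 := (hinv_spec hn).1
  have h2 := (hinv_spec hq).1
  rw [hcomm, E.map_hm (hm_lt (hm_lt h1 h2) hn) hq, E.map_hm (hm_lt h1 h2) hn, E.map_hm h1 h2,
    E.map_inv hn, E.map_inv hq]

/-- An involution without fixed points on a finite subgroup inverts it. -/
theorem inverts [Finite G] {R : Subgroup G} {a : G} (ha : a * a = 1)
    (hn : ∀ r ∈ R, a * r * a⁻¹ ∈ R) (hf : ∀ r ∈ R, a * r = r * a → r = 1) :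
    ∀ r ∈ R, a * r * a⁻¹ = r⁻¹ := by
  intro r hr
  let f : R → R := fun s => ⟨(s : G)⁻¹ * (a * s * a⁻¹), mul_mem (inv_mem s.2) (hn _ s.2)⟩
  have hinj : Function.Injective f := by
    intro s t h
    have e : (s : G)⁻¹ * (a * s * a⁻¹) = (t : G)⁻¹ * (a * t * a⁻¹) := congrArg Subtype.val h
    have hts : (t : G) * (s : G)⁻¹ = 1 := by
      refine hf _ (mul_mem t.2 (inv_mem s.2)) ?_
      calc a * ((t : G) * (s : G)⁻¹) = (t : G) * ((t : G)⁻¹ * (a * t * a⁻¹)) * (a * (s : G)⁻¹) := by
            group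
        _ = (t : G) * ((s : G)⁻¹ * (a * s * a⁻¹)) * (a * (s : G)⁻¹) := by rw [e]
        _ = (t : G) * (s : G)⁻¹ * a := by group
    exact Subtype.ext (mul_inv_eq_one.1 hts).symm
  obtain ⟨s, hs⟩ := Finite.surjective_of_injective hinj ⟨r, hr⟩
  have e : (s : G)⁻¹ * (a * s * a⁻¹) = r := congrArg Subtype.val hs
  have hai : a⁻¹ = a := inv_eq_of_mul_eq_one_right ha
  rw [← e]
  calc a * ((s : G)⁻¹ * (a * s * a⁻¹)) * a⁻¹ = a * (s : G)⁻¹ * a * s * (a⁻¹ * a⁻¹) := by group
    _ = a * (s : G)⁻¹ * a * s := by rw [hai, ha, mul_one]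
    _ = ((s : G)⁻¹ * (a * s * a⁻¹))⁻¹ := by
      rw [mul_inv_rev, mul_inv_rev, mul_inv_rev, inv_inv, inv_inv, hai, ← mul_assoc a]

/-- A small subgroup normalised by `g` and `C(z)` is trivial. -/
theorem small_normal_trivial [Finite G] {g : G} (hgz : g * z * g⁻¹ = E.φ eC)
    {R : Subgroup G} (hR : Nat.card R ≤ 9) (hnC : ∀ n < 1152, ∀ r ∈ R, E.φ n * r * (E.φ n)⁻¹ ∈ R)
    (hng : ∀ r ∈ R, g * r * g⁻¹ ∈ R) : R = ⊥ := by
  classical
  obtain ⟨hO, hZ, hE, -, -⟩ := code_lt
  have hz1 : z ≠ 1 := fun e => absurd (E.inj _ _ hZ hO (by rw [E.map_z, E.map_one, e]))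
    (by decide +kernel)
  have hzn : ∀ r ∈ R, z * r * z⁻¹ ∈ R := fun r hr => E.map_z ▸ hnC zC hZ r hr
  have hq : ∀ q ∈ qList, q < 1152 := fun q hq => List.mem_range.1 (List.mem_filter.1 hq).1
  -- `z` is not in `R`
  have hzR : z ∉ R := by
    intro hz
    have he : E.φ eC ∈ R := hgz ▸ hng z hz
    obtain ⟨hnd, hlen, hlt⟩ := ten_check
    let f : Fin 10 → R := fun i =>
      let a := (tenConj.map fun a => hconj a eC)[(i : ℕ)]'(by rw [List.length_map, hlen]; exact i.2)
      ⟨E.φ a, by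
        obtain ⟨m, hm', e⟩ := List.mem_map.1 (List.getElem_mem (l := tenConj.map fun a => hconj a eC)
          (n := (i : ℕ)) (by rw [List.length_map, hlen]; exact i.2))
        show E.φ a ∈ R
        simp only [a]
        rw [← e, E.map_conj (hlt m hm') hE]
        exact hnC m (hlt m hm') _ he⟩
    have hf : Function.Injective f := by
      intro i j h
      have e := congrArg Subtype.val h
      simp only [f] at e
      have hb : ∀ k (hk : k < (tenConj.map fun a => hconj a eC).length),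
          (tenConj.map fun a => hconj a eC)[k] < 1152 := by
        intro k hk
        obtain ⟨m, hm', e'⟩ := List.mem_map.1 (List.getElem_mem hk)
        exact e' ▸ hconj_lt (hlt m hm') hE
      exact Fin.ext ((hnd.getElem_inj_iff).1 (E.inj _ _ (hb _ _) (hb _ _) e))
    have := Nat.card_le_card_of_injective f hf
    rw [Nat.card_fin] at this
    omega
  -- nothing else of the centralizer is in `R`
  have hfix : ∀ r ∈ R, z * r = r * z → r = 1 := by
    intro r hr hc
    obtain ⟨n, hn, rfl⟩ := E.code (mem_centralizer_singleton_iff.2 hc.symm)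
    have h := List.all_eq_true.1 normal_check n (List.mem_range.2 hn)
    simp only [Bool.or_eq_true, List.any_eq_true, Bool.and_eq_true, decide_eq_true_eq,
      Bool.not_eq_true'] at h
    rcases h with (h | ⟨q, hqm, ⟨-, hlt'⟩, h⟩) | h
    · rw [Nat.eq_of_beq_eq_true h, E.map_one]
    · refine absurd ?_ hzR
      have hqi : (E.φ q)⁻¹ * E.φ n * E.φ q ∈ R := by
        have := hnC (hinv q) (hinv_spec (hq q hqm)).1 _ hr
        rwa [E.map_inv (hq q hqm), inv_inv] at this
      have hc1 : E.φ (hcomm n q) ∈ R := by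
        rw [E.map_comm hn (hq q hqm), mul_assoc, mul_assoc, ← mul_assoc (E.φ q)⁻¹]
        exact mul_mem (inv_mem hr) hqi
      rcases h with h | ⟨p, hp, h⟩
      · rwa [Nat.eq_of_beq_eq_true h, E.map_z] at hc1
      · have hpi : (E.φ p)⁻¹ * E.φ (hcomm n q) * E.φ p ∈ R := by
          have := hnC (hinv p) (hinv_spec (hq p hp)).1 _ hc1
          rwa [E.map_inv (hq p hp), inv_inv] at this
        have : E.φ (hcomm (hcomm n q) p) ∈ R := by
          rw [E.map_comm hlt' (hq p hp), mul_assoc, mul_assoc, ← mul_assoc (E.φ p)⁻¹]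
          exact mul_mem (inv_mem hc1) hpi
        rwa [Nat.eq_of_beq_eq_true h, E.map_z] at this
    · exact absurd (by rwa [Nat.eq_of_beq_eq_true h, E.map_z] at hr) hzR
  have hzz : z * z = 1 := by
    rw [← E.map_z, ← E.map_hm hZ hZ, show hm zC zC = oneC by decide +kernel, E.map_one]
  have hgc : ∀ r ∈ R, g⁻¹ * r * g ∈ R := by
    have hfin : R.map (MulAut.conj g).toMonoidHom = R := Subgroup.eq_of_le_of_card_ge
      (by rintro _ ⟨r, hr, rfl⟩; exact hng r hr)
      (by rw [card_map_of_injective (MulAut.conj g).injective])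
    intro r hr
    rw [← hfin] at hr
    obtain ⟨s, hs, rfl⟩ := hr
    simpa [mul_assoc] using hs
  have hee : E.φ eC * E.φ eC = 1 := by rw [← hgz]; calc
    g * z * g⁻¹ * (g * z * g⁻¹) = g * (z * z) * g⁻¹ := by group
    _ = 1 := by rw [hzz]; group
  have hfe : ∀ r ∈ R, E.φ eC * r = r * E.φ eC → r = 1 := by
    intro r hr hc
    have h1 := hfix _ (hgc r hr) (by
      calc z * (g⁻¹ * r * g) = g⁻¹ * ((g * z * g⁻¹) * r) * g := by group
        _ = g⁻¹ * (r * (g * z * g⁻¹)) * g := by rw [hgz, hc]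
        _ = g⁻¹ * r * g * z := by group)
    calc r = g * (g⁻¹ * r * g) * g⁻¹ := by group
      _ = 1 := by rw [h1]; group
  rw [eq_bot_iff]
  intro r hr
  rw [mem_bot]
  obtain ⟨m, hm', hmf⟩ := List.any_eq_true.1 fuse_check
  have hm'' := List.mem_range.1 hm'
  have hmeq : E.φ m * E.φ eC * (E.φ m)⁻¹ = z * E.φ eC := by
    rw [← E.map_conj hm'' hE, Nat.eq_of_beq_eq_true hmf, E.map_hm hZ hE, E.map_z]
  have h1 := inverts hzz hzn hfix r hr
  have h2 := inverts hee (fun s hs => hnC eC hE s hs) hfe r hr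
  have hcomm : z * E.φ eC * r = r * (z * E.φ eC) := by
    have hes : E.φ eC * r = r⁻¹ * E.φ eC := by rw [← h2]; group
    have hzs : z * r⁻¹ = r * z := by
      have := congrArg (·⁻¹) h1
      simp only [mul_inv_rev, inv_inv] at this
      calc z * r⁻¹ = z * (r⁻¹ * z⁻¹) * z := by group
        _ = r * z := by rw [this]
    rw [mul_assoc, hes, ← mul_assoc, hzs, mul_assoc]
  have h3 := hfe ((E.φ m)⁻¹ * r * E.φ m) (by
    have := hnC (hinv m) (hinv_spec hm'').1 r hr
    rwa [E.map_inv hm'', inv_inv] at this) (by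
      calc E.φ eC * ((E.φ m)⁻¹ * r * E.φ m)
          = (E.φ m)⁻¹ * (E.φ m * E.φ eC * (E.φ m)⁻¹ * r) * E.φ m := by group
        _ = (E.φ m)⁻¹ * (r * (E.φ m * E.φ eC * (E.φ m)⁻¹)) * E.φ m := by rw [hmeq, hcomm]
        _ = (E.φ m)⁻¹ * r * E.φ m * E.φ eC := by group)
  calc r = E.φ m * ((E.φ m)⁻¹ * r * E.φ m) * (E.φ m)⁻¹ := by group
    _ = 1 := by rw [h3]; group

/-- The group generated by the letters is `PSU₄(3)`. -/
theorem letters_iso [Finite G] (hb : StmtBound.{u}) {K : Type} [Field K] [Fintype K]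
    (hsimp : IsSimpleGroup (Cfsg.PSU 4 K 3)) (hcard : Nat.card (Cfsg.PSU 4 K 3) = 3265920)
    {LU : Fin 8 → Cfsg.PSU 4 K 3} (hLU : Letters _ LU) (hgen : closure (Set.range LU) = ⊤)
    {g : G} (hgz : g * z * g⁻¹ = E.φ eC) {L : Fin 8 → G} (hL : Letters G L)
    (hl : ∀ l ∈ letC, E.φ l ∈ Set.range L) (hg : g ∈ Set.range L) :
    centralizer ({z} : Set G) ≤ closure (Set.range L) ∧
      Nonempty (closure (Set.range L) ≃* Cfsg.PSU 4 K 3) := by
  have hC : centralizer ({z} : Set G) ≤ closure (Set.range L) :=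
    E.cent_le fun l hl' => subset_closure (hl l hl')
  refine ⟨hC, ?_⟩
  let P : Fin 8 → G × Cfsg.PSU 4 K 3 := fun i => (L i, LU i)
  have hval : ∀ w, val P w = (val L w, val LU w) := by
    intro w
    induction w with
    | nil => rfl
    | cons a w ih =>
      simp only [val, List.map_cons, List.prod_cons] at ih ⊢
      rw [ih]; rfl
  have hP : Letters _ P := ⟨fun i => Prod.ext (hL.sq i) (hLU.sq i),
    fun r hr => by rw [hval, hL.rels r hr, hLU.rels r hr]; rfl⟩
  obtain ⟨hfin, hΓ⟩ := hb (G × Cfsg.PSU 4 K 3) P hP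
  haveI := hfin
  set G₀ := closure (Set.range L) with hG₀
  set Γ := closure (Set.range P) with hΓdef
  -- the two projections
  have hfst : ∀ x ∈ Γ, x.1 ∈ G₀ := by
    intro x hx
    have h : (MonoidHom.fst G _) x ∈ Γ.map (MonoidHom.fst G _) := ⟨x, hx, rfl⟩
    rw [hΓdef, MonoidHom.map_closure, ← Set.range_comp] at h
    exact h
  let π : Γ →* G₀ :=
    ((MonoidHom.fst G (Cfsg.PSU 4 K 3)).comp Γ.subtype).codRestrict G₀ fun x => hfst x x.2
  let σ : Γ →* Cfsg.PSU 4 K 3 := (MonoidHom.snd G (Cfsg.PSU 4 K 3)).comp Γ.subtype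
  have hσ : Function.Surjective σ := by
    intro u
    have h : u ∈ Γ.map (MonoidHom.snd G (Cfsg.PSU 4 K 3)) := by
      rw [hΓdef, MonoidHom.map_closure, ← Set.range_comp]
      exact (show u ∈ closure (Set.range LU) by rw [hgen]; exact mem_top u)
    obtain ⟨x, hx, rfl⟩ := h
    exact ⟨⟨x, hx⟩, rfl⟩
  have hπ : Function.Surjective π := by
    rintro ⟨a, ha⟩
    have h : a ∈ Γ.map (MonoidHom.fst G (Cfsg.PSU 4 K 3)) := by
      rw [hΓdef, MonoidHom.map_closure, ← Set.range_comp]
      exact ha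
    obtain ⟨x, hx, e⟩ := h
    exact ⟨⟨x, hx⟩, Subtype.ext e⟩
  have hN : Nat.card σ.ker ≤ 9 := by
    have h1 := card_mul_index σ.ker
    rw [Subgroup.index_ker, MonoidHom.range_eq_top.2 hσ, Subgroup.card_top, hcard] at h1
    have : Nat.card σ.ker * 3265920 ≤ 9 * 3265920 := h1.le.trans hΓ
    exact Nat.le_of_mul_le_mul_right this (by norm_num)
  -- the image of the kernel is trivial
  set R := (σ.ker.map π).map G₀.subtype with hR
  have hR9 : Nat.card R ≤ 9 := by
    rw [hR, card_map_of_injective G₀.subtype_injective]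
    exact (Nat.le_of_dvd Nat.card_pos (Subgroup.card_map_dvd σ.ker π)).trans hN
  haveI hKn : (σ.ker.map π).Normal := Subgroup.Normal.map inferInstance π hπ
  have hconjR : ∀ a ∈ G₀, ∀ r ∈ R, a * r * a⁻¹ ∈ R := by
    rintro a ha _ ⟨s, hs, rfl⟩
    exact ⟨⟨a, ha⟩ * s * ⟨a, ha⟩⁻¹, hKn.conj_mem s hs _, rfl⟩
  have hR1 : R = ⊥ := small_normal_trivial E hgz hR9
    (fun n hn => hconjR _ (hC ((E.mem_cent _).2 ⟨n, hn, rfl⟩)))
    (hconjR g (subset_closure hg))
  have hker : σ.ker ≤ π.ker := by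
    intro x hx
    rw [MonoidHom.mem_ker]
    have h : ((π x : G₀) : G) ∈ R := ⟨π x, ⟨x, hx, rfl⟩, rfl⟩
    rw [hR1, mem_bot] at h
    exact Subtype.ext h
  let χ : Cfsg.PSU 4 K 3 →* G₀ := (MonoidHom.liftOfSurjective σ hσ) ⟨π, hker⟩
  have hχ : ∀ x, χ (σ x) = π x := fun x => MonoidHom.liftOfRightInverse_comp_apply σ _ _ ⟨π, hker⟩ x
  have hχs : Function.Surjective χ := fun a => by
    obtain ⟨x, rfl⟩ := hπ a
    exact ⟨σ x, hχ x⟩
  haveI := hsimp
  rcases hsimp.eq_bot_or_eq_top_of_normal χ.ker inferInstance with hk | hk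
  · exact ⟨(MulEquiv.ofBijective χ ⟨(MonoidHom.ker_eq_bot_iff _).1 hk, hχs⟩).symm⟩
  · exfalso
    have hzG : z ∈ G₀ := hC (mem_centralizer_singleton_iff.2 rfl)
    obtain ⟨u, hu⟩ := hχs ⟨z, hzG⟩
    have hu1 : χ u = 1 := MonoidHom.mem_ker.1 (hk ▸ mem_top u)
    have hz : z = 1 := by
      have := hu.symm.trans hu1
      exact congrArg Subtype.val this
    exact absurd (E.inj zC oneC code_lt.2.1 code_lt.1 (by rw [E.map_z, E.map_one, hz]))
      (by decide +kernel)

end

end CfsgLib.U43Type
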