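import Cfsg.Agent.Lib.U43Type.Defs
import Cfsg.Agent.Lib.PresCert.Presented
import Cfsg.Agent.Lib.U43Type.Cert.KCert
import Cfsg.Agent.Lib.U43Type.Cert.NCert
import Cfsg.Agent.Lib.U43Type.Cert.GCert

/-!
# The bound on the order of a group on the eight letters

Three coset enumerations: `⊥ ≤ ⟨0..3⟩ ≤ ⟨0..3, 5⟩ ≤ ⟨0..7⟩` of indices at most `384, 45, 1701`.
-/

set_option autoImplicit false

namespace CfsgLib.U43Type

open Subgroup CfsgLib.PresCert

universe u

/-- The subgroup generated by letters `f x` with `x` in a list. -/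
def lsub {G : Type u} [Group G] (f : ℕ → G) (l : List ℕ) : Subgroup G :=
  closure {q | ∃ x ∈ l, f x = q}

/-- A valid certificate on involution letters bounds the order of the subgroup generated. -/
theorem cardLE_of_cert {G : Type u} [Group G] {C : Cert} {js : List Cert.Just}
    (V : Cert.Valid C js) (f : ℕ → G) (hiv : ∀ x < C.g, C.iv x = x)
    (hsq : ∀ x < C.g, f x * f x = 1)
    (hrel : ∀ r ∈ C.rels, (∀ x ∈ r, x < C.g) ∧ (r.map f).prod = 1)
    (l₀ : List ℕ) (hsubs : ∀ r ∈ C.subs, ∃ x ∈ l₀, r = [x]) (hl₀ : ∀ x ∈ l₀, x < C.g) {b : ℕ}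
    (hK : CardLE (lsub f l₀) b) : CardLE (lsub f (List.range C.g)) (C.n * b) := by
  have hKL : lsub f l₀ ≤ lsub f (List.range C.g) :=
    closure_mono fun q ⟨x, hx, e⟩ => ⟨x, List.mem_range.2 (hl₀ x hx), e⟩
  refine CardLE.step hKL hK ?_
  set L := lsub f (List.range C.g) with hL
  let gen : ℕ → L := fun x =>
    if h : x < C.g then ⟨f x, subset_closure ⟨x, List.mem_range.2 h, rfl⟩⟩ else 1
  have hgen : ∀ x, x < C.g → (gen x : G) = f x := fun x hx => by simp [gen, hx]
  have hprod : ∀ r : List ℕ, (∀ x ∈ r, x < C.g) → ((r.map gen).prod : L).1 = (r.map f).prod := by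
    intro r hr
    rw [← Subgroup.coe_subtype, map_list_prod, List.map_map]
    exact congrArg List.prod (List.map_congr_left fun x hx => hgen x (hr x hx))
  let M : Model C L :=
    { gen := gen
      gen_inv := fun x hx => by
        refine ⟨(hiv x hx).symm ▸ hx, ?_⟩
        rw [hiv x hx]
        refine eq_inv_of_mul_eq_one_left (Subtype.ext ?_)
        rw [Subgroup.coe_mul, hgen x hx, hsq x hx, Subgroup.coe_one]
      rels_eq := fun r hr => ⟨(hrel r hr).1, Subtype.ext ((hprod r (hrel r hr).1).trans (hrel r hr).2)⟩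
      sub := (lsub f l₀).subgroupOf L
      subs_mem := fun r hr => by
        obtain ⟨x, hx, rfl⟩ := hsubs r hr
        show ((List.map gen [x]).prod : L).1 ∈ lsub f l₀
        rw [List.map_singleton, List.prod_singleton, hgen x (hl₀ x hx)]
        exact subset_closure ⟨x, hx, rfl⟩
      closure_gen := by
        apply map_injective L.subtype_injective
        rw [MonoidHom.map_closure, ← MonoidHom.range_eq_map, range_subtype]
        refine congrArg Subgroup.closure (Set.ext fun q => ?_)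
        constructor
        · rintro ⟨_, ⟨x, hx, rfl⟩, rfl⟩
          exact ⟨x, List.mem_range.2 hx, (hgen x hx).symm⟩
        · rintro ⟨x, hx, rfl⟩
          exact ⟨gen x, ⟨x, List.mem_range.1 hx, rfl⟩, hgen x (List.mem_range.1 hx)⟩ }
  obtain ⟨h1, h2⟩ := Cert.index_le M V
  exact ⟨h1, h2.index_ne_zero⟩

theorem val_eq {G : Type u} [Monoid G] (L : Fin 8 → G) (f : ℕ → G)
    (hf : ∀ x, f x = L (Fin.ofNat 8 x)) (w : List ℕ) : (w.map f).prod = val L w := by
  unfold val
  exact congrArg List.prod (List.map_congr_left fun x _ => hf x)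

/-- the renumbering of the letters of the middle certificate -/
def renN (x : ℕ) : ℕ := if x = 4 then 5 else x

theorem kFacts : Cert.K.cert.g = 4 ∧ Cert.K.cert.n = 384 ∧ Cert.K.cert.subs = [] ∧
    (∀ x < 4, Cert.K.cert.iv x = x) ∧
    ∀ r ∈ Cert.K.cert.rels, (∀ x ∈ r, x < 4) ∧ r ∈ allRels := by decide +kernel

theorem nFacts : Cert.N.cert.g = 5 ∧ Cert.N.cert.n = 45 ∧
    (∀ r ∈ Cert.N.cert.subs, ∃ x ∈ List.range 4, r = [x]) ∧
    (∀ x < 5, Cert.N.cert.iv x = x) ∧
    ∀ r ∈ Cert.N.cert.rels, (∀ x ∈ r, x < 5) ∧ r.map renN ∈ allRels := by decide +kernel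

theorem gFacts : Cert.G.cert.g = 8 ∧ Cert.G.cert.n = 1701 ∧
    (∀ r ∈ Cert.G.cert.subs, ∃ x ∈ [0, 1, 2, 3, 5], r = [x]) ∧
    (∀ x < 8, Cert.G.cert.iv x = x) ∧
    ∀ r ∈ Cert.G.cert.rels, (∀ x ∈ r, x < 8) ∧ r ∈ allRels := by decide +kernel

/-- P5: the bound from the certificates. -/
theorem bound_of : StmtBound.{u} := by
  intro G _ L hL
  let f : ℕ → G := fun x => L (Fin.ofNat 8 x)
  have hsq : ∀ x, f x * f x = 1 := fun x => hL.sq _
  have hval : ∀ w ∈ allRels, (w.map f).prod = 1 := fun w hw =>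
    (val_eq L f (fun _ => rfl) w).trans (hL.rels w hw)
  obtain ⟨kg, kn, ks, ki, kr⟩ := kFacts
  obtain ⟨ng, nn, ns, ni, nr⟩ := nFacts
  obtain ⟨gg, gn, gs, gi, gr⟩ := gFacts
  have h0 : CardLE (lsub f []) 1 := by
    simp [lsub, CardLE]
  have h1 : CardLE (lsub f (List.range 4)) (384 * 1) := by
    have := cardLE_of_cert Cert.K.valid f (fun x hx => ki x (kg ▸ hx)) (fun x _ => hsq x)
      (fun r hr => ⟨fun x hx => kg ▸ (kr r hr).1 x hx, hval r (kr r hr).2⟩) []
      (fun r hr => by rw [ks] at hr; simp at hr) (by simp) h0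
    rwa [kg, kn] at this
  have h2 : CardLE (lsub (f ∘ renN) (List.range 5)) (45 * (384 * 1)) := by
    have e : lsub (f ∘ renN) (List.range 4) = lsub f (List.range 4) := by
      refine congrArg Subgroup.closure (Set.ext fun q => exists_congr fun x => and_congr_right fun hx => ?_)
      have := List.mem_range.1 hx
      rw [Function.comp_apply, renN, if_neg (by omega)]
    have := cardLE_of_cert Cert.N.valid (f ∘ renN) (fun x hx => ni x (ng ▸ hx))
      (fun x _ => hsq _)
      (fun r hr => ⟨fun x hx => ng ▸ (nr r hr).1 x hx,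
        by rw [← List.map_map]; exact hval _ (nr r hr).2⟩)
      (List.range 4) ns (fun x hx => by rw [ng]; have := List.mem_range.1 hx; omega) (e ▸ h1)
    rwa [ng, nn] at this
  have h3 : CardLE (lsub f (List.range 8)) (1701 * (45 * (384 * 1))) := by
    have e : lsub (f ∘ renN) (List.range 5) = lsub f [0, 1, 2, 3, 5] := by
      refine congrArg Subgroup.closure (Set.ext fun q => ?_)
      constructor
      · rintro ⟨x, hx, rfl⟩
        have := List.mem_range.1 hx
        exact ⟨renN x, by unfold renN; interval_cases x <;> simp, rfl⟩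
      · rintro ⟨x, hx, rfl⟩
        refine ⟨if x = 5 then 4 else x, ?_, ?_⟩ <;>
          (fin_cases hx <;> simp [renN])
    have := cardLE_of_cert Cert.G.valid f (fun x hx => gi x (gg ▸ hx)) (fun x _ => hsq x)
      (fun r hr => ⟨fun x hx => gg ▸ (gr r hr).1 x hx, hval r (gr r hr).2⟩)
      [0, 1, 2, 3, 5] gs (fun x hx => by rw [gg]; fin_cases hx <;> simp) (e ▸ h2)
    rwa [gg, gn] at this
  have hr : lsub f (List.range 8) = closure (Set.range L) := by
    refine congrArg Subgroup.closure (Set.ext fun q => ?_)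
    constructor
    · rintro ⟨x, -, rfl⟩
      exact ⟨_, rfl⟩
    · rintro ⟨i, rfl⟩
      exact ⟨i, List.mem_range.2 i.2, by simp [f]⟩
  rw [hr] at h3
  exact ⟨Nat.finite_of_card_ne_zero h3.1, h3.2.trans (by norm_num)⟩

end CfsgLib.U43Type
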