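import Cfsg.Agent.Lib.U43Type.CensusFusion
import Cfsg.Agent.Lib.McLThree.CensusStrong
import Cfsg.Agent.Lib.ThreeTransp.UFourSeven
import Cfsg.Agent.Lib.Involutions.Basic

/-!
# U43Type: a subgroup `PSU₄(3)` containing the centraliser of `z` is everything
-/

set_option autoImplicit false
set_option linter.unusedSectionVars false
set_option linter.style.haveILetI false

namespace CfsgLib.U43Type

open Subgroup

universe u

namespace Census

theorem card_psu {K : Type} [Field K] [Fintype K] (hK : Fintype.card K = 9) :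
    Nat.card (Cfsg.PSU 4 K 3) = 3265920 := by
  have hF : Nat.card K = 3 ^ 2 := by rw [Nat.card_eq_fintype_card, hK]; norm_num
  have h := CfsgLib.Classical.card_PSU_mul (n := 4) hF (by norm_num)
  rw [CfsgLib.Classical.card_GU hF] at h
  simp only [Finset.prod_range_succ, Finset.prod_range_zero] at h
  norm_num [show Even 2 from ⟨1, rfl⟩, show ¬ Even 3 by decide] at h
  omega

/-- The normaliser of a subgroup of order seven. -/
theorem card_norm_seven {G : Type u} [Group G] {K : Type} [Field K] [Fintype K]
    (hK : Fintype.card K = 9) (e : G ≃* Cfsg.PSU 4 K 3) (X : Subgroup G) (hX : Nat.card X = 7) :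
    Nat.card (normalizer (X : Set G)) = 21 := by
  rw [Nat.card_congr (equivMapOfInjective (normalizer (X : Set G)) e.toMonoidHom e.injective).toEquiv,
    map_equiv_normalizer_eq]
  exact (CfsgLib.ThreeTransp.UFourSeven.psu_seven hK _
    (by rw [card_map_of_injective e.injective, hX])).1

/-- No odd subgroup has order divisible by 2835. -/
theorem not_odd_large {G : Type u} [Group G] [Finite G] {K : Type} [Field K] [Fintype K]
    (hK : Fintype.card K = 9) (e : G ≃* Cfsg.PSU 4 K 3) (L : Subgroup G)
    (hodd : Odd (Nat.card L)) (hdvd : 2835 ∣ Nat.card L) : False := by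
  haveI : Fact (Nat.Prime 7) := ⟨by norm_num⟩
  have hG : Nat.card G = 2 ^ 7 * 25515 := by
    rw [Nat.card_congr e.toEquiv, card_psu hK]
    norm_num
  have h1 : Nat.card L ∣ 25515 :=
    (Nat.Coprime.pow_right 7 (Nat.coprime_two_right.2 hodd)).dvd_of_dvd_mul_left
      (hG ▸ card_subgroup_dvd_card L)
  obtain ⟨P⟩ : Nonempty (Sylow 7 L) := inferInstance
  have hn := card_sylow_modEq_one 7 L
  have hidx : Nat.card (Sylow 7 L) * Nat.card (normalizer ((P : Subgroup L) : Set L)) = Nat.card L := by
    rw [Sylow.card_eq_index_normalizer P]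
    exact index_mul_card _
  have hP : Nat.card P = 7 := by
    rw [Sylow.card_eq_multiplicity]
    have h7 : (Nat.card L).factorization 7 = 1 := by
      refine le_antisymm ?_ ?_
      · have h := (Nat.factorization_le_iff_dvd Nat.card_pos.ne' (by norm_num)).2 h1 7
        rw [show (25515 : ℕ) = 7 ^ 1 * 3645 by norm_num,
          Nat.factorization_mul (by norm_num) (by norm_num), Finsupp.add_apply,
          Nat.factorization_pow_self (by norm_num),
          Nat.factorization_eq_zero_of_not_dvd (show ¬ 7 ∣ 3645 by norm_num)] at h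
        omega
      · exact (Nat.Prime.dvd_iff_one_le_factorization (by norm_num) Nat.card_pos.ne').1
          ((show 7 ∣ 2835 by norm_num).trans hdvd)
    rw [h7, pow_one]
  have hN21 : Nat.card (normalizer ((P : Subgroup L) : Set L)) ∣ 21 := by
    rw [← card_norm_seven hK e ((P : Subgroup L).map L.subtype)
      (by rw [card_map_of_injective L.subtype_injective, hP]),
      ← card_map_of_injective L.subtype_injective (K := normalizer ((P : Subgroup L) : Set L))]
    exact card_dvd_of_le (le_normalizer_map _)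
  have hN7 : 7 ∣ Nat.card (normalizer ((P : Subgroup L) : Set L)) :=
    (dvd_of_eq hP.symm).trans (card_dvd_of_le (Subgroup.le_normalizer (H := (P : Subgroup L))))
  obtain ⟨c, hc⟩ := hdvd
  generalize Nat.card (normalizer ((P : Subgroup L) : Set L)) = n at hidx hN21 hN7
  generalize Nat.card (Sylow 7 L) = s at hidx hn
  rw [hc] at h1 hidx
  have hc9 : c ∣ 9 := Nat.dvd_of_mul_dvd_mul_left (by norm_num : 0 < 2835) h1
  have hmem : c ∈ Nat.divisors 9 := Nat.mem_divisors.2 ⟨hc9, by norm_num⟩
  have hmem' : n ∈ Nat.divisors 21 := Nat.mem_divisors.2 ⟨hN21, by norm_num⟩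
  rw [show Nat.divisors 9 = {1, 3, 9} by decide] at hmem
  rw [show Nat.divisors 21 = {1, 3, 7, 21} by decide] at hmem'
  simp only [Finset.mem_insert, Finset.mem_singleton] at hmem hmem'
  rcases hmem' with rfl | rfl | rfl | rfl
  all_goals first
    | omega
    | (rcases hmem with rfl | rfl | rfl <;> (unfold Nat.ModEq at hn; omega))

end Census

open Census in
/-- P7 (with the two facts known where it is used): `H` is everything. -/
theorem census_of_fusion {G : Type u} [Group G] [Finite G] (z : G) (H : Subgroup G) (K : Type)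
    [Field K] [Fintype K] (hK : Fintype.card K = 9) (he : Nonempty (H ≃* Cfsg.PSU 4 K 3))
    (hzH : z ∈ H) (hz : orderOf z = 2) (hcent : centralizer ({z} : Set G) ≤ H)
    (hcard : Nat.card (centralizer ({z} : Set G)) = 1152)
    (hfus : ∀ x ∈ H, orderOf x = 2 → ∃ h ∈ H, h * z * h⁻¹ = x) :
    H = ⊤ ∧ Nat.card G = 2 ^ 7 * 3 ^ 6 * 5 * 7 ∧
      ∀ x y : G, orderOf x = 2 → orderOf y = 2 → IsConj x y := by
  haveI : Fact (Nat.Prime 2) := ⟨Nat.prime_two⟩
  obtain ⟨e⟩ := he
  have hHcard : Nat.card H = 3265920 := by rw [Nat.card_congr e.toEquiv, card_psu hK]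
  have ho : ∀ {X : Type u} [Group X] (x : X), x * x = 1 → x ≠ 1 → orderOf x = 2 :=
    fun x h1 h2 => orderOf_eq_prime (by rw [sq]; exact h1) h2
  have B : McLThree.Census.Strong H z :=
    { mem := hzH
      sq := by rw [← sq, ← hz]; exact pow_orderOf_eq_one z
      ne := fun h => by rw [h, orderOf_one] at hz; exact absurd hz (by norm_num)
      fusion := fun x hx h1 h2 => hfus x hx (ho x h1 h2)
      cent := hcent }
  have htop : H = ⊤ := by
    by_contra hne
    obtain ⟨y, L, -, hLH, hodd, -, hLcard⟩ := B.exists_odd hne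
    set z' : H := ⟨z, hzH⟩
    have hI : Nat.card {x : H // x * x = 1 ∧ x ≠ 1} = 2835 := by
      have h1 := Involutions.card_conjugates_mul z'
      have h2 : Nat.card (centralizer ({z'} : Set H)) = 1152 := by
        rw [← hcard]
        exact Nat.card_congr
          { toFun := fun x => ⟨x.1.1, mem_centralizer_singleton_iff.2
              (congrArg Subtype.val (mem_centralizer_singleton_iff.1 x.2))⟩
            invFun := fun x => ⟨⟨x.1, hcent x.2⟩, mem_centralizer_singleton_iff.2
              (Subtype.ext (mem_centralizer_singleton_iff.1 x.2))⟩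
            left_inv := fun _ => rfl
            right_inv := fun _ => rfl }
      have h3 : Nat.card {x : H // x * x = 1 ∧ x ≠ 1} = Nat.card {x : H // IsConj z' x} := by
        refine Nat.card_congr (Equiv.subtypeEquivRight fun x => ⟨fun hx => ?_, fun hx => ?_⟩)
        · obtain ⟨h, hh, he⟩ := hfus x x.2 (ho _ (congrArg Subtype.val hx.1)
            fun h => hx.2 (Subtype.ext h))
          exact isConj_iff.2 ⟨⟨h, hh⟩, Subtype.ext he⟩
        · obtain ⟨h, rfl⟩ := isConj_iff.1 hx
          refine ⟨?_, fun e => B.ne (congrArg Subtype.val (conj_eq_one_iff.1 e))⟩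
          rw [show h * z' * h⁻¹ * (h * z' * h⁻¹) = h * (z' * z') * h⁻¹ by group,
            show z' * z' = 1 from Subtype.ext B.sq]
          group
      rw [h2, hHcard] at h1
      rw [h3]
      omega
    refine not_odd_large hK e (L.subgroupOf H) ?_ ?_ <;>
      rw [Nat.card_congr (subgroupOfEquivOfLe hLH).toEquiv]
    · exact hodd
    · rw [hLcard, hI]
      exact dvd_mul_right _ _
  refine ⟨htop, ?_, fun x y hx hy => ?_⟩
  · rw [← Subgroup.card_top (G := G), ← htop, hHcard]
    norm_num
  · obtain ⟨h, -, rfl⟩ := hfus x (htop ▸ mem_top x) hx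
    obtain ⟨h', -, rfl⟩ := hfus y (htop ▸ mem_top y) hy
    exact (isConj_iff.2 ⟨h, rfl⟩ : IsConj z _).symm.trans (isConj_iff.2 ⟨h', rfl⟩)

/-- The form used in the assembly. -/
theorem census_link {G : Type u} [Group G] [Finite G] {z : G} {Q : Subgroup G}
    (E : Emb true true z Q) {g : G} (hg : Link E g) (hz : orderOf z = 2)
    (hcard : Nat.card (centralizer ({z} : Set G)) = 1152) (H : Subgroup G)
    (hH : ∀ n < 1152, E.φ n ∈ H) (hgH : g ∈ H) (K : Type) [Field K] [Fintype K]
    (hK : Fintype.card K = 9) (he : Nonempty (H ≃* Cfsg.PSU 4 K 3)) :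
    H = ⊤ ∧ Nat.card G = 2 ^ 7 * 3 ^ 6 * 5 * 7 ∧
      ∀ x y : G, orderOf x = 2 → orderOf y = 2 → IsConj x y := by
  obtain ⟨e⟩ := he
  refine census_of_fusion z H K hK ⟨e⟩ ?_ hz ?_ hcard (Census.fusion_of_link E hg hH hgH hcard ?_)
  · rw [← E.map_z]; exact hH zC (by decide)
  · intro a ha
    obtain ⟨n, hn, rfl⟩ := (E.mem_cent a).1 ha
    exact hH n hn
  · rw [Nat.card_congr e.toEquiv, Census.card_psu hK]
    norm_num

end CfsgLib.U43Type
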