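import Cfsg.Agent.Lib.U43Type.Defs

/-!
# U43Type: one class of involutions from the model of the centraliser and the link
-/

set_option autoImplicit false
set_option maxRecDepth 100000
set_option linter.style.longLine false
set_option linter.unusedSectionVars false
set_option linter.style.haveILetI false

namespace CfsgLib.U43Type

open Subgroup

universe u

namespace Census

/-- A spanning tree on the involutions of the model: child, parent, step (a code, or 1152 for the
link). -/
def tree : List (ℕ × ℕ × ℕ) := [(0, 348, 1152), (1148, 0, 901), (748, 0, 549), (764, 0, 971), (1096, 1148, 1112), (56, 1148, 971), (1099, 1148, 1152), (728, 748, 1112), (1068, 748, 971), (731, 748, 1152), (1132, 764, 3), (76, 764, 901), (1056, 764, 549), (349, 764, 1152), (12, 1096, 901), (751, 1096, 1152), (672, 56, 3), (712, 56, 901), (3, 1099, 901), (1151, 1099, 549), (939, 1099, 971), (92, 1068, 3), (455, 731, 971), (313, 1132, 1152), (684, 76, 3), (40, 1056, 3), (649, 349, 901), (449, 349, 549), (1133, 349, 971), (15, 751, 549), (415, 751, 971), (1112, 712,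 3), (13, 712, 1152), (315, 3, 1112), (775, 3, 971), (915, 1151, 971), (547, 939, 3), (143, 939, 549), (663, 455, 3), (625, 313, 901), (417, 313, 549), (1113, 313, 971), (981, 649, 1112), (509, 649, 3), (777, 449, 1112), (901, 449, 3), (713, 1133, 3), (965, 1133, 901), (785, 1133, 549), (351, 15, 1112), (791, 15, 971), (615, 415, 3), (187, 415, 901), (1, 1112, 1152), (979, 775, 3), (515, 915, 3), (275, 143, 3), (549, 625, 3), (949, 417, 3), (765, 1113, 3), (281, 509, 1112), (237, 509, 971), (149, 901, 1112), (177, 901, 971), (971, 791, 3), (247, 187, 3)]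

/-- The steps of the tree are moves, each from an element already reached. -/
def chkTree : List ℕ → List (ℕ × ℕ × ℕ) → Bool
  | _, [] => true
  | seen, (y, x, c) :: l =>
    seen.any (fun a => Nat.beq a x) &&
    (if c < 1152 then Nat.beq (hm (hm c x) c) y && Nat.beq (hm c c) oneC && decide (x < 1152) &&
        decide (hm c x < 1152)
      else linkTab.any (fun p => Nat.beq p.1 x && Nat.beq p.2 y)) &&
    chkTree (y :: seen) l

/-- Every code is reached or does not square to the identity. -/
def chkAll : Bool :=
  (List.range 1152).all fun n => decide (hm n n < 1152) &&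
    (!Nat.beq (hm n n) oneC || Nat.beq n oneC || Nat.beq n zC ||
      tree.any (fun p => Nat.beq p.1 n))

theorem chkTree_eq : chkTree [zC] tree = true := by decide +kernel

theorem chkAll_eq : chkAll = true := by decide +kernel

variable {G : Type u} [Group G] {z : G} {Q : Subgroup G} (E : Emb true true z Q)

theorem emb_one : E.φ oneC = 1 := by
  have h := E.map_mul oneC oneC (by decide) (by decide)
  rw [show hmul true true oneC oneC = oneC by decide +kernel] at h
  exact mul_eq_left.1 h.symm

/-- Conjugate to `z` inside `H`. -/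
def Good (z : G) (H : Subgroup G) (x : G) : Prop := ∃ h ∈ H, h * z * h⁻¹ = x

theorem Good.move {H : Subgroup G} {x g : G} (hx : Good z H x) (hg : g ∈ H) :
    Good z H (g * x * g⁻¹) := by
  obtain ⟨h, hh, rfl⟩ := hx
  exact ⟨g * h, mul_mem hg hh, by group⟩

variable {g : G} (hg : Link E g) {H : Subgroup G} (hH : ∀ n < 1152, E.φ n ∈ H) (hgH : g ∈ H)
include hg hH hgH

theorem good_tree : ∀ (l : List (ℕ × ℕ × ℕ)) (seen : List ℕ), chkTree seen l = true →
    (∀ a ∈ seen, Good z H (E.φ a)) → ∀ p ∈ l, Good z H (E.φ p.1)
  | [], _, _, _ => by simp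
  | (y, x, c) :: l, seen, hchk, hseen => by
    simp only [chkTree, Bool.and_eq_true, List.any_eq_true, Nat.beq_eq] at hchk
    obtain ⟨⟨⟨a, ha, hax⟩, hstep⟩, hrest⟩ := hchk
    subst hax
    have hy : Good z H (E.φ y) := by
      split at hstep
      · rename_i hc
        simp only [Bool.and_eq_true, Nat.beq_eq, decide_eq_true_eq] at hstep
        obtain ⟨⟨⟨h1, h2⟩, h3⟩, h4⟩ := hstep
        have e := E.map_mul c c hc hc
        rw [show hmul true true c c = oneC from h2, emb_one E] at e
        have hinv : (E.φ c)⁻¹ = E.φ c := inv_eq_of_mul_eq_one_right e.symm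
        have e2 := E.map_mul (hm c a) c h4 hc
        rw [show hm c a = hmul true true c a from rfl, E.map_mul c a hc h3] at e2
        rw [← h1]
        show Good z H (E.φ (hmul true true (hmul true true c a) c))
        rw [e2]
        conv => arg 3; arg 2; rw [← hinv]
        exact (hseen a ha).move (hH c hc)
      · simp only [List.any_eq_true, Bool.and_eq_true, Nat.beq_eq] at hstep
        obtain ⟨p, hp, h1, h2⟩ := hstep
        rw [← h2, ← hg.act p hp, h1]
        exact (hseen a ha).move hgH
    intro p hp
    rcases List.mem_cons.1 hp with rfl | hp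
    · exact hy
    · exact good_tree l (y :: seen) hrest (fun b hb => by
        rcases List.mem_cons.1 hb with rfl | hb
        · exact hy
        · exact hseen b hb) p hp

/-- Every involution of the centraliser is conjugate to `z` in `H`. -/
theorem good_of_cent {x : G} (hx : x ∈ centralizer ({z} : Set G)) (h2 : orderOf x = 2) :
    Good z H x := by
  obtain ⟨n, hn, rfl⟩ := (E.mem_cent x).1 hx
  have h := List.all_eq_true.1 chkAll_eq n (List.mem_range.2 hn)
  simp only [Bool.and_eq_true, Bool.or_eq_true, Bool.not_eq_true', decide_eq_true_eq,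
    List.any_eq_true, Nat.beq_eq] at h
  obtain ⟨hlt, h⟩ := h
  have hsq : E.φ (hm n n) = E.φ oneC := by
    rw [show hm n n = hmul true true n n from rfl, E.map_mul n n hn hn, emb_one E]
    have := pow_orderOf_eq_one (E.φ n)
    rwa [h2, sq] at this
  have hne : n ≠ oneC := fun e => by
    rw [e, emb_one E, orderOf_one] at h2
    exact absurd h2 (by norm_num)
  have hz : Good z H (E.φ zC) := ⟨1, one_mem H, by rw [E.map_z]; group⟩
  rcases h with ((h | h) | h) | ⟨p, hp, hpn⟩
  · exact absurd (E.inj _ _ hlt (by decide) hsq) (fun e => by simp [e] at h)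
  · exact absurd h hne
  · rw [h]; exact hz
  · rw [← hpn]
    exact good_tree E hg hH hgH tree [zC] chkTree_eq
      (fun a ha => by rw [List.mem_singleton.1 ha]; exact hz) p hp

/-- A group with Sylow two-subgroups of order at most 128, containing the link and the
centraliser, has one class of involutions. -/
theorem fusion_of_link [Finite G] (hcard : Nat.card (centralizer ({z} : Set G)) = 1152)
    (h256 : ¬ 256 ∣ Nat.card H) :
    ∀ x ∈ H, orderOf x = 2 → ∃ h ∈ H, h * z * h⁻¹ = x := by
  haveI : Fact (Nat.Prime 2) := ⟨Nat.prime_two⟩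
  intro x hxH hx
  set C := centralizer ({z} : Set G) with hC
  have hCH : C ≤ H := fun a ha => by
    obtain ⟨n, hn, rfl⟩ := (E.mem_cent a).1 ha
    exact hH n hn
  obtain ⟨P⟩ : Nonempty (Sylow 2 ↥C) := inferInstance
  set U := (P : Subgroup ↥C).map C.subtype with hU
  have hUcard : Nat.card U = 128 := by
    rw [hU, card_map_of_injective C.subtype_injective, P.card_eq_multiplicity, hcard,
      show (1152 : ℕ) = 2 ^ 7 * 9 by norm_num, Nat.factorization_mul (by norm_num) (by norm_num),
      Finsupp.add_apply, Nat.factorization_pow_self Nat.prime_two,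
      Nat.factorization_eq_zero_of_not_dvd (by norm_num)]
    norm_num
  have hUH : U ≤ H := (map_subtype_le _).trans hCH
  have hp : IsPGroup 2 (U.subgroupOf H) := (P.2.map C.subtype).comap_subtype
  have hidx : ¬ 2 ∣ (U.subgroupOf H).index := fun h => h256 (by
    rw [← (U.subgroupOf H).card_mul_index,
      Nat.card_congr (subgroupOfEquivOfLe hUH).toEquiv, hUcard]
    exact (show 256 = 128 * 2 by rfl) ▸ Nat.mul_dvd_mul_left 128 h)
  obtain ⟨R, hR⟩ := (IsPGroup.of_card (n := 1)
    (by rw [Nat.card_zpowers, orderOf_mk, hx, pow_one]) :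
      IsPGroup 2 (zpowers (⟨x, hxH⟩ : H))).exists_le_sylow
  obtain ⟨k, hk⟩ := MulAction.exists_smul_eq H R (hp.toSylow hidx)
  have hkx : (k : G) * x * (k : G)⁻¹ ∈ U := by
    have h1 : k * ⟨x, hxH⟩ * k⁻¹ ∈ ((k • R : Sylow 2 H) : Subgroup H) :=
      ⟨⟨x, hxH⟩, hR (mem_zpowers _), rfl⟩
    rw [hk] at h1
    exact h1
  obtain ⟨h, hh, he⟩ := good_of_cent E hg hH hgH (map_subtype_le _ hkx)
    (by rw [← hx]; exact (MulAut.conj (k : G)).orderOf_eq x)
  exact ⟨(k : G)⁻¹ * h, mul_mem (inv_mem k.2) hh, by
    calc (k : G)⁻¹ * h * z * ((k : G)⁻¹ * h)⁻¹ = (k : G)⁻¹ * (h * z * h⁻¹) * k := by group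
      _ = x := by rw [he]; group⟩

end Census

end CfsgLib.U43Type
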