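/-!
# S5390 / S5391: data (emitted by tools/u43/emitdata.py)
-/

set_option autoImplicit false
set_option maxRecDepth 20000

namespace CfsgLib.U43Type

/-- products of the 24 matrices, five bits each -/
def mulTab : Nat := 0x785b501e4250d3129a8465ed09a16e889d70a2805955021e636daaf9192c8019611a614916f1a245756f1a1d4d24ce5828766a03770a2b050cc4c9f51c9047acb571856602090cced552372d0c38a49761c15685ea1490e5ce165a54e635063ca74adaef8444008c854a96c6b8c745253bd6d17c0011146452d2d730e834e92b5eb08bc22010a303202358299bc8b90d152ba34bb4ea13a2145c0ba40aa990f61b5f2ab0c90b5e03d44a94469a14d723213b390b3926a2c1a3b06e8145c0a2d2663eb2316891c584b82a70bda292968742d340e4b23dc5a8ac6041819a5476c6f4aded2a4df18358e525673206520402b56f39520f8b1cd4ad4641c8328041bdab49ca307b9ac5a928398a41882064006b09330ade44486ea96978a9a76bc27a815212623350acb927682dc874448b857402a053cc8db0e557a586a18b148eec254e07b432509cb45a709206f592ae2d8c283013485aa3de9199c90516cd1dd018b854581893564f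

/-- conjugation by diag (1,-1) -/
def thTab : Nat := 0x9d256bd6117a9696b9874184101483

/-- multiplication by -1 -/
def negTab : Nat := 0x52d2d730e834e92b5eb08bc22010a3

/-- the twelve chosen representatives modulo -1 -/
def posTab : Nat := 0x7358b5250730820

/-- one plus the index of a representative, zero for the others -/
def posIdx : Nat := 0x316a4a0e62900000c41

/-- elements of the quaternion subgroup -/
def quatBits : Nat := 0x88c449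

/-- the identity -/
def oneC : Nat := 312

/-- the central involution -/
def zC : Nat := 348

/-- the chosen involution of `Q` -/
def eC : Nat := 0

/-- five involutions generating, the first four generate the normalizer of `elab1` -/
def letC : List Nat := [1112, 3, 901, 549, 971]

/-- the centraliser of `eC` with the action of the link -/
def linkTab : List (Nat × Nat) := [(0, 348), (1, 1112), (2, 1135), (3, 3), (12, 12), (13, 712), (14, 767), (15, 315), (24, 1150), (25, 26), (26, 25), (27, 729), (60, 730), (61, 302), (62, 301), (63, 1149), (288, 750), (289, 290), (290, 289), (291, 1097), (300, 1098), (301, 62), (302, 61), (303, 749), (312, 312), (313, 1132), (314, 1115), (315, 15), (348, 0), (349, 764), (350, 715), (351, 351), (712, 13), (713, 713), (714, 714), (715, 350), (728, 1151), (729, 27), (730, 60), (731, 748), (748,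 731), (749, 303), (750, 288), (751, 1096), (764, 349), (765, 1113), (766, 1114), (767, 14), (1096, 751), (1097, 291), (1098, 300), (1099, 1148), (1112, 1), (1113, 765), (1114, 766), (1115, 314), (1132, 313), (1133, 1133), (1134, 1134), (1135, 2), (1148, 1099), (1149, 63), (1150, 24), (1151, 728)]

/-- a list of codes -/
def dList : List Nat := [0, 12, 24, 60, 288, 300, 312, 348, 712, 728, 748, 764, 1096, 1112, 1132, 1148]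

/-- a list of codes -/
def wList : List Nat := [0, 1, 12, 13, 312, 313, 348, 349, 730, 731, 750, 751, 1098, 1099, 1150, 1151]

/-- a list of codes -/
def elab1 : List Nat := [0, 3, 12, 15, 312, 315, 348, 351, 728, 731, 748, 751, 1096, 1099, 1148, 1151]

/-- a list of codes -/
def elab2 : List Nat := [0, 1, 12, 13, 312, 313, 348, 349, 712, 713, 764, 765, 1112, 1113, 1132, 1133]

/-- relators in `0 .. 5` -/
def relsLocal : List (List Nat) := [[0, 2, 0, 2, 3, 0, 3], [2, 3, 2, 1, 3, 2, 3, 1], [1, 0, 1, 2, 1, 3, 1, 3, 2, 0], [0, 2, 0, 2, 3, 0, 3], [0, 2, 4, 2, 3, 4, 3], [1, 4, 2, 4, 1, 0, 2, 0], [2, 3, 2, 1, 3, 2, 3, 1], [2, 4, 1, 4, 2, 1, 4, 1], [0, 1, 0, 4, 1, 4, 0, 1, 4], [5, 0, 1, 0, 1, 5, 4, 2, 4, 0, 2, 0], [5, 2, 3, 2, 5, 0], [5, 0, 1, 0, 2, 3, 2, 5, 2, 0, 1, 0, 2, 0], [5, 1, 0, 3, 1, 3, 5, 0, 2, 3, 1, 2, 0], [5, 1, 0, 1, 5,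 3, 2, 3], [2, 5, 2, 5, 2, 5, 2, 5, 2, 5], [3, 5, 3, 5, 3, 5, 3, 5, 3, 5], [0, 3, 0, 5, 0, 3, 0, 5, 0, 3, 0, 5, 0, 3, 0, 5, 0, 3, 0, 5], [3, 0, 3, 5, 3, 0, 3, 5, 3, 0, 3, 5], [0, 2, 0, 5, 0, 2, 0, 5, 0, 2, 0, 5, 0, 2, 0, 5, 0, 2, 0, 5], [2, 3, 0, 5, 2, 3, 0, 5, 2, 3, 0, 5, 2, 3, 0, 5, 2, 3, 0, 5], [3, 2, 0, 5, 3, 2, 0, 5, 3, 2, 0, 5, 3, 2, 0, 5, 3, 2, 0, 5], [0, 3, 2, 5, 0, 3, 2, 5, 0, 3, 2, 5, 0, 3, 2, 5, 0, 3, 2, 5], [2, 0, 2, 5, 2, 0, 2, 5, 2, 0, 2, 5], [0, 2, 3, 5, 0, 2, 3, 5, 0, 2, 3, 5, 0, 2, 3, 5, 0, 2, 3, 5], [3, 0, 2, 3, 5, 3, 0, 2, 3, 5, 3, 0, 2, 3, 5], [2, 0, 3, 2, 5, 2, 0, 3, 2, 5, 2, 0, 3, 2, 5], [4, 5, 4, 5, 4, 5, 4, 5, 4, 5], [4, 1, 5, 4, 1, 5, 4, 1, 5, 4, 1, 5, 4, 1, 5], [1, 4, 5, 1, 4, 5, 1, 4, 5, 1, 4, 5, 1, 4, 5], [3, 4, 3, 5, 3, 4, 3, 5, 3, 4, 3, 5, 3, 4, 3, 5, 3, 4, 3, 5], [4, 1, 4, 5, 4, 1, 4, 5, 4, 1, 4,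 5, 4, 1, 4, 5, 4, 1, 4, 5], [3, 0, 3, 5, 3, 0, 3, 5, 3, 0, 3, 5], [2, 0, 2, 1, 5, 2, 0, 2, 1, 5, 2, 0, 2, 1, 5], [1, 3, 0, 3, 5, 1, 3, 0, 3, 5, 1, 3, 0, 3, 5], [1, 3, 4, 3, 5, 1, 3, 4, 3, 5, 1, 3, 4, 3, 5, 1, 3, 4, 3, 5, 1, 3, 4, 3, 5], [2, 4, 2, 1, 5, 2, 4, 2, 1, 5, 2, 4, 2, 1, 5, 2, 4, 2, 1, 5, 2, 4, 2, 1, 5], [3, 0, 1, 3, 1, 5, 3, 0, 1, 3, 1, 5, 3, 0, 1, 3, 1, 5], [4, 2, 1, 2, 4, 5, 4, 2, 1, 2, 4, 5, 4, 2, 1, 2, 4, 5, 4, 2, 1, 2, 4, 5, 4, 2, 1, 2, 4, 5]]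

/-- relators involving the letters 6, 7 -/
def relsThree : List (List Nat) := [[0, 2, 0, 4, 2, 4, 5, 4, 5, 1, 3, 1, 2, 5, 4, 5, 6], [0, 2, 0, 4, 2, 4, 6, 0, 3, 1, 2, 0, 4, 6, 4, 2, 4, 0, 2, 0, 4, 0, 2, 1, 3, 0], [0, 2, 0, 4, 2, 4, 6, 1, 2, 4, 3, 6, 4, 2, 4, 0, 2, 0, 3, 4, 2, 1], [0, 2, 0, 4, 2, 4, 5, 1, 4, 5, 1, 2, 1, 3, 5, 4, 1, 5, 7], [0, 2, 0, 4, 2, 4, 7, 0, 3, 1, 2, 0, 4, 7, 4, 2, 4, 0, 2, 0, 4, 0, 2, 1, 3, 0], [0, 2, 0, 4, 2, 4, 7, 1, 2, 4, 3, 7, 4, 2, 4, 0, 2, 0, 3, 4, 2, 1], [0, 2, 0, 4, 2, 4, 6, 0, 2, 0, 4, 2, 4, 7, 6, 4, 2, 4, 0, 2, 0, 7, 4, 2, 4, 0, 2, 0], [2, 0, 2, 0, 4, 2, 4, 6, 2, 0, 2, 0, 4, 2, 4, 6], [2, 0, 2, 0, 4, 2, 4, 7, 2, 7, 4, 2, 4, 0, 2, 0], [1, 3, 1, 0, 2, 0, 4, 2, 4, 6, 1, 3, 1, 0, 2, 0, 4, 2, 4, 6], [1, 3, 1, 0, 2, 0, 4, 2, 4, 7, 1, 3, 1, 7, 4, 2, 4, 0, 2, 0], [1, 2, 3, 0, 2, 0, 4, 2, 4, 6, 3, 2, 1,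 0, 2, 0, 4, 2, 4, 7], [1, 2, 3, 0, 2, 0, 4, 2, 4, 7, 3, 2, 1, 0, 2, 0, 4, 2, 4, 6], [3, 4, 3, 0, 2, 0, 4, 2, 4, 6, 3, 4, 3, 0, 2, 0, 4, 2, 4, 7], [3, 4, 3, 0, 2, 0, 4, 2, 4, 7, 3, 4, 3, 0, 2, 0, 4, 2, 4, 6]]

/-- generators of the Sylow 3-subgroup -/
def x1C : Nat := 600

/-- second generator -/
def x2C : Nat := 324

/-- for the letters 6, 7: (`x`, the involution `w`, a word `c` with `z ^ c = w`, an element `h` of order 3);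
the letter is `z * (c⁻¹ h c)` -/
def threeSrc : List (Nat × Nat × List Nat × Nat) := [(612, 349, [5, 4, 5], 900), (612, 313, [5, 4, 1, 5], 508)]

end CfsgLib.U43Type
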