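import Mathlib
import Cfsg.Agent.Lib.U43Type.Data
import Cfsg.Prelude.Def_CaseTheorems

/-!
# S5390 / S5391 (groups of `U₄(3)` type): interface

The centraliser of `z` is modelled by the codes `n < 1152` of `hmul`; `eC`, `dList`, `wList`,
`elab1`, `elab2` are codes.  Route: see `tools/u43/PLAN.md`.
-/

set_option autoImplicit false

namespace CfsgLib.U43Type

open Subgroup

universe u

/-- an entry of a table with five bits per entry -/
def tab5 (t i : ℕ) : ℕ := (t >>> (5 * i)) % 32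

/-- product of two of the 24 matrices -/
def mm (a b : ℕ) : ℕ := tab5 mulTab (24 * a + b)

/-- code of a pair modulo the common sign -/
def normP (a b : ℕ) : ℕ :=
  let k := tab5 posIdx a
  if k = 0 then 24 * (tab5 posIdx (tab5 negTab a) - 1) + tab5 negTab b else 24 * (k - 1) + b

/-- The product in the four candidate models of the centraliser of `z`: the code `4 k + 2 j + i`
stands for `k t^j w^i`, `k` a pair modulo the common sign, `t² = z^ε`, `w² = 1`, `w t = t w z^δ`. -/
def hmul (ε δ : Bool) (m n : ℕ) : ℕ :=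
  let k := m / 4
  let j := m / 2 % 2
  let i := m % 2
  let l := n / 4
  let q := n / 2 % 2
  let p := n % 2
  let c₀ := tab5 posTab (l / 24)
  let d₀ := l % 24
  let c₁ := if i = 1 then d₀ else c₀
  let d₁ := if i = 1 then c₀ else d₀
  let c := if j = 1 then tab5 thTab c₁ else c₁
  let d := if j = 1 then tab5 thTab d₁ else d₁
  let b := mm (k % 24) d
  let s := ((if δ then i * q else 0) + (if ε then j * q else 0)) % 2
  4 * normP (mm (tab5 posTab (k / 24)) c) (if s = 1 then tab5 negTab b else b) +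
    2 * ((j + q) % 2) + (i + p) % 2

/-- the product in the model of the centraliser in `U₄(3)` -/
def hm (m n : ℕ) : ℕ := hmul true true m n

/-- membership in `Q` -/
def inQ (n : ℕ) : Bool :=
  n % 4 == 0 && quatBits.testBit (tab5 posTab (n / 4 / 24)) && quatBits.testBit (n / 4 % 24)

/-- The common content of the hypotheses of S5390 and S5391. -/
structure Hyp (G : Type u) [Group G] (z : G) (Q : Subgroup G) : Prop where
  ord : orderOf z = 2
  card : Nat.card (centralizer ({z} : Set G)) = 1152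
  shape : ∃ H₁ H₂ : Subgroup G, H₁ ≤ centralizer ({z} : Set G) ∧ H₂ ≤ centralizer ({z} : Set G) ∧
    Nonempty (H₁ ≃* Matrix.SpecialLinearGroup (Fin 2) (ZMod 3)) ∧
    Nonempty (H₂ ≃* Matrix.SpecialLinearGroup (Fin 2) (ZMod 3)) ∧
    H₁ ⊓ H₂ = zpowers z ∧ H₂ ≤ normalizer (H₁ : Set G) ∧ H₁ ≤ normalizer (H₂ : Set G) ∧
    centralizer ({z} : Set G) ≤ normalizer ((H₁ ⊔ H₂ : Subgroup G) : Set G) ∧
    (∀ x ∈ centralizer ({z} : Set G), Odd (orderOf x) → x ∈ H₁ ⊔ H₂) ∧ Q ≤ H₁ ⊔ H₂ ∧
    ∀ R : Subgroup G, R ≤ H₁ ⊔ H₂ → H₁ ⊔ H₂ ≤ normalizer (R : Set G) → IsPGroup 2 R → R ≤ Q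
  le : Q ≤ centralizer ({z} : Set G)
  twoQ : IsPGroup 2 Q
  nQ : centralizer ({z} : Set G) ≤ normalizer (Q : Set G)
  centQ : ∀ a ∈ centralizer ({z} : Set G), (∀ q ∈ Q, a * q = q * a) → a ∈ Q
  fused : ∃ g : G, g * z * g⁻¹ ∈ Q ∧ g * z * g⁻¹ ≠ z
  inter : ∀ g : G, g * z * g⁻¹ ∈ Q → g * z * g⁻¹ ≠ z →
    Nat.card ↥(Q ⊓ Q.map (MulAut.conj g).toMonoidHom) = 4

/-- The centraliser of `z` coded by the model with parameters `ε`, `δ`. -/
structure Emb (ε δ : Bool) {G : Type u} [Group G] (z : G) (Q : Subgroup G) where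
  φ : ℕ → G
  map_mul : ∀ m n, m < 1152 → n < 1152 → φ (hmul ε δ m n) = φ m * φ n
  inj : ∀ m n, m < 1152 → n < 1152 → φ m = φ n → m = n
  mem_cent : ∀ a : G, a ∈ centralizer ({z} : Set G) ↔ ∃ n < 1152, φ n = a
  map_z : φ zC = z
  mem_Q : ∀ n < 1152, φ n ∈ Q ↔ inQ n = true

/-- The value of a word of involution letters. -/
def val {G : Type u} [Monoid G] {k : ℕ} (L : Fin (k + 1) → G) (w : List ℕ) : G :=
  (w.map fun i => L (Fin.ofNat (k + 1) i)).prod

/-- An element exchanging `z` and `e` as in `U₄(3)`. -/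
structure Swap {G : Type u} [Group G] {z : G} {Q : Subgroup G} (E : Emb true true z Q) (g : G) :
    Prop where
  gz : g * z * g⁻¹ = E.φ eC
  ge : g * E.φ eC * g⁻¹ = z
  gD : ∀ n ∈ dList, ∃ m ∈ wList, g * E.φ n * g⁻¹ = E.φ m
  gW : ∀ n ∈ wList, ∃ m ∈ dList, g * E.φ n * g⁻¹ = E.φ m
  gE₁ : ∀ n ∈ elab1, ∃ m ∈ elab1, g * E.φ n * g⁻¹ = E.φ m
  gE₂ : ∀ n ∈ elab2, ∃ m ∈ elab2, g * E.φ n * g⁻¹ = E.φ m

/-- The first six letters. -/
def locLetters {G : Type u} [Group G] {z : G} {Q : Subgroup G} (E : Emb true true z Q) (g : G) :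
    Fin 6 → G :=
  ![E.φ (letC.getD 0 0), E.φ (letC.getD 1 0), E.φ (letC.getD 2 0), E.φ (letC.getD 3 0),
    E.φ (letC.getD 4 0), g]

/-- The link `g` normalised as in `U₄(3)`. -/
structure Link {G : Type u} [Group G] {z : G} {Q : Subgroup G} (E : Emb true true z Q) (g : G) :
    Prop where
  sq : g * g = 1
  act : ∀ p ∈ linkTab, g * E.φ p.1 * g⁻¹ = E.φ p.2
  local_rels : ∀ r ∈ relsLocal, val (locLetters E g) r = 1

/-- all relators -/
def allRels : List (List ℕ) := relsLocal ++ relsThree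

/-- Eight involution letters satisfying the relators. -/
structure Letters (G : Type u) [Group G] (L : Fin 8 → G) : Prop where
  sq : ∀ i, L i * L i = 1
  rels : ∀ r ∈ allRels, val L r = 1

/-- P1: the shape of the centraliser, up to two parameters. -/
def StmtShape : Prop :=
  ∀ (G : Type u) [Group G] [Finite G] (z : G) (Q : Subgroup G), Hyp G z Q →
    ∃ ε δ : Bool, Nonempty (Emb ε δ z Q)

/-- P2: the parameters and the exchange of `z` and `e`. -/
def StmtSwap : Prop :=
  ∀ (G : Type u) [Group G] [Finite G] (z : G) (Q : Subgroup G), Hyp G z Q →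
    ∀ (ε δ : Bool), Emb ε δ z Q → ∃ (E : Emb true true z Q) (g : G), Swap E g

/-- P3: the normalised link and the local relators. -/
def StmtLink : Prop :=
  ∀ (G : Type u) [Group G] [Finite G] (z : G) (Q : Subgroup G), Hyp G z Q →
    ∀ (E : Emb true true z Q) (g : G), Swap E g → ∃ g' : G, Link E g'

/-- P4: the two further letters. -/
def StmtThree : Prop :=
  ∀ (G : Type u) [Group G] [Finite G] (z : G) (Q : Subgroup G), Hyp G z Q →
    ∀ (E : Emb true true z Q) (g : G), Link E g → ∃ u v : G,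
      Letters G (Fin.snoc (Fin.snoc (locLetters E g) u) v)

/-- P5: the bound from the certificates. -/
def StmtBound : Prop :=
  ∀ (G : Type u) [Group G] (L : Fin 8 → G), Letters G L →
    Finite (closure (Set.range L)) ∧ Nat.card (closure (Set.range L)) ≤ 9 * 3265920

/-- P6: the relators hold in `PSU₄(3)` for generating letters. -/
def StmtModel : Prop :=
  ∀ (K : Type) [Field K] [Fintype K], Fintype.card K = 9 →
    IsSimpleGroup (Cfsg.PSU 4 K 3) ∧ Nat.card (Cfsg.PSU 4 K 3) = 3265920 ∧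
      ∃ L : Fin 8 → Cfsg.PSU 4 K 3, Letters _ L ∧ closure (Set.range L) = ⊤

/-- P7: a subgroup isomorphic to `PSU₄(3)` with the centraliser of one of its involutions. -/
def StmtCensus : Prop :=
  ∀ (G : Type u) [Group G] [Finite G] (z : G) (H : Subgroup G) (K : Type) [Field K] [Fintype K],
    Fintype.card K = 9 → Nonempty (H ≃* Cfsg.PSU 4 K 3) → z ∈ H → orderOf z = 2 →
    centralizer ({z} : Set G) ≤ H →
    H = ⊤ ∧ Nat.card G = 2 ^ 7 * 3 ^ 6 * 5 * 7 ∧
      ∀ x y : G, orderOf x = 2 → orderOf y = 2 → IsConj x y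

end CfsgLib.U43Type
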