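import Cfsg.Agent.Lib.U43Type.Defs

/-!
# S5390 / S5391, piece P4: interface of its parts

`Y = ⟨φ 600, φ 324⟩` is a Sylow three-subgroup of the centralizer of `z`; `612 = 600 · 324`, and
`349`, `313` are involutions of `N(Y)` fixing `612`.
-/

set_option autoImplicit false

namespace CfsgLib.U43Type

open Subgroup

universe u

/-- P4b1: the centralizer of `Y` is not contained in the centralizer of `z`. -/
def StmtEscape : Prop :=
  ∀ (G : Type u) [Group G] [Finite G] (z : G) (Q : Subgroup G), Hyp G z Q →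
    ∀ (E : Emb true true z Q) (g : G), Link E g →
      ∃ a : G, a * E.φ x1C = E.φ x1C * a ∧ a * E.φ x2C = E.φ x2C * a ∧ a * z ≠ z * a

/-- The odd part `O` of the centralizer of `Y`. -/
structure OData {G : Type u} [Group G] {z : G} {Q : Subgroup G} (E : Emb true true z Q)
    (O : Subgroup G) : Prop where
  x1 : E.φ x1C ∈ O
  x2 : E.φ x2C ∈ O
  comm : ∀ a ∈ O, ∀ b ∈ O, a * b = b * a
  stable : ∀ n < 1152, E.φ n * E.φ x1C * (E.φ n)⁻¹ ∈ O → E.φ n * E.φ x2C * (E.φ n)⁻¹ ∈ O →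
    ∀ a ∈ O, E.φ n * a * (E.φ n)⁻¹ ∈ O
  fix : ∀ w ∈ [349, 313], ∃ m ∈ O, orderOf m = 3 ∧ z * m * z⁻¹ = m⁻¹ ∧ E.φ w * m = m * E.φ w

/-- P4b2: the group `O`. -/
def StmtOData : Prop :=
  StmtEscape.{u} → ∀ (G : Type u) [Group G] [Finite G] (z : G) (Q : Subgroup G), Hyp G z Q →
    ∀ (E : Emb true true z Q) (g : G), Link E g → ∃ O : Subgroup G, OData E O

/-- P4c: the letters and their relators from `O`. -/
def StmtThreeRels : Prop :=
  StmtOData.{u} → StmtEscape.{u} → StmtThree.{u}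

end CfsgLib.U43Type
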