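import Cfsg.Agent.Lib.U43Type.Link
import Cfsg.Agent.Lib.U43Type.ThreeDefs

/-!
# S5390 / S5391, piece P4b1: the centralizer of `Y` leaves the centralizer of `z`

Otherwise `Y` is a Sylow 3-subgroup of `G` with `N(Y) ≤ C(z)`.  The normaliser of the elementary
group of order 16 contains a group of order 9 and an element normalising it whose square inverts
it; no element of the centralizer of `z` does this to `Y`.
-/

set_option autoImplicit false
set_option maxRecDepth 100000

namespace CfsgLib.U43Type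

open Subgroup LinkCert LinkProof
open scoped Pointwise

universe u

namespace EscapeProof

/-- an element acting on `elab1` without fixed points, of order 3 modulo it -/
def aW : List (Option ℕ) := [some 549, none, some 901, none]

/-- an element normalising the group of order 9 -/
def nW : List (Option ℕ) := [some 1112, none]

/-- its inverse -/
def nIW : List (Option ℕ) := [none, some 1112]

/-- the codes of `Y` -/
def yList : List ℕ := [312, 324, 336, 600, 612, 624, 888, 900, 912]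

/-- the action of the first element -/
def fA (x : ℕ) : ℕ := wordFn linkFn aW x

/-- the action of the second element -/
def fN (x : ℕ) : ℕ := wordFn linkFn nW x

/-- the action of its inverse -/
def fI (x : ℕ) : ℕ := wordFn linkFn nIW x

/-- the action of the conjugate of the first element -/
def fB (x : ℕ) : ℕ := fN (fA (fI x))

theorem act_ok : (elab1.all fun x =>
    runOK linkFn aW x && runOK linkFn nW x && runOK linkFn nIW x &&
      elab1.contains (fA x) && elab1.contains (fN x) && elab1.contains (fI x) &&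
      Nat.beq (fA (fA (fA x))) x && Nat.beq (fN (fI x)) x && Nat.beq (fI (fN x)) x &&
      Nat.beq (fA (fB x)) (fB (fA x)) && Nat.beq (fN (fB (fI (fA x)))) x &&
      (!Nat.beq (fA x) x || Nat.beq x oneC) &&
      elab1.any fun f => Nat.beq (hm f (fA f)) x) = true := by
  decide +kernel

theorem act_diff : (elab1.any fun x => !Nat.beq (fB x) x) = true ∧
    (elab1.any fun x => !Nat.beq (fB x) (fA x)) = true ∧
    (elab1.any fun x => !Nat.beq (fB x) (fA (fA x))) = true := by
  decide +kernel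

theorem elab_ok : (elab1.all fun m => decide (m < 1152) && Nat.beq (hm m m) oneC &&
    elab1.all fun n => elab1.contains (hm m n) && Nat.beq (hm m n) (hm n m)) = true := by
  decide +kernel

theorem y_ok : (yList.all fun m => decide (m < 1152) && Nat.beq (hm m (hm m m)) oneC &&
    yList.all fun n => yList.contains (hm m n) && Nat.beq (hm m n) (hm n m)) = true := by
  decide +kernel

theorem y_cent : ((List.range 1152).all fun k =>
    !(Nat.beq (hm k x1C) (hm x1C k) && Nat.beq (hm k x2C) (hm x2C k) &&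
      Nat.beq (hm k k) oneC) || Nat.beq k oneC || Nat.beq k zC) = true := by
  decide +kernel

theorem y_gen : (yList.all fun y₁ => yList.all fun y₂ =>
    Nat.beq y₁ oneC || [oneC, y₁, hm y₁ y₁].contains y₂ ||
      yList.all fun y => [oneC, y₁, hm y₁ y₁].any fun p => [oneC, y₂, hm y₂ y₂].any fun q =>
        Nat.beq (hm p q) y) = true := by
  decide +kernel

theorem no_four : ((List.range 1152).all fun k =>
    !((yList.any fun y => Nat.beq (hm k x1C) (hm y k)) &&
      yList.any fun y => Nat.beq (hm k x2C) (hm y k)) ||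
    yList.all fun y₁ => yList.all fun y₂ =>
      !(Nat.beq (hm k y₁) (hm y₂ k)) || [oneC, y₁, hm y₁ y₁].contains y₂ ||
        !(Nat.beq (hm k y₂) (hm (hm y₁ y₁) k))) = true := by
  decide +kernel

theorem fn_eq : wordFn linkFn aW = fA ∧ wordFn linkFn nW = fN ∧ wordFn linkFn nIW = fI :=
  ⟨rfl, rfl, rfl⟩

theorem fB_eq : (fN ∘ fA) ∘ fI = fB := rfl

attribute [irreducible] fA fN fI fB

variable {G : Type u} [Group G] {z : G} {Q : Subgroup G} (E : Emb true true z Q)

/-- the elementary group of order 16 -/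
def eGrp : Subgroup G where
  carrier := E.φ '' {n | n ∈ elab1}
  one_mem' := ⟨oneC, (by decide : oneC ∈ elab1), E.map_one⟩
  mul_mem' := by
    rintro _ _ ⟨m, hm', rfl⟩ ⟨n, hn, rfl⟩
    have h := List.all_eq_true.1 elab_ok m hm'
    simp only [Bool.and_eq_true, decide_eq_true_eq, List.all_eq_true] at h
    have hnl := List.all_eq_true.1 elab_ok n hn
    simp only [Bool.and_eq_true, decide_eq_true_eq, List.all_eq_true] at hnl
    exact ⟨hm m n, List.contains_iff_mem.1 (h.2 n hn).1, E.map_hm h.1.1 hnl.1.1⟩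
  inv_mem' := by
    rintro _ ⟨m, hm', rfl⟩
    have h := List.all_eq_true.1 elab_ok m hm'
    simp only [Bool.and_eq_true, decide_eq_true_eq] at h
    refine ⟨m, hm', eq_inv_of_mul_eq_one_left ?_⟩
    rw [← E.map_hm h.1.1 h.1.1, Nat.eq_of_beq_eq_true h.1.2, E.map_one]

theorem e_lt {x : ℕ} (hx : x ∈ elab1) : x < 1152 := by
  have h := List.all_eq_true.1 elab_ok x hx
  simp only [Bool.and_eq_true, decide_eq_true_eq] at h
  exact h.1.1

theorem e_comm {a b : G} (ha : a ∈ eGrp E) (hb : b ∈ eGrp E) : a * b = b * a := by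
  obtain ⟨m, hm', rfl⟩ := ha
  obtain ⟨n, hn, rfl⟩ := hb
  have h := List.all_eq_true.1 elab_ok m hm'
  simp only [Bool.and_eq_true, List.all_eq_true] at h
  exact comm_of_code E (e_lt hm') (e_lt hn) (Nat.eq_of_beq_eq_true (h.2 n hn).2)

theorem e_sq {a : G} (ha : a ∈ eGrp E) : a * a = 1 := by
  obtain ⟨m, hm', rfl⟩ := ha
  have h := List.all_eq_true.1 elab_ok m hm'
  simp only [Bool.and_eq_true] at h
  rw [← E.map_hm (e_lt hm') (e_lt hm'), Nat.eq_of_beq_eq_true h.1.2, E.map_one]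

/-- `x` acts on `elab1` by `f` -/
def Acts (x : G) (f : ℕ → ℕ) : Prop := ∀ k ∈ elab1, x * E.φ k * x⁻¹ = E.φ (f k)

theorem acts_mul {x y : G} {f f' : ℕ → ℕ} (hx : Acts E x f) (hy : Acts E y f')
    (h : ∀ k ∈ elab1, f' k ∈ elab1) : Acts E (x * y) (f ∘ f') := by
  intro k hk
  calc x * y * E.φ k * (x * y)⁻¹ = x * (y * E.φ k * y⁻¹) * x⁻¹ := by group
    _ = E.φ (f (f' k)) := by rw [hy k hk, hx _ (h k hk)]

theorem acts_mem {e : G} (he : e ∈ eGrp E) : Acts E e id := by
  intro k hk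
  rw [e_comm E he ⟨k, hk, rfl⟩]
  simp

theorem mem_of_acts {x : G} {f : ℕ → ℕ} (hx : Acts E x f) (h : ∀ k ∈ elab1, f k = k) :
    x ∈ eGrp E := by
  have hfix : ∀ k ∈ elab1, x * E.φ k * x⁻¹ = E.φ k := fun k hk => by rw [hx k hk, h k hk]
  have hz := hfix zC (by decide)
  rw [E.map_z] at hz
  obtain ⟨n, hn, rfl⟩ := exists_code E hz
  refine ⟨n, ?_, rfl⟩
  exact cent_side_spec false hn fun k hk => conj_eq E hn (e_lt hk) (e_lt hk) (hfix k hk)

/-- In the normaliser of `elab1`: commuting elements of order 3 and an element of order 4 on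
them. -/
theorem exists_nine {g : G} (hg : Link E g) : ∃ a b n : G, a ^ 3 = 1 ∧ b ^ 3 = 1 ∧
    a * b = b * a ∧ a ≠ 1 ∧ b ≠ 1 ∧ b ≠ a ∧ b ≠ a * a ∧
    n * a * n⁻¹ = b ∧ n * b * n⁻¹ = a⁻¹ := by
  have hkey : ∀ x ∈ keys, linkFn x < 1152 ∧ g * E.φ x * g⁻¹ = E.φ (linkFn x) := by
    intro x hx
    obtain ⟨p, hp, rfl⟩ := List.mem_map.1 hx
    have : (linkTab.all fun p => Nat.beq (linkFn p.1) p.2) = true := by decide +kernel
    have h2 : linkFn p.1 = p.2 := by simpa using List.all_eq_true.1 this p hp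
    rw [h2]
    exact ⟨(data_lt.1 p hp).2, hg.act p hp⟩
  have ok : ∀ x ∈ elab1, _ := fun x hx => List.all_eq_true.1 act_ok x hx
  simp only [Bool.and_eq_true, List.any_eq_true, Bool.or_eq_true, Bool.not_eq_true',
    List.contains_iff_mem] at ok
  have run : ∀ w : List (Option ℕ), (∀ x ∈ elab1, runOK linkFn w x = true) →
      Acts E (wordEl E g w) (wordFn linkFn w) := fun w hw k hk =>
    (word_spec E g linkFn hkey w k (e_lt hk) (hw k hk)).2
  set y := wordEl E g aW with hy
  set n₀ := wordEl E g nW with hn₀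
  have hyA : Acts E y fA := fn_eq.1 ▸ run aW fun x hx => (ok x hx).1.1.1.1.1.1.1.1.1.1.1.1
  have hnN : Acts E n₀ fN := fn_eq.2.1 ▸ run nW fun x hx => (ok x hx).1.1.1.1.1.1.1.1.1.1.1.2
  have hI : Acts E (wordEl E g nIW) fI := fn_eq.2.2 ▸ run nIW fun x hx => (ok x hx).1.1.1.1.1.1.1.1.1.1.2
  have mA : ∀ x ∈ elab1, fA x ∈ elab1 := fun x hx => (ok x hx).1.1.1.1.1.1.1.1.1.2
  have mN : ∀ x ∈ elab1, fN x ∈ elab1 := fun x hx => (ok x hx).1.1.1.1.1.1.1.1.2
  have mI : ∀ x ∈ elab1, fI x ∈ elab1 := fun x hx => (ok x hx).1.1.1.1.1.1.1.2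
  have a3 : ∀ x ∈ elab1, fA (fA (fA x)) = x := fun x hx =>
    Nat.eq_of_beq_eq_true (ok x hx).1.1.1.1.1.1.2
  have ni : ∀ x ∈ elab1, fN (fI x) = x := fun x hx => Nat.eq_of_beq_eq_true (ok x hx).1.1.1.1.1.2
  have iN : ∀ x ∈ elab1, fI (fN x) = x := fun x hx => Nat.eq_of_beq_eq_true (ok x hx).1.1.1.1.2
  have hAB : ∀ x ∈ elab1, fA (fB x) = fB (fA x) := fun x hx =>
    Nat.eq_of_beq_eq_true (ok x hx).1.1.1.2
  have hCA : ∀ x ∈ elab1, fN (fB (fI (fA x))) = x := fun x hx =>
    Nat.eq_of_beq_eq_true (ok x hx).1.1.2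
  have fpf : ∀ x ∈ elab1, fA x = x → x = oneC := fun x hx h => by
    rcases (ok x hx).1.2 with h1 | h1
    · simp [h] at h1
    · exact Nat.eq_of_beq_eq_true h1
  have fB_def : ∀ x, fB x = fN (fA (fI x)) := fun x => (congrFun fB_eq x).symm
  have mB : ∀ x ∈ elab1, fB x ∈ elab1 := fun x hx => by
    rw [fB_def]; exact mN _ (mA _ (mI _ hx))
  -- the element of order three
  set a := y ^ 4 with hadef
  have hy3 : y ^ 3 ∈ eGrp E := by
    refine mem_of_acts E (f := fA ∘ fA ∘ fA) ?_ a3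
    rw [pow_succ, pow_two, mul_assoc]
    exact acts_mul E hyA (acts_mul E hyA hyA mA) (fun k hk => mA _ (mA _ hk))
  have ha3 : a ^ 3 = 1 := by
    rw [hadef, ← pow_mul, show 4 * 3 = 3 * 4 by rfl, pow_mul, show 4 = 2 * 2 by rfl, pow_mul,
      pow_two (y ^ 3), e_sq E hy3, one_pow]
  have haA : Acts E a fA := by
    have h : Acts E (y * y ^ 3) (fA ∘ id) := acts_mul E hyA (acts_mem E hy3) (fun k hk => hk)
    rw [hadef, pow_succ']
    exact h
  -- inverse of the normalising word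
  have hsq : E.φ 1112 * E.φ 1112 = 1 := by
    rw [← E.map_hm (by norm_num : 1112 < 1152) (by norm_num : 1112 < 1152),
      show hm 1112 1112 = oneC by decide +kernel, E.map_one]
  have hninv : n₀⁻¹ = wordEl E g nIW := by
    refine inv_eq_of_mul_eq_one_right ?_
    simp [hn₀, wordEl, nW, nIW, stepEl, mul_assoc, ← mul_assoc g g, hg.sq, hsq]
  rw [← hninv] at hI
  set b₀ := n₀ * a * n₀⁻¹ with hb₀
  have hNA : Acts E (n₀ * a) (fN ∘ fA) := acts_mul E hnN haA mA
  have hB₀ : Acts E b₀ fB := by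
    rw [hb₀, ← fB_eq]
    exact acts_mul E hNA hI mI
  -- images and surjectivity
  have surjA : ∀ c ∈ eGrp E, ∃ f ∈ eGrp E, f * a * f⁻¹ = c * a := by
    rintro _ ⟨m, hm', rfl⟩
    obtain ⟨f, hf, hfm⟩ := (ok m hm').2
    refine ⟨E.φ f, ⟨f, hf, rfl⟩, ?_⟩
    rw [← Nat.eq_of_beq_eq_true hfm, E.map_hm (e_lt hf) (e_lt (mA f hf)), ← haA f hf,
      show (E.φ f)⁻¹ = E.φ f from inv_eq_of_mul_eq_one_right (e_sq E ⟨f, hf, rfl⟩)]
    group
  have fixA : ∀ c ∈ eGrp E, a * c = c * a → c = 1 := by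
    rintro _ ⟨m, hm', rfl⟩ h
    have h2 := haA m hm'
    rw [h, mul_inv_cancel_right] at h2
    rw [fpf m hm' (E.inj _ _ (e_lt (mA m hm')) (e_lt hm') h2.symm), E.map_one]
  -- make the conjugate commute
  have hainv : Acts E a⁻¹ (fA ∘ fA) := by
    rw [show a⁻¹ = a * a from inv_eq_of_mul_eq_one_right (by rw [← mul_assoc, ← pow_three', ha3])]
    exact acts_mul E haA haA mA
  have mI' : ∀ x ∈ elab1, (fA ∘ fA) x ∈ elab1 := fun x hx => mA _ (mA _ hx)
  have hbinv : Acts E b₀⁻¹ (fN ∘ (fA ∘ fA) ∘ fI) := by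
    rw [hb₀, show (n₀ * a * n₀⁻¹)⁻¹ = n₀ * (a⁻¹ * n₀⁻¹) by group]
    exact acts_mul E hnN (acts_mul E hainv hI mI) (fun k hk => mI' _ (mI k hk))
  have hc : b₀ * a * b₀⁻¹ * a⁻¹ ∈ eGrp E := by
    refine mem_of_acts E (acts_mul E (acts_mul E (acts_mul E hB₀ haA mA) hbinv
      (fun k hk => mN _ (mI' _ (mI k hk)))) hainv mI') fun k hk => ?_
    have h1 := mI' _ hk
    have h2 := mN _ (mI' _ (mI _ h1))
    simp only [Function.comp] at h1 h2 ⊢
    rw [← hAB _ h2]
    have h3 := mA _ (mA _ (mI _ h1))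
    simp only [fB_def, iN _ h3]
    rw [a3 _ (mI _ h1), ni _ h1, a3 k hk]
  obtain ⟨f, hf, hfa⟩ := surjA _ hc
  set b := f * b₀ with hb
  have hfinv : f⁻¹ = f := inv_eq_of_mul_eq_one_right (e_sq E hf)
  have hcomm : a * b = b * a := by
    have h1 : f * (b₀ * a * b₀⁻¹) * f⁻¹ = a := by
      have h2 : f * a * f⁻¹ = b₀ * a * b₀⁻¹ := by rw [hfa]; group
      rw [← h2, hfinv]
      calc f * (f * a * f) * f = f * f * a * (f * f) := by group
        _ = a := by rw [e_sq E hf, one_mul, mul_one]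
    calc a * b = f * (b₀ * a * b₀⁻¹) * f⁻¹ * b := by rw [h1]
      _ = b * a := by rw [hb]; group
  obtain ⟨c, hc', hcb⟩ := surjA (n₀⁻¹ * f * n₀) (by
    obtain ⟨m, hm', rfl⟩ := hf
    refine ⟨fI m, mI m hm', ?_⟩
    rw [← hI m hm', inv_inv])
  set n := n₀ * c with hn
  have hnab : n * a * n⁻¹ = b := by
    calc n * a * n⁻¹ = n₀ * (c * a * c⁻¹) * n₀⁻¹ := by rw [hn]; group
      _ = b := by rw [hcb, hb, hb₀]; group
  have hb3 : b ^ 3 = 1 := by rw [← hnab, conj_pow, ha3]; group
  have hbB : Acts E b fB := by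
    have h : Acts E (f * b₀) (id ∘ fB) := acts_mul E (acts_mem E hf) hB₀ mB
    exact h
  have hnN' : Acts E n fN := by
    have h : Acts E (n₀ * c) (fN ∘ id) := acts_mul E hnN (acts_mem E hc') (fun k hk => hk)
    exact h
  have hnI : Acts E n⁻¹ fI := by
    have h : Acts E (c⁻¹ * n₀⁻¹) (id ∘ fI) := acts_mul E (acts_mem E (inv_mem hc')) hI mI
    rw [hn, mul_inv_rev]
    exact h
  have hq : n * b * n⁻¹ * a ∈ eGrp E := by
    refine mem_of_acts E (acts_mul E (acts_mul E (acts_mul E hnN' hbB mB) hnI mI) haA mA)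
      fun k hk => ?_
    exact hCA k hk
  have hnb : n * b * n⁻¹ = a⁻¹ := by
    refine eq_inv_of_mul_eq_one_left ?_
    set q := n * b * n⁻¹ * a with hqdef
    have h1 : b * (n * b * n⁻¹) = n * b * n⁻¹ * b := by
      calc b * (n * b * n⁻¹) = n * (a * b) * n⁻¹ := by rw [← hnab]; group
        _ = n * (b * a) * n⁻¹ := by rw [hcomm]
        _ = n * b * n⁻¹ * b := by rw [← hnab]; group
    have h2 : b * q = q * b := by
      rw [hqdef, ← mul_assoc, h1, mul_assoc _ b a, ← hcomm, ← mul_assoc]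
    have h3 : a * (n⁻¹ * q * n) = n⁻¹ * q * n * a := by
      calc a * (n⁻¹ * q * n) = n⁻¹ * (b * q) * n := by rw [← hnab]; group
        _ = n⁻¹ * (q * b) * n := by rw [h2]
        _ = n⁻¹ * q * n * a := by rw [← hnab]; group
    have hmem : n⁻¹ * q * n ∈ eGrp E := by
      obtain ⟨m, hm', hqm⟩ := hq
      refine ⟨fI m, mI m hm', ?_⟩
      rw [← hnI m hm', inv_inv, hqm]
    have := fixA _ hmem h3
    have h4 : q = n * (n⁻¹ * q * n) * n⁻¹ := by group
    rw [this] at h4
    simpa using h4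
  obtain ⟨d1, d2, d3⟩ := act_diff
  have sep : ∀ (x : G) (f' : ℕ → ℕ), Acts E x f' → (∀ k ∈ elab1, f' k ∈ elab1) →
      (elab1.any fun k => !Nat.beq (fB k) (f' k)) = true → b ≠ x := by
    intro x f' hx hm' hd hbx
    obtain ⟨k, hk, hne⟩ := List.any_eq_true.1 hd
    have h := hbB k hk
    rw [hbx, hx k hk] at h
    rw [← E.inj _ _ (e_lt (hm' k hk)) (e_lt (mB k hk)) h] at hne
    simp at hne
  refine ⟨a, b, n, ha3, hb3, hcomm, fun h => ?_, sep 1 id (fun k hk => by simp) (fun k hk => hk) d1,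
    sep a fA haA mA d2, sep _ (fA ∘ fA) (acts_mul E haA haA mA) mI' d3, hnab, hnb⟩
  exact sep 1 id (fun k hk => by simp) (fun k hk => hk) d1 (by rw [← hnab, h]; group)

theorem y_lt {y : ℕ} (hy : y ∈ yList) : y < 1152 := by
  have h := List.all_eq_true.1 y_ok y hy
  simp only [Bool.and_eq_true, decide_eq_true_eq] at h
  exact h.1.1

theorem y_mul {m n : ℕ} (hm' : m ∈ yList) (hn : n ∈ yList) : hm m n ∈ yList := by
  have h := List.all_eq_true.1 y_ok m hm'
  simp only [Bool.and_eq_true, List.all_eq_true, List.contains_iff_mem] at h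
  exact (h.2 n hn).1

/-- the group of order 9 -/
def yGrp : Subgroup G where
  carrier := E.φ '' {n | n ∈ yList}
  one_mem' := ⟨oneC, (by decide : oneC ∈ yList), E.map_one⟩
  mul_mem' := by
    rintro _ _ ⟨m, hm', rfl⟩ ⟨n, hn, rfl⟩
    exact ⟨hm m n, y_mul hm' hn, E.map_hm (y_lt hm') (y_lt hn)⟩
  inv_mem' := by
    rintro _ ⟨m, hm', rfl⟩
    have h := List.all_eq_true.1 y_ok m hm'
    simp only [Bool.and_eq_true] at h
    refine ⟨hm m m, y_mul hm' hm', eq_inv_of_mul_eq_one_right ?_⟩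
    rw [← E.map_hm (y_lt hm') (y_lt (y_mul hm' hm')), Nat.eq_of_beq_eq_true h.1.2, E.map_one]

theorem y_card : Nat.card (yGrp E) = 9 := by
  show Nat.card ↥(E.φ '' {n | n ∈ yList}) = 9
  have hio : Set.InjOn E.φ {n | n ∈ yList} := fun a ha b hb h => E.inj a b (y_lt ha) (y_lt hb) h
  rw [Nat.card_coe_set_eq, hio.ncard_image,
    show {n | n ∈ yList} = ((yList.toFinset : Finset ℕ) : Set ℕ) by ext; simp, Set.ncard_coe_finset]
  decide

end EscapeProof

open EscapeProof in
/-- P4b1: the centralizer of `Y` is not contained in the centralizer of `z`. -/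
theorem escape_of : StmtEscape.{u} := by
  intro G _ _ z Q hyp E g hg
  by_contra hcon
  push Not at hcon
  have hzz : z * z = 1 := by
    have := pow_orderOf_eq_one z
    rwa [hyp.ord, pow_two] at this
  set Y := yGrp E with hY
  have hY1 : E.φ x1C ∈ Y := ⟨x1C, (by decide : x1C ∈ yList), rfl⟩
  have hY2 : E.φ x2C ∈ Y := ⟨x2C, (by decide : x2C ∈ yList), rfl⟩
  -- the normaliser is in the centralizer of `z`
  have hnorm : ∀ m : G, (∀ y ∈ Y, m * y * m⁻¹ ∈ Y) → m * z = z * m := by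
    intro m hm'
    have hmap : Y.map (MulAut.conj m).toMonoidHom = Y := by
      refine Subgroup.eq_of_le_of_card_ge ?_ ?_
      · rintro _ ⟨y, hy, rfl⟩
        simpa using hm' y hy
      · exact le_of_eq (Nat.card_congr
          (Y.equivMapOfInjective _ (MulAut.conj m).injective).toEquiv)
    have hpre : ∀ y ∈ Y, (m * z * m⁻¹) * y = y * (m * z * m⁻¹) := by
      intro y hy
      obtain ⟨x, hx, rfl⟩ : y ∈ Y.map (MulAut.conj m).toMonoidHom := by rw [hmap]; exact hy
      obtain ⟨k, hk, rfl⟩ := hx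
      have h := comm_of_code E (by decide : zC < 1152) (y_lt hk) (by
        have : (yList.all fun k => Nat.beq (hm zC k) (hm k zC)) = true := by decide +kernel
        exact Nat.eq_of_beq_eq_true (List.all_eq_true.1 this k hk))
      rw [E.map_z] at h
      show m * z * m⁻¹ * (m * E.φ k * m⁻¹) = m * E.φ k * m⁻¹ * (m * z * m⁻¹)
      calc _ = m * (z * E.φ k) * m⁻¹ := by group
        _ = m * (E.φ k * z) * m⁻¹ := by rw [h]
        _ = _ := by group
    have hcz := hcon _ (hpre _ hY1) (hpre _ hY2)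
    obtain ⟨k, hk, hkc⟩ := (E.mem_cent _).1 (mem_centralizer_singleton_iff.2 hcz)
    have h1 := conj_eq E hk (by decide : x1C < 1152) (by decide : x1C < 1152)
      (by rw [hkc, hpre _ hY1, mul_inv_cancel_right])
    have h2 := conj_eq E hk (by decide : x2C < 1152) (by decide : x2C < 1152)
      (by rw [hkc, hpre _ hY2, mul_inv_cancel_right])
    have h3 : hm k k = oneC := E.inj _ _ (hm_lt hk hk) (by decide) (by
      rw [E.map_hm hk hk, hkc, E.map_one]
      calc m * z * m⁻¹ * (m * z * m⁻¹) = m * (z * z) * m⁻¹ := by group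
        _ = 1 := by rw [hzz]; group)
    have h := List.all_eq_true.1 y_cent k (List.mem_range.2 hk)
    have e : ∀ n : ℕ, Nat.beq n n = true := fun n => Nat.beq_refl n
    simp only [h1, h2, h3, e, Bool.and_self, Bool.not_true, Bool.false_or, Bool.or_eq_true] at h
    rcases h with h | h
    · have h4 := hkc
      rw [Nat.eq_of_beq_eq_true h, E.map_one] at h4
      have hz1 : z = 1 := by
        calc z = m⁻¹ * (m * z * m⁻¹) * m := by group
          _ = 1 := by rw [← h4]; group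
      exact absurd hyp.ord (by simp [hz1])
    · rw [Nat.eq_of_beq_eq_true h, E.map_z] at hkc
      exact mul_inv_eq_iff_eq_mul.1 hkc.symm
  -- `Y` is a Sylow subgroup
  haveI : Fact (Nat.Prime 3) := ⟨Nat.prime_three⟩
  obtain ⟨P, hYP⟩ :=
    (IsPGroup.of_card (n := 2) (by rw [hY, y_card E]; rfl) : IsPGroup 3 Y).exists_le_sylow
  have hPY : (P : Subgroup G) = Y := by
    by_contra hne
    have hlt : (Y.subgroupOf (P : Subgroup G)) < ⊤ := by
      rw [lt_top_iff_ne_top, Ne, subgroupOf_eq_top]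
      exact fun h => hne (le_antisymm h hYP)
    haveI := P.2.isNilpotent
    obtain ⟨⟨m, hmP⟩, hmn, hmY⟩ := SetLike.exists_of_lt
      (normalizerCondition_of_isNilpotent (G := ↥(P : Subgroup G)) _ hlt)
    have hmY' : m ∉ Y := hmY
    have hmz := hnorm m fun y hy => by
      have := (mem_normalizer_iff.1 hmn ⟨y, hYP hy⟩).1 hy
      simpa [mem_subgroupOf] using this
    set R := (P : Subgroup G) ⊓ centralizer ({z} : Set G) with hR
    have hYR : Y ≤ R := le_inf hYP (by
      rintro _ ⟨k, hk, rfl⟩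
      exact (E.mem_cent _).2 ⟨k, y_lt hk, rfl⟩)
    have hR3 : IsPGroup 3 R := P.2.to_le inf_le_left
    obtain ⟨i, hi⟩ := IsPGroup.iff_card.1 hR3
    have hd := Subgroup.card_dvd_of_le (inf_le_right : R ≤ centralizer ({z} : Set G))
    rw [hyp.card, hi, show (1152 : ℕ) = 2 ^ 7 * 3 ^ 2 by norm_num] at hd
    have hi2 : i ≤ 2 := by
      have h2 := (Nat.Coprime.pow i 7 (by norm_num : Nat.Coprime 3 2)).dvd_of_dvd_mul_left hd
      exact (Nat.pow_dvd_pow_iff_le_right (by norm_num)).1 h2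
    have hRY : Y = R := Subgroup.eq_of_le_of_card_ge hYR (by
      rw [hi, hY, y_card E]
      calc 3 ^ i ≤ 3 ^ 2 := Nat.pow_le_pow_right (by norm_num) hi2
        _ = 9 := by norm_num)
    exact hmY' (hRY ▸ ⟨hmP, mem_centralizer_singleton_iff.2 hmz⟩)
  -- the group of order nine from the normaliser of `elab1`
  obtain ⟨a, b, n, ha3, hb3, hab, ha1, hb1, hba, hbaa, hna, hnb⟩ := exists_nine E hg
  have hcl : closure ({a, b} : Set G) ≤ centralizer ({a, b} : Set G) := by
    rw [closure_le]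
    intro x hx
    rw [SetLike.mem_coe, mem_centralizer_iff]
    intro y hy
    rcases hx with rfl | rfl <;> rcases hy with rfl | rfl
    · rfl
    · exact hab.symm
    · exact hab
    · rfl
  have hR3 : IsPGroup 3 (closure ({a, b} : Set G)) := by
    have key : ∀ x ∈ closure ({a, b} : Set G), x ^ 3 = 1 := by
      intro x hx
      induction hx using closure_induction with
      | mem x hx => rcases hx with rfl | rfl <;> assumption
      | one => simp
      | mul x y hx hy ihx ihy =>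
        have hxy : Commute x y := by
          have hle : closure ({a, b} : Set G) ≤ centralizer ({x} : Set G) := by
            rw [closure_le]
            intro t ht
            exact mem_centralizer_singleton_iff.2 (mem_centralizer_iff.1 (hcl hx) t ht)
          exact (mem_centralizer_singleton_iff.1 (hle hy)).symm
        rw [hxy.mul_pow, ihx, ihy, one_mul]
      | inv x _ ih => rw [inv_pow, ih, inv_one]
    exact fun x => ⟨1, Subtype.ext (by simpa using key x x.2)⟩
  obtain ⟨P', hRP'⟩ := hR3.exists_le_sylow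
  obtain ⟨h, hh⟩ := MulAction.exists_smul_eq G P' P
  have hin : ∀ x ∈ closure ({a, b} : Set G), h * x * h⁻¹ ∈ Y := by
    intro x hx
    rw [← hPY, ← hh, Sylow.coe_subgroup_smul]
    exact ⟨x, hRP' hx, rfl⟩
  obtain ⟨y₁, hy₁, e₁⟩ := hin a (subset_closure (Or.inl rfl))
  obtain ⟨y₂, hy₂, e₂⟩ := hin b (subset_closure (Or.inr rfl))
  have l₁ := y_lt hy₁
  have l₂ := y_lt hy₂
  have l₁₁ := y_lt (y_mul hy₁ hy₁)
  have hy₁1 : y₁ ≠ oneC := fun e => ha1 (by
    rw [e, E.map_one] at e₁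
    exact conj_eq_one_iff.1 e₁.symm)
  have hy₂x : y₂ ∉ [oneC, y₁, hm y₁ y₁] := by
    have hci : ∀ {x y : G}, h * x * h⁻¹ = h * y * h⁻¹ → x = y :=
      fun e => mul_left_cancel (mul_right_cancel e)
    simp only [List.mem_cons, List.not_mem_nil, or_false]
    rintro (e | e | e)
    · exact hb1 (by rw [e, E.map_one] at e₂; exact conj_eq_one_iff.1 e₂.symm)
    · rw [e] at e₂
      exact hba (hci (e₂.symm.trans e₁))
    · rw [e, E.map_hm l₁ l₁, e₁] at e₂
      exact hbaa (hci (e₂.symm.trans (by group)))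
  set m := h * n * h⁻¹ with hm'
  have hm1 : m * E.φ y₁ * m⁻¹ = E.φ y₂ := by rw [e₁, e₂, ← hna, hm']; group
  have hm2 : m * E.φ y₂ * m⁻¹ = E.φ (hm y₁ y₁) := by
    rw [E.map_hm l₁ l₁, e₁, e₂]
    have h2 : a⁻¹ = a * a := inv_eq_of_mul_eq_one_right (by rw [← mul_assoc, ← pow_three', ha3])
    calc h * n * h⁻¹ * (h * b * h⁻¹) * (h * n * h⁻¹)⁻¹ = h * (n * b * n⁻¹) * h⁻¹ := by group
      _ = _ := by rw [hnb, h2]; group
  have hmN : ∀ y ∈ Y, m * y * m⁻¹ ∈ Y := by
    rintro _ ⟨y, hy, rfl⟩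
    have hgen := List.all_eq_true.1 (List.all_eq_true.1 y_gen y₁ hy₁) y₂ hy₂
    simp only [Bool.or_eq_true, List.contains_iff_mem, hy₂x, or_false, List.all_eq_true,
      List.any_eq_true] at hgen
    have hgen' := hgen.resolve_left (fun e => hy₁1 (Nat.eq_of_beq_eq_true e)) y hy
    obtain ⟨p, hp, q, hq, hpq⟩ := hgen'
    have step : ∀ s t, s ∈ yList → t ∈ yList → m * E.φ s * m⁻¹ ∈ Y →
        ∀ r ∈ [oneC, s, hm s s], r ∈ yList ∧ m * E.φ r * m⁻¹ ∈ Y := by
      intro s t hs _ hms r hr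
      simp only [List.mem_cons, List.not_mem_nil, or_false] at hr
      rcases hr with rfl | rfl | rfl
      · exact ⟨by decide, by rw [E.map_one]; simp⟩
      · exact ⟨hs, hms⟩
      · refine ⟨y_mul hs hs, ?_⟩
        rw [E.map_hm (y_lt hs) (y_lt hs), LinkProof.conj_mul]
        exact mul_mem hms hms
    obtain ⟨hpy, hpm⟩ := step y₁ y₂ hy₁ hy₂ (by rw [hm1]; exact ⟨y₂, hy₂, rfl⟩) p hp
    obtain ⟨hqy, hqm⟩ := step y₂ y₁ hy₂ hy₁
      (by rw [hm2]; exact ⟨hm y₁ y₁, y_mul hy₁ hy₁, rfl⟩) q hq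
    rw [← Nat.eq_of_beq_eq_true hpq, E.map_hm (y_lt hpy) (y_lt hqy), LinkProof.conj_mul]
    exact mul_mem hpm hqm
  obtain ⟨k, hk, hkm⟩ := (E.mem_cent m).1 (mem_centralizer_singleton_iff.2 (hnorm m hmN))
  have hn4 := List.all_eq_true.1 no_four k (List.mem_range.2 hk)
  have img : ∀ x ∈ yList, (yList.any fun y => Nat.beq (hm k x) (hm y k)) = true := by
    intro x hx
    obtain ⟨y, hy, hye⟩ := hmN _ ⟨x, hx, rfl⟩
    refine List.any_eq_true.2 ⟨y, hy, ?_⟩
    rw [conj_eq E hk (y_lt hx) (y_lt hy) (by rw [hkm]; exact hye.symm)]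
    exact Nat.beq_refl _
  simp only [img x1C (by decide), img x2C (by decide), Bool.and_self, Bool.not_true,
    Bool.false_or] at hn4
  have h4 := List.all_eq_true.1 (List.all_eq_true.1 hn4 y₁ hy₁) y₂ hy₂
  rw [conj_eq E hk l₁ l₂ (by rw [hkm]; exact hm1),
    conj_eq E hk l₂ l₁₁ (by rw [hkm]; exact hm2)] at h4
  simp [hy₂x] at h4

end CfsgLib.U43Type
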