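import Cfsg.Agent.Lib.U43Type.ShapeBase

/-!
# S5390 / S5391: a conjugate `e` of `z` in `Q`

For `e = g z g⁻¹ ∈ Q`, `e ≠ z`: the subgroup `gQ g = Q.map (conj g)` contains `z`, meets `Q` in
`{1, z, e, z e}`, and `C_Q(e)`, `C_{gQ g}(z)` commute modulo that meet.
-/

set_option autoImplicit false
set_option linter.unusedSectionVars false

namespace CfsgLib.U43Type

open Subgroup Shape

universe u

variable {G : Type u} [Group G] [Finite G] {z : G} {Q : Subgroup G}

/-- the conjugate subgroup `g Q g⁻¹` -/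
def gQ (Q : Subgroup G) (g : G) : Subgroup G := Q.map (MulAut.conj g).toMonoidHom

omit [Finite G] in
theorem mem_gQ {g x : G} : x ∈ gQ Q g ↔ g⁻¹ * x * g ∈ Q := by
  refine ⟨fun ⟨y, hy, hyx⟩ => ?_, fun h => ⟨_, h, ?_⟩⟩
  · rw [← hyx]
    simpa [mul_assoc] using hy
  · simp [mul_assoc]

theorem Hyp.conj_mem_Q (h : Hyp G z Q) {c x : G} (hc : c * z = z * c) (hx : x ∈ Q) :
    c * x * c⁻¹ ∈ Q :=
  (mem_normalizer_iff.1 (h.nQ (mem_centralizer_singleton_iff.2 hc)) _).1 hx

theorem Hyp.z_mem_Q (h : Hyp G z Q) : z ∈ Q := by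
  obtain ⟨C⟩ := coord_exists h
  rw [← C.ψ_z₁]
  exact (C.mem_Q_iff _ _).2 ⟨by decide +kernel, one_pow 4⟩

theorem Hyp.Q_comm (h : Hyp G z Q) {x y : G} (hx : x ∈ Q) (hy : y ∈ Q) :
    x * y = y * x ∨ x * y = y * x * z := by
  obtain ⟨C⟩ := coord_exists h
  obtain ⟨a, b, ha, hb, rfl⟩ := (C.memQ x).1 hx
  obtain ⟨c, d, hc, hd, rfl⟩ := (C.memQ y).1 hy
  show C.ψ a b * C.ψ c d = C.ψ c d * C.ψ a b ∨ C.ψ a b * C.ψ c d = C.ψ c d * C.ψ a b * z
  rw [C.ψ_mul, C.ψ_mul]
  rcases quat_comm a c ha hc with e | e <;> rcases quat_comm b d hb hd with f | f <;> rw [e, f]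
  · exact Or.inl rfl
  · right
    rw [C.mul_z_right]
  · right
    rw [C.mul_z_left]
  · exact Or.inl (C.ψ_negneg _ _)

section
variable (h : Hyp G z Q) {g : G} (hq : g * z * g⁻¹ ∈ Q) (hne : g * z * g⁻¹ ≠ z)
include h hq hne

theorem gQ_cent {x : G} (hx : x ∈ gQ Q g) : x * (g * z * g⁻¹) = g * z * g⁻¹ * x := by
  have hx' := mem_centralizer_singleton_iff.1 (h.le (mem_gQ.1 hx))
  calc x * (g * z * g⁻¹) = g * (g⁻¹ * x * g * z) * g⁻¹ := by simp [mul_assoc]
    _ = g * (z * (g⁻¹ * x * g)) * g⁻¹ := by rw [hx']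
    _ = g * z * g⁻¹ * x := by simp [mul_assoc]

/-- `C_Q(e)` normalises `gQ Q g`. -/
theorem conj_mem_gQ {d x : G} (hd : d * (g * z * g⁻¹) = g * z * g⁻¹ * d) (hx : x ∈ gQ Q g) :
    d * x * d⁻¹ ∈ gQ Q g := by
  rw [mem_gQ]
  have hd' : g⁻¹ * d * g * z = z * (g⁻¹ * d * g) := by
    calc g⁻¹ * d * g * z = g⁻¹ * (d * (g * z * g⁻¹)) * g := by simp [mul_assoc]
      _ = g⁻¹ * (g * z * g⁻¹ * d) * g := by rw [hd]
      _ = z * (g⁻¹ * d * g) := by simp [mul_assoc]
  have := h.conj_mem_Q hd' (mem_gQ.1 hx)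
  simpa [mul_assoc] using this

theorem fusion : z ∈ gQ Q g ∧
    ∀ x, x ∈ Q ⊓ gQ Q g ↔ x = 1 ∨ x = z ∨ x = g * z * g⁻¹ ∨ x = z * (g * z * g⁻¹) := by
  obtain ⟨C⟩ := coord_exists h
  set e := g * z * g⁻¹ with he
  have hz2 : z * z = 1 := by rw [← pow_two, ← h.ord, pow_orderOf_eq_one]
  have hz1 : z ≠ 1 := fun e => by have := h.ord; rw [e, orderOf_one] at this; omega
  have he2 : e * e = 1 := by
    calc e * e = g * (z * z) * g⁻¹ := by simp [he, mul_assoc]
      _ = 1 := by rw [hz2]; simp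
  have he1 : e ≠ 1 := fun e' => hz1 (by rw [he] at e'; exact conj_eq_one_iff.1 e')
  have hzQ := h.z_mem_Q
  have heg : e ∈ gQ Q g := mem_gQ.2 (by simpa [he, mul_assoc] using hzQ)
  have hcard : Nat.card ↥(Q ⊓ gQ Q g) = 4 := h.inter g hq hne
  have hzg : z ∈ gQ Q g := by
    by_contra hzn
    obtain ⟨a, b, ha, hb, hab⟩ := (C.memQ e).1 hq
    change C.ψ a b = e at hab
    obtain ⟨ha2, hb2⟩ := C.invol_parts ha hb (hab.symm ▸ he2) (hab.symm ▸ he1) (hab.symm ▸ hne)
    obtain ⟨k, hk2, hak, -⟩ := anti a ha2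
    obtain ⟨k', hk'2, hbk, -⟩ := anti b hb2
    -- every element of the meet is central in `C_Q(e)`
    have hcen : ∀ p ∈ Q ⊓ gQ Q g, ∀ d ∈ Q, d * e = e * d → d * p = p * d := by
      intro p hp d hd hde
      refine (h.Q_comm hd hp.1).resolve_right fun hc => hzn ?_
      have hm : z = p⁻¹ * (d * p * d⁻¹) := by
        rw [hc, mul_assoc (p * d) z d⁻¹,
          ← (show d⁻¹ * z = z * d⁻¹ from
            mem_centralizer_singleton_iff.1 (inv_mem (h.le hd)))]
        simp [mul_assoc]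
      rw [hm]
      exact mul_mem (inv_mem hp.2) (conj_mem_gQ h hq hne hde hp.2)
    have hka : C.ψ a 1 * e = e * C.ψ a 1 := by rw [← hab, C.ψ_mul, C.ψ_mul, one_mul, mul_one]
    have hkb : C.ψ 1 b * e = e * C.ψ 1 b := by rw [← hab, C.ψ_mul, C.ψ_mul, one_mul, mul_one]
    have hkk : C.ψ k k' * e = e * C.ψ k k' := by
      rw [← hab, C.ψ_mul, C.ψ_mul, hak, hbk, C.ψ_negneg]
    have hall : ∀ p ∈ Q ⊓ gQ Q g, p = 1 ∨ p = z ∨ p = e ∨ p = z * e := by
      intro p hp
      obtain ⟨c, d, hc, hd, hcd⟩ := (C.memQ p).1 hp.1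
      change C.ψ c d = p at hcd
      have h1 := hcen p hp _ ((C.mem_Q_iff a 1).2 ⟨ha, one_pow 4⟩) hka
      have h2 := hcen p hp _ ((C.mem_Q_iff 1 b).2 ⟨one_pow 4, hb⟩) hkb
      have h3 := hcen p hp _ ((C.mem_Q_iff k k').2 ⟨(sq_neg k hk2).1, (sq_neg k' hk'2).1⟩) hkk
      rw [← hcd, C.ψ_mul, C.ψ_mul] at h1 h2 h3
      have hca : a * c = c * a := by
        rcases C.ψ_eq h1 with ⟨r, -⟩ | ⟨-, r⟩
        · exact r
        · rw [one_mul, mul_one] at r
          exact absurd r (by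
            intro r
            have : ∀ u : SL, u ≠ -u := by decide +kernel
            exact this d r)
      have hdb : b * d = d * b := by
        rcases C.ψ_eq h2 with ⟨-, r⟩ | ⟨r, -⟩
        · exact r
        · rw [one_mul, mul_one] at r
          exact absurd r (by
            intro r
            have : ∀ u : SL, u ≠ -u := by decide +kernel
            exact this c r)
      have hkey : ∀ u v : SL, u * v = -(v * u) → v * u ≠ u * v := by
        intro u v huv e'
        have : ∀ w : SL, w ≠ -w := by decide +kernel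
        exact this (u * v) (huv.trans (by rw [e']))
      have hneg : ∀ u : SL, u * -1 = -1 * u := by decide +kernel
      have hnn : ∀ u : SL, u ≠ -u := by decide +kernel
      have hz_e : z * e = C.ψ (-a) b := by
        rw [← mem_centralizer_singleton_iff.1 (h.le hq), ← hab, C.mul_z_left]
      have hpar : ∀ u v : SL, u * v = -(v * u) → u * -v = -(-v * u) := fun u v huv => by
        rw [mul_neg, huv, neg_mul, neg_neg]
      rcases comm_quat a c ha2 hc hca with rfl | rfl | rfl | rfl <;>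
        rcases comm_quat b d hb2 hd hdb with rfl | rfl | rfl | rfl
      · exact Or.inl (hcd.symm.trans C.ψ_one)
      · exact Or.inr (Or.inl (hcd.symm.trans C.ψ_z₂))
      · exfalso
        rcases C.ψ_eq h3 with ⟨-, r⟩ | ⟨r, -⟩
        · exact hkey _ _ hbk r
        · exact hnn k (by simpa using r)
      · exfalso
        rcases C.ψ_eq h3 with ⟨-, r⟩ | ⟨r, -⟩
        · exact hkey _ _ hbk (by simpa using r)
        · exact hnn k (by simpa using r)
      · exact Or.inr (Or.inl (hcd.symm.trans C.ψ_z₁))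
      · exact Or.inl (hcd.symm.trans (by rw [C.ψ_negneg, C.ψ_one]))
      · exfalso
        rcases C.ψ_eq h3 with ⟨-, r⟩ | ⟨r, -⟩
        · exact hkey _ _ hbk r
        · exact hnn (-k) (by simpa using r)
      · exfalso
        rcases C.ψ_eq h3 with ⟨-, r⟩ | ⟨r, -⟩
        · exact hkey _ _ hbk (by simpa using r)
        · exact hnn (-k) (by simpa using r)
      · exfalso
        rcases C.ψ_eq h3 with ⟨r, -⟩ | ⟨-, r⟩
        · exact hkey _ _ hak r
        · exact hnn k' (by simpa using r)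
      · exfalso
        rcases C.ψ_eq h3 with ⟨r, -⟩ | ⟨-, r⟩
        · exact hkey _ _ hak r
        · exact hnn (-k') (by simpa using r)
      · exact Or.inr (Or.inr (Or.inl (hcd.symm.trans hab)))
      · refine Or.inr (Or.inr (Or.inr ?_))
        rw [hz_e, ← hcd, ← C.ψ_negneg]
        simp
      · exfalso
        rcases C.ψ_eq h3 with ⟨r, -⟩ | ⟨-, r⟩
        · exact hkey _ _ hak (by simpa using r)
        · exact hnn k' (by simpa using r)
      · exfalso
        rcases C.ψ_eq h3 with ⟨r, -⟩ | ⟨-, r⟩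
        · exact hkey _ _ hak (by simpa using r)
        · exact hnn (-k') (by simpa using r)
      · exact Or.inr (Or.inr (Or.inr (hz_e.trans hcd).symm))
      · exact Or.inr (Or.inr (Or.inl (hcd.symm.trans ((C.ψ_negneg _ _).trans hab))))
    -- so the meet has at most two elements
    have hsmall : ∀ p ∈ Q ⊓ gQ Q g, p = 1 ∨ p = e := by
      intro p hp
      rcases hall p hp with rfl | rfl | rfl | rfl
      · exact Or.inl rfl
      · exact absurd hp.2 hzn
      · exact Or.inr rfl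
      · exact absurd (by simpa [mul_assoc, he2] using mul_mem hp.2 heg) hzn
    have hinj : Function.Injective
        (fun p : ↥(Q ⊓ gQ Q g) => (@decide ((p : G) = 1) (Classical.dec _))) := by
      intro p p' hpp
      refine Subtype.ext ?_
      rcases hsmall p p.2 with r | r <;> rcases hsmall p' p'.2 with r' | r' <;>
        simp [r, r', he1] at hpp ⊢
    have := Nat.card_le_card_of_injective _ hinj
    rw [hcard, Nat.card_eq_fintype_card, Fintype.card_bool] at this
    omega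
  refine ⟨hzg, fun x => ⟨fun hx => ?_, fun hx => ?_⟩⟩
  · have hf : ∀ i : Fin 4, (![1, z, e, z * e] i : G) ∈ Q ⊓ gQ Q g := by
      intro i
      fin_cases i
      · exact one_mem _
      · exact ⟨hzQ, hzg⟩
      · exact ⟨hq, heg⟩
      · exact mul_mem (⟨hzQ, hzg⟩ : z ∈ Q ⊓ gQ Q g) ⟨hq, heg⟩
    have hze : z * e ≠ 1 := fun e' => hne (by
      calc e = z * (z * e) := by rw [← mul_assoc, hz2, one_mul]
        _ = z := by rw [e', mul_one])
    let f : Fin 4 → ↥(Q ⊓ gQ Q g) := fun i => ⟨_, hf i⟩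
    have hf' : Function.Injective f := by
      intro i j hij
      have hv : (![1, z, e, z * e] i : G) = ![1, z, e, z * e] j := congrArg Subtype.val hij
      fin_cases i <;> fin_cases j <;> simp at hv <;>
        first
          | rfl
          | exact absurd hv hz1
          | exact absurd hv.symm hz1
          | exact absurd hv he1
          | exact absurd hv.symm he1
          | exact absurd hv hne
          | exact absurd hv.symm hne
          | exact absurd hv hze
          | exact absurd hv.symm hze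
    obtain ⟨i, hi⟩ := (hf'.bijective_of_nat_card_le (by rw [hcard, Nat.card_fin])).2 ⟨x, hx⟩
    have hxi : (![1, z, e, z * e] i : G) = x := congrArg Subtype.val hi
    fin_cases i <;> simp at hxi <;> simp [← hxi]
  · rcases hx with rfl | rfl | rfl | rfl
    · exact one_mem _
    · exact ⟨hzQ, hzg⟩
    · exact ⟨hq, heg⟩
    · exact mul_mem (⟨hzQ, hzg⟩ : z ∈ Q ⊓ gQ Q g) ⟨hq, heg⟩

/-- `C_Q(e)` and `C_{gQ g}(z)` commute modulo the meet. -/
theorem comm_mem_meet {d w : G} (hd : d ∈ Q) (hde : d * (g * z * g⁻¹) = g * z * g⁻¹ * d)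
    (hw : w ∈ gQ Q g) (hwz : w * z = z * w) : w * d * w⁻¹ * d⁻¹ ∈ Q ⊓ gQ Q g := by
  refine ⟨Q.mul_mem (h.conj_mem_Q hwz hd) (Q.inv_mem hd), ?_⟩
  have e1 : d * w⁻¹ * d⁻¹ ∈ gQ Q g := conj_mem_gQ h hq hne hde ((gQ Q g).inv_mem hw)
  have : w * d * w⁻¹ * d⁻¹ = w * (d * w⁻¹ * d⁻¹) := by simp [mul_assoc]
  rw [this]
  exact (gQ Q g).mul_mem hw e1

end

end CfsgLib.U43Type
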