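import Cfsg.Agent.Lib.U43Type.LinkChecks

/-!
# S5390 / S5391: the normalised link
-/

set_option autoImplicit false
set_option linter.unusedSectionVars false
set_option maxRecDepth 100000

namespace CfsgLib.U43Type

open Subgroup LinkCert

universe u

namespace LinkProof

variable {G : Type u} [Group G] {z : G} {Q : Subgroup G} (E : Emb true true z Q)

/-- the value of one step -/
def stepEl (g : G) : Option ℕ → G
  | none => g
  | some h => E.φ h

/-- the value of a word of steps -/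
def wordEl (g : G) (w : List (Option ℕ)) : G := (w.map (stepEl E g)).prod

theorem keys_lt {x : ℕ} (hx : x ∈ keys) : x < 1152 := by
  obtain ⟨p, hp, rfl⟩ := List.mem_map.1 hx
  exact (data_lt.1 p hp).1

theorem keys_spec {x : ℕ} (hx : x ∈ keys) : hm x eC = hm eC x ∧ hm x zC = hm zC x := by
  have h := List.all_eq_true.1 keys_comm x hx
  simpa using h

theorem mem_keys {n : ℕ} (hn : n < 1152) (h : hm n eC = hm eC n) : n ∈ keys := by
  have hh := List.all_eq_true.1 cent_e n (List.mem_range.2 hn)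
  simpa [h] using hh

theorem side_spec (b : Bool) : (∀ x ∈ eSide b, x ∈ keys) ∧ zC ∈ eSide b := by
  have h := List.all_eq_true.1 side_keys b (by cases b <;> simp)
  simpa using h

theorem cent_side_spec (b : Bool) {n : ℕ} (hn : n < 1152)
    (h : ∀ x ∈ eSide b, hm n x = hm x n) : n ∈ eSide b := by
  have h2 := List.all_eq_true.1 cent_side b (by cases b <;> simp)
  have hh := List.all_eq_true.1 h2 n (List.mem_range.2 hn)
  have hall : ((eSide b).all fun x => Nat.beq (hm n x) (hm x n)) = true :=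
    List.all_eq_true.2 fun x hx => by simp [h x hx]
  rw [hall] at hh
  simpa using hh

theorem conj_mul (g a b : G) : g * (a * b) * g⁻¹ = g * a * g⁻¹ * (g * b * g⁻¹) := by group

theorem conj_eq {n x y : ℕ} (hn : n < 1152) (hx : x < 1152) (hy : y < 1152)
    (h : E.φ n * E.φ x * (E.φ n)⁻¹ = E.φ y) : hm n x = hm y n := by
  refine E.inj _ _ (hm_lt hn hx) (hm_lt hy hn) ?_
  rw [E.map_hm hn hx, E.map_hm hy hn, ← h]
  group

/-- an element fixing `z` under conjugation is a code -/
theorem exists_code {y : G} (h : y * z * y⁻¹ = z) : ∃ n < 1152, E.φ n = y := by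
  refine E.code (mem_centralizer_iff.2 ?_)
  intro s hs
  obtain rfl : s = z := hs
  exact (mul_inv_eq_iff_eq_mul.1 h).symm

theorem comm_of_code {m n : ℕ} (hm' : m < 1152) (hn : n < 1152) (h : hm m n = hm n m) :
    E.φ m * E.φ n = E.φ n * E.φ m := by
  rw [← E.map_hm hm' hn, h, E.map_hm hn hm']

theorem eval_conj (g : G) (im : List ℕ) (him : ∀ i < 4, im.getD i 0 < 1152)
    (hg : ∀ i < 4, g * E.φ (gensC.getD i 0) * g⁻¹ = E.φ (im.getD i 0)) (w : List ℕ) :
    ∀ a b, a < 1152 → b < 1152 → g * E.φ a * g⁻¹ = E.φ b → (∀ i ∈ w, i < 4) →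
      w.foldl (fun r i => hm r (im.getD i 0)) b < 1152 ∧
        g * E.φ (w.foldl (fun r i => hm r (gensC.getD i 0)) a) * g⁻¹ =
          E.φ (w.foldl (fun r i => hm r (im.getD i 0)) b) := by
  induction w with
  | nil => exact fun a b _ hb h _ => ⟨hb, h⟩
  | cons i w ih =>
    intro a b ha hb h hw
    have hi := hw i (List.mem_cons_self ..)
    have hgl : gensC.getD i 0 < 1152 := by
      interval_cases i <;> decide
    simp only [List.foldl_cons]
    refine ih _ _ (hm_lt ha hgl) (hm_lt hb (him i hi)) ?_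
      (fun j hj => hw j (List.mem_cons_of_mem _ hj))
    rw [E.map_hm ha hgl, E.map_hm hb (him i hi), conj_mul, h, hg i hi]

theorem imFn_spec (g : G) (im : List ℕ) (him : ∀ i < 4, im.getD i 0 < 1152)
    (hg : ∀ i < 4, g * E.φ (gensC.getD i 0) * g⁻¹ = E.φ (im.getD i 0)) {x : ℕ} (hx : x ∈ keys) :
    imFn im x < 1152 ∧ g * E.φ x * g⁻¹ = E.φ (imFn im x) := by
  have h := List.all_eq_true.1 words_ok x hx
  simp only [Bool.and_eq_true, List.all_eq_true, decide_eq_true_eq] at h
  obtain ⟨h1, h2⟩ := h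
  have h3 := eval_conj E g im him hg (wordOf x) oneC oneC code_lt.1 code_lt.1
    (by rw [E.map_one]; group) h2
  refine ⟨h3.1, ?_⟩
  have e : evalW gensC (wordOf x) = x := by simpa using h1
  exact (congrArg (fun y => g * E.φ y * g⁻¹) e).symm.trans h3.2

theorem word_spec (g : G) (f : ℕ → ℕ)
    (hf : ∀ x ∈ keys, f x < 1152 ∧ g * E.φ x * g⁻¹ = E.φ (f x)) (w : List (Option ℕ)) :
    ∀ x, x < 1152 → runOK f w x = true →
      wordFn f w x < 1152 ∧ wordEl E g w * E.φ x * (wordEl E g w)⁻¹ = E.φ (wordFn f w x) := by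
  induction w with
  | nil => exact fun x hx _ => ⟨hx, by simp [wordEl, wordFn]⟩
  | cons t w ih =>
    intro x hx h
    have e : wordEl E g (t :: w) = stepEl E g t * wordEl E g w := by simp [wordEl]
    have e' : wordEl E g (t :: w) * E.φ x * (wordEl E g (t :: w))⁻¹ =
        stepEl E g t * (wordEl E g w * E.φ x * (wordEl E g w)⁻¹) * (stepEl E g t)⁻¹ := by
      rw [e]; group
    cases t with
    | none =>
      simp only [runOK, Bool.and_eq_true] at h
      obtain ⟨hy, hc⟩ := ih x hx h.1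
      obtain ⟨hl, hv⟩ := hf _ (List.contains_iff_mem.1 h.2)
      exact ⟨hl, by rw [e', hc]; exact hv⟩
    | some l =>
      simp only [runOK, Bool.and_eq_true, decide_eq_true_eq] at h
      obtain ⟨hy, hc⟩ := ih x hx h.1
      refine ⟨hconj_lt h.2 hy, ?_⟩
      rw [e', hc]
      exact (E.map_conj h.2 hy).symm

theorem bad_false (g : G) {p : List ℕ × Bool × List (Option ℕ) × List (ℕ × ℕ)} (hp : p ∈ badTab)
    (him : ∀ i < 4, p.1.getD i 0 < 1152)
    (hg : ∀ i < 4, g * E.φ (gensC.getD i 0) * g⁻¹ = E.φ (p.1.getD i 0)) : False := by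
  have h := List.all_eq_true.1 bad_ok p hp
  simp only [Bool.and_eq_true, List.all_eq_true, List.any_eq_true, beq_iff_eq, List.mem_range] at h
  obtain ⟨⟨⟨h1, h2⟩, h3⟩, h4⟩ := h
  have hf := fun x (hx : x ∈ keys) => imFn_spec E g p.1 him hg hx
  have key : ∀ x ∈ eSide p.2.1, wordFn (imFn p.1) p.2.2.1 x < 1152 ∧
      wordEl E g p.2.2.1 * E.φ x * (wordEl E g p.2.2.1)⁻¹ =
        E.φ (wordFn (imFn p.1) p.2.2.1 x) :=
    fun x hx => word_spec E g _ hf _ x (keys_lt ((side_spec p.2.1).1 x hx)) (h1 x hx)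
  have h3' : wordFn (imFn p.1) p.2.2.1 zC = zC := by simpa using h3
  obtain ⟨-, hz⟩ := key zC (side_spec p.2.1).2
  rw [h3', E.map_z] at hz
  obtain ⟨n, hn, hy⟩ := exists_code E hz
  obtain ⟨q, hq, hne⟩ := h4 n hn
  rw [h2, List.mem_map] at hq
  obtain ⟨x, hx, rfl⟩ := hq
  obtain ⟨hl, hv⟩ := key x hx
  rw [← hy] at hv
  have := conj_eq E hn (keys_lt ((side_spec p.2.1).1 x hx)) hl hv
  simp [this] at hne

theorem swap_images {g : G} (hs : Swap E g) : ∃ im : List ℕ, im ∈ tuples ∧
    ∀ i < 4, g * E.φ (gensC.getD i 0) * g⁻¹ = E.φ (im.getD i 0) := by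
  obtain ⟨c0, c1, c2, c3, e1, e2⟩ := cand_ok
  obtain ⟨⟨a0, b0⟩, ⟨a1, b1⟩, ⟨a2, b2⟩, a3, b3⟩ := gens_sides
  have lt : ∀ l ∈ dList ++ wList ++ elab1 ++ elab2, l < 1152 := data_lt.2.2.1
  have he : E.φ 12 = z * E.φ eC := by
    rw [← e1, E.map_hm code_lt.2.1 code_lt.2.2.1, E.map_z]
  have he' : E.φ 12 = E.φ eC * z := by
    rw [← e2, E.map_hm code_lt.2.2.1 code_lt.2.1, E.map_z]
  have hc : ∀ m, m ∈ [eC, 12, oneC, zC] → ∃ k, k ∈ [eC, 12, oneC, zC] ∧
      g * E.φ k * g⁻¹ = E.φ m := by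
    intro m hmem
    simp only [List.mem_cons, List.not_mem_nil, or_false] at hmem
    rcases hmem with rfl | rfl | rfl | rfl
    · exact ⟨zC, by simp, by rw [E.map_z, hs.gz]⟩
    · refine ⟨12, by simp, ?_⟩
      conv_rhs => rw [he']
      rw [he, conj_mul, hs.gz, hs.ge]
    · exact ⟨oneC, by simp, by rw [E.map_one]; group⟩
    · exact ⟨eC, by simp, by rw [hs.ge, E.map_z]⟩
  have pick : ∀ (X Y C : List ℕ) (x : ℕ), x ∈ X → x < 1152 → x ∉ [eC, 12, oneC, zC] →
      (∀ n ∈ X, ∃ m ∈ Y, g * E.φ n * g⁻¹ = E.φ m) → ∀ Z : List ℕ, x ∈ Z →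
      (∀ n ∈ Z, ∃ m ∈ Z, g * E.φ n * g⁻¹ = E.φ m) → (∀ m ∈ Y, m < 1152) → (∀ m ∈ Z, m < 1152) →
      (∀ m ∈ Y, m ∈ Z → m ∈ [eC, 12, oneC, zC] ∨ m ∈ C) →
      ∃ m ∈ C, g * E.φ x * g⁻¹ = E.φ m := by
    intro X Y C x hxX hxl hxn hXY Z hxZ hZ hYl hZl hC
    obtain ⟨m, hm1, hm2⟩ := hXY x hxX
    obtain ⟨m', hm1', hm2'⟩ := hZ x hxZ
    obtain rfl : m = m' := E.inj _ _ (hYl m hm1) (hZl m' hm1') (hm2.symm.trans hm2')
    refine ⟨m, (hC m hm1 hm1').resolve_left fun hmem => ?_, hm2⟩
    obtain ⟨k, hk, hk2⟩ := hc m hmem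
    have hkl : k < 1152 := by
      simp only [List.mem_cons, List.not_mem_nil, or_false] at hk
      rcases hk with rfl | rfl | rfl | rfl <;> decide
    have := E.inj _ _ hkl hxl (mul_left_cancel (mul_right_cancel (hk2.trans hm2.symm)))
    exact hxn (this ▸ hk)
  have lD : ∀ m ∈ dList, m < 1152 := fun m h => lt m (by simp [h])
  have lW : ∀ m ∈ wList, m < 1152 := fun m h => lt m (by simp [h])
  have l1 : ∀ m ∈ elab1, m < 1152 := fun m h => lt m (by simp [h])
  have l2 : ∀ m ∈ elab2, m < 1152 := fun m h => lt m (by simp [h])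
  obtain ⟨m0, h0, h0'⟩ := pick dList wList _ 728 a0 (by norm_num) (by decide) hs.gD elab1 b0 hs.gE₁ lW l1 c0
  obtain ⟨m1, h1, h1'⟩ := pick dList wList _ 712 a1 (by norm_num) (by decide) hs.gD elab2 b1 hs.gE₂ lW l2 c1
  obtain ⟨m2, h2, h2'⟩ := pick wList dList _ 731 a2 (by norm_num) (by decide) hs.gW elab1 b2 hs.gE₁ lD l1 c2
  obtain ⟨m3, h3, h3'⟩ := pick wList dList _ 1 a3 (by norm_num) (by decide) hs.gW elab2 b3 hs.gE₂ lD l2 c3
  refine ⟨[m0, m1, m2, m3], ?_, ?_⟩
  · simp only [tuples, List.mem_flatMap, List.mem_map]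
    exact ⟨m0, h0, m1, h1, m2, h2, m3, h3, rfl⟩
  · intro i hi
    interval_cases i <;> assumption

theorem exists_good {g : G} (hs : Swap E g) :
    ∃ g' : G, g' * z * g'⁻¹ = E.φ eC ∧ g' * E.φ eC * g'⁻¹ = z ∧
      ∀ x ∈ keys, g' * E.φ x * g'⁻¹ = E.φ (linkFn x) := by
  obtain ⟨im, him, hg⟩ := swap_images E hs
  have iml : ∀ i < 4, im.getD i 0 < 1152 := by
    have hl := data_lt.2.2.2.1
    simp only [tuples, List.mem_flatMap, List.mem_map] at him
    obtain ⟨a, ha, b, hb, c, hc, d, hd, rfl⟩ := him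
    intro i hi
    have hC : ∀ j < 4, candC.getD j [] ∈ candC := by
      intro j hj
      interval_cases j <;> simp [candC]
    interval_cases i
    · exact hl _ (hC 0 (by norm_num)) _ ha
    · exact hl _ (hC 1 (by norm_num)) _ hb
    · exact hl _ (hC 2 (by norm_num)) _ hc
    · exact hl _ (hC 3 (by norm_num)) _ hd
  rw [← tuples_eq, List.mem_map] at him
  obtain ⟨⟨im', c⟩, hp, rfl⟩ := him
  have ht := List.all_eq_true.1 tup_ok _ hp
  simp only [Bool.and_eq_true, List.all_eq_true] at ht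
  obtain ⟨⟨hck, hxk⟩, hrep⟩ := ht
  have hck' : c ∈ keys := List.contains_iff_mem.1 hck
  have hcl := keys_lt hck'
  obtain ⟨hce, hcz⟩ := keys_spec hck'
  have gz : (g * E.φ c) * z * (g * E.φ c)⁻¹ = E.φ eC := by
    have e : E.φ c * z * (E.φ c)⁻¹ = z := by
      have h := comm_of_code E hcl code_lt.2.1 hcz
      rw [E.map_z] at h
      rw [h]; group
    calc _ = g * (E.φ c * z * (E.φ c)⁻¹) * g⁻¹ := by group
      _ = _ := by rw [e, hs.gz]
  have ge : (g * E.φ c) * E.φ eC * (g * E.φ c)⁻¹ = z := by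
    have e : E.φ c * E.φ eC * (E.φ c)⁻¹ = E.φ eC := by
      rw [comm_of_code E hcl code_lt.2.2.1 hce]; group
    calc _ = g * (E.φ c * E.φ eC * (E.φ c)⁻¹) * g⁻¹ := by group
      _ = _ := by rw [e, hs.ge]
  set rep := gensC.map fun x => imFn im' (hconj c x) with hrepdef
  have hgen : ∀ i < 4, gensC.getD i 0 ∈ gensC := by
    intro i hi
    interval_cases i <;> simp [gensC]
  have hrl : ∀ i < 4, rep.getD i 0 = imFn im' (hconj c (gensC.getD i 0)) := by
    intro i hi
    interval_cases i <;> rfl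
  have hr1 : ∀ i < 4, rep.getD i 0 < 1152 := fun i hi => by
    rw [hrl i hi]
    exact (imFn_spec E g im' iml hg (List.contains_iff_mem.1 (hxk _ (hgen i hi)))).1
  have hr2 : ∀ i < 4, (g * E.φ c) * E.φ (gensC.getD i 0) * (g * E.φ c)⁻¹ =
      E.φ (rep.getD i 0) := fun i hi => by
    have hgl := data_lt.2.1 _ (hgen i hi)
    rw [hrl i hi, ← (imFn_spec E g im' iml hg (List.contains_iff_mem.1 (hxk _ (hgen i hi)))).2,
      E.map_conj hcl hgl]
    group
  rcases List.mem_cons.1 (List.contains_iff_mem.1 hrep) with hr | hr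
  · refine ⟨g * E.φ c, gz, ge, fun x hx => ?_⟩
    rw [(imFn_spec E _ rep hr1 hr2 hx).2, hr]
    obtain ⟨p, hp', rfl⟩ := List.mem_map.1 hx
    have h1 := List.all_eq_true.1 good_ok p hp'
    have h2 : linkFn p.1 = p.2 := by
      have : (linkTab.all fun p => Nat.beq (linkFn p.1) p.2) = true := by decide +kernel
      simpa using List.all_eq_true.1 this p hp'
    rw [h2]
    congr 1
    simpa using h1
  · obtain ⟨p, hp', hp''⟩ := List.mem_map.1 hr
    exact (bad_false E (g * E.φ c) hp' (hp'' ▸ hr1) (hp'' ▸ hr2)).elim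

theorem linkFn_lt {x : ℕ} (hx : x ∈ keys) : linkFn x < 1152 := by
  have h : (keys.all fun x => decide (linkFn x < 1152)) = true := by decide +kernel
  simpa using List.all_eq_true.1 h x hx

theorem exists_involution {g : G} (hs : Swap E g) :
    ∃ g' : G, g' * g' = 1 ∧ g' * z * g'⁻¹ = E.φ eC ∧
      ∀ x ∈ keys, g' * E.φ x * g'⁻¹ = E.φ (linkFn x) := by
  obtain ⟨g', gz, ge, ha⟩ := exists_good E hs
  obtain ⟨hq, h12, hinvol⟩ := sq_ok
  have h2z : g' * g' * z * (g' * g')⁻¹ = z := by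
    calc _ = g' * (g' * z * g'⁻¹) * g'⁻¹ := by group
      _ = _ := by rw [gz, ge]
  obtain ⟨n, hn, hy⟩ := exists_code E h2z
  have hcomm : ∀ x ∈ keys, hm n x = hm x n := by
    intro x hx
    have hlin : linkFn x ∈ keys := by
      have : (keys.all fun x => keys.contains (linkFn x)) = true := by decide +kernel
      exact List.contains_iff_mem.1 (List.all_eq_true.1 this x hx)
    refine conj_eq E hn (keys_lt hx) (keys_lt hx) ?_
    calc E.φ n * E.φ x * (E.φ n)⁻¹ = g' * (g' * E.φ x * g'⁻¹) * g'⁻¹ := by rw [hy]; group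
      _ = E.φ x := by
        rw [ha x hx, ha _ hlin]
        congr 1
        simpa using List.all_eq_true.1 hinvol x hx
  have hnk : n ∈ keys := mem_keys hn (hcomm eC data_lt.2.2.2.2.2.2)
  have hfix : linkFn n = n := by
    refine E.inj _ _ (linkFn_lt hnk) hn ?_
    rw [← ha n hnk, hy]
    group
  have h := List.all_eq_true.1 hq n hnk
  have hall : (keys.all fun x => Nat.beq (hm n x) (hm x n)) = true :=
    List.all_eq_true.2 fun x hx => by simp [hcomm x hx]
  rw [hall, hfix] at h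
  simp at h
  rcases h with h | h
  · exact ⟨g', by rw [← hy, h, E.map_one], gz, ha⟩
  · refine ⟨g' * z, ?_, ?_, fun x hx => ?_⟩
    · have e12 : E.φ 12 = g' * g' := by rw [← hy, h]
      calc g' * z * (g' * z) = g' * z * g'⁻¹ * (g' * g') * z := by group
        _ = E.φ eC * E.φ 12 * E.φ zC := by rw [gz, e12, E.map_z]
        _ = 1 := by
          rw [← E.map_hm code_lt.2.2.1 (by norm_num : 12 < 1152),
            ← E.map_hm (hm_lt code_lt.2.2.1 (by norm_num)) code_lt.2.1, h12, E.map_one]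
    · rw [← gz]; group
    · have e : z * E.φ x * z⁻¹ = E.φ x := by
        have h := comm_of_code E code_lt.2.1 (keys_lt hx) (keys_spec hx).2.symm
        rw [E.map_z] at h
        rw [h]; group
      rw [← ha x hx]
      calc _ = g' * (z * E.φ x * z⁻¹) * g'⁻¹ := by group
        _ = _ := by rw [e]

theorem letters_eq (g : G) {l : ℕ} (hl : l ≤ 5) :
    locLetters E g (Fin.ofNat 6 l) = stepEl E g (toStep l) := by
  interval_cases l <;> rfl

theorem letC_lt {l : ℕ} (hl : l < 5) : letC.getD l 0 < 1152 := by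
  interval_cases l <;> decide

/-- the meaning of a state -/
def stateEl (g : G) : ℕ × Option ℕ → G
  | (n, none) => E.φ n
  | (n, some a) => E.φ n * g * E.φ a

/-- the bound on a state -/
def stateOK : ℕ × Option ℕ → Prop
  | (n, none) => n < 1152
  | (n, some a) => n < 1152 ∧ a < 1152

theorem foldl_none (r : List ℕ) : r.foldl stepVal none = none := by
  induction r with
  | nil => rfl
  | cons l r ih => simp [stepVal, ih]

theorem eval_spec (g : G) (hsq : g * g = 1)
    (ha : ∀ x ∈ keys, g * E.φ x * g⁻¹ = E.φ (linkFn x)) (r : List ℕ) :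
    ∀ s t, stateOK s → r.foldl stepVal (some s) = some t →
      stateOK t ∧ stateEl E g t = stateEl E g s * val (locLetters E g) r := by
  induction r with
  | nil =>
    intro s t hs h
    simp only [List.foldl_nil, Option.some.injEq] at h
    subst h
    exact ⟨hs, by simp [val]⟩
  | cons l r ih =>
    intro s t hs h
    simp only [List.foldl_cons] at h
    cases hst : stepVal (some s) l with
    | none => rw [hst, foldl_none] at h; cases h
    | some s' =>
      rw [hst] at h
      suffices H : stateOK s' ∧ stateEl E g s' = stateEl E g s * locLetters E g (Fin.ofNat 6 l) by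
        obtain ⟨h1, h2⟩ := ih s' t H.1 h
        exact ⟨h1, by rw [h2, H.2]; simp [val, mul_assoc]⟩
      obtain ⟨n, _ | a⟩ := s <;> simp only [stepVal] at hst <;> split_ifs at hst with hl hl' <;>
        simp only [Option.some.injEq] at hst <;> subst hst
      · have hn : n < 1152 := hs
        refine ⟨hm_lt hn (letC_lt hl), ?_⟩
        rw [letters_eq E g (by omega), toStep, if_neg (by omega)]
        exact E.map_hm hn (letC_lt hl)
      · subst hl'
        refine ⟨⟨hs, code_lt.1⟩, ?_⟩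
        simp only [stateEl, E.map_one, mul_one]
        rw [letters_eq E g le_rfl]
        rfl
      · obtain ⟨hn, ha'⟩ : n < 1152 ∧ a < 1152 := hs
        refine ⟨⟨hn, hm_lt ha' (letC_lt hl)⟩, ?_⟩
        rw [letters_eq E g (by omega), toStep, if_neg (by omega)]
        simp only [stateEl, stepEl, E.map_hm ha' (letC_lt hl), mul_assoc]
      · obtain ⟨hn, ha'⟩ : n < 1152 ∧ a < 1152 := hs
        have hk : a ∈ keys := List.contains_iff_mem.1 hl'.2
        refine ⟨hm_lt hn (linkFn_lt hk), ?_⟩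
        simp only [stateEl]
        rw [letters_eq E g (by omega), toStep, if_pos hl'.1, E.map_hm hn (linkFn_lt hk), ← ha a hk,
          inv_eq_of_mul_eq_one_right hsq]
        simp only [stepEl, mul_assoc]

theorem val_blk (g : G) (blk : List ℕ) (h : ∀ l ∈ blk, l ≤ 5) :
    val (locLetters E g) blk = wordEl E g (blk.map toStep) := by
  simp only [val, wordEl, List.map_map]
  refine congrArg List.prod (List.map_congr_left fun l hl => ?_)
  exact letters_eq E g (h l hl)

theorem pow_spec (g : G) (ha : ∀ x ∈ keys, g * E.φ x * g⁻¹ = E.φ (linkFn x))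
    {p : List ℕ × ℕ × Bool} (hp : p ∈ powRels) :
    val (locLetters E g) (List.replicate p.2.1 p.1).flatten = 1 := by
  have h := List.all_eq_true.1 pow_ok p hp
  simp only [Bool.and_eq_true, Bool.or_eq_true, List.all_eq_true, decide_eq_true_eq] at h
  obtain ⟨⟨hl, hrun⟩, hfix⟩ := h
  have hf : ∀ x ∈ keys, linkFn x < 1152 ∧ g * E.φ x * g⁻¹ = E.φ (linkFn x) :=
    fun x hx => ⟨linkFn_lt hx, ha x hx⟩
  set y := val (locLetters E g) p.1 with hy
  have hwy : y = wordEl E g (p.1.map toStep) := val_blk E g p.1 hl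
  have hpw : val (locLetters E g) (List.replicate p.2.1 p.1).flatten = y ^ p.2.1 := by
    simp only [hy, val, List.map_flatten, List.map_replicate, List.prod_flatten, List.prod_replicate]
  rw [hpw]
  have hlt : ∀ x ∈ eSide p.2.2, x < 1152 := fun x hx => keys_lt ((side_spec p.2.2).1 x hx)
  have hstep : ∀ x ∈ eSide p.2.2, blockFn p.1 x ∈ eSide p.2.2 ∧
      y * E.φ x * y⁻¹ = E.φ (blockFn p.1 x) := fun x hx => by
    refine ⟨List.contains_iff_mem.1 (hrun x hx).2, ?_⟩
    rw [hwy]
    exact (word_spec E g _ hf _ x (hlt x hx) (hrun x hx).1).2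
  have hit : ∀ k : ℕ, ∀ x ∈ eSide p.2.2, (blockFn p.1)^[k] x ∈ eSide p.2.2 ∧
      y ^ k * E.φ x * (y ^ k)⁻¹ = E.φ ((blockFn p.1)^[k] x) := by
    intro k
    induction k with
    | zero => exact fun x hx => ⟨hx, by simp⟩
    | succ k ih =>
      intro x hx
      obtain ⟨h1, h2⟩ := ih x hx
      rw [Function.iterate_succ_apply']
      refine ⟨(hstep _ h1).1, ?_⟩
      rw [← (hstep _ h1).2, ← h2, pow_succ']
      group
  have hid : ∀ x ∈ eSide p.2.2, y ^ p.2.1 * E.φ x * (y ^ p.2.1)⁻¹ = E.φ x := by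
    intro x hx
    rw [(hit p.2.1 x hx).2]
    congr 1
    simpa using (hfix x hx).1
  have hz := hid zC (side_spec p.2.2).2
  rw [E.map_z] at hz
  obtain ⟨n, hn, hyn⟩ := exists_code E hz
  have hnE : n ∈ eSide p.2.2 := cent_side_spec p.2.2 hn fun x hx =>
    conj_eq E hn (hlt x hx) (hlt x hx) (by rw [hyn]; exact hid x hx)
  have hfixn : blockFn p.1 n = n := by
    refine E.inj _ _ (hlt _ (hstep n hnE).1) hn ?_
    rw [← (hstep n hnE).2, hyn]
    group
  have := (hfix n hnE).2
  rw [hfixn] at this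
  simp at this
  rw [← hyn, this, E.map_one]

end LinkProof

open LinkProof in
/-- P3: the normalised link and the local relators. -/
theorem link_of : StmtLink.{u} := by
  intro G _ _ z Q _ E g hs
  obtain ⟨g', hsq, gz, ha⟩ := exists_involution E hs
  refine ⟨g', hsq, fun p hp => ?_, fun r hr => ?_⟩
  · rw [ha p.1 (List.mem_map.2 ⟨p, hp, rfl⟩)]
    have : (linkTab.all fun p => Nat.beq (linkFn p.1) p.2) = true := by decide +kernel
    congr 1
    simpa using List.all_eq_true.1 this p hp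
  · have h := List.all_eq_true.1 rels_ok r hr
    simp only [Bool.or_eq_true, List.any_eq_true, beq_iff_eq] at h
    rcases h with h | ⟨p, hp, rfl⟩
    · have := (eval_spec E g' hsq ha r (oneC, none) (oneC, none) code_lt.1 h).2
      simpa [stateEl, E.map_one] using this.symm
    · exact pow_spec E g' ha hp

end CfsgLib.U43Type
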