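import Cfsg.Agent.Lib.U43Type.Assemble
import Cfsg.Agent.Lib.U43Type.LinkData

/-!
# S5390 / S5391: finite checks for the link
-/

set_option autoImplicit false
set_option maxRecDepth 100000
set_option maxHeartbeats 2000000

namespace CfsgLib.U43Type.LinkCert

/-- the two elementary abelian subgroups of order 16 -/
def eSide (b : Bool) : List ℕ := if b then elab2 else elab1

/-- the codes of the centraliser of `eC` -/
def keys : List ℕ := linkTab.map Prod.fst

/-- the action of the wanted link -/
def linkFn (x : ℕ) : ℕ := ((linkTab.find? fun p => Nat.beq p.1 x).map Prod.snd).getD 0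

/-- a word for an element of the centraliser of `eC` -/
def wordOf (x : ℕ) : List ℕ := ((wordTab.find? fun p => Nat.beq p.1 x).map Prod.snd).getD []

/-- the value of a word at given images -/
def evalW (im : List ℕ) (w : List ℕ) : ℕ := w.foldl (fun r i => hm r (im.getD i 0)) oneC

/-- the map given by images of the generators -/
def imFn (im : List ℕ) (x : ℕ) : ℕ := evalW im (wordOf x)

/-- the action of one step -/
def stepFn (f : ℕ → ℕ) : Option ℕ → ℕ → ℕ
  | none, x => f x
  | some h, x => hconj h x

/-- the action of a word -/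
def wordFn (f : ℕ → ℕ) (w : List (Option ℕ)) (x : ℕ) : ℕ := w.foldr (stepFn f) x

/-- a letter as a step -/
def toStep (l : ℕ) : Option ℕ := if l = 5 then none else some (letC.getD l 0)

/-- the action of a block of letters -/
def blockFn (blk : List ℕ) : ℕ → ℕ := wordFn linkFn (blk.map toStep)

/-- each step of a word is applied inside its domain -/
def runOK (f : ℕ → ℕ) : List (Option ℕ) → ℕ → Bool
  | [], _ => true
  | none :: w, x => runOK f w x && keys.contains (wordFn f w x)
  | some h :: w, x => runOK f w x && decide (h < 1152)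

/-- one letter in the evaluation of a word with segments between two links -/
def stepVal : Option (ℕ × Option ℕ) → ℕ → Option (ℕ × Option ℕ)
  | none, _ => none
  | some (n, none), l =>
      if l < 5 then some (hm n (letC.getD l 0), none) else if l = 5 then some (n, some oneC) else none
  | some (n, some a), l =>
      if l < 5 then some (n, some (hm a (letC.getD l 0)))
      else if l = 5 ∧ keys.contains a then some (hm n (linkFn a), none) else none

/-- all tuples of possible images -/
def tuples : List (List ℕ) :=
  (candC.getD 0 []).flatMap fun a => (candC.getD 1 []).flatMap fun b =>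
    (candC.getD 2 []).flatMap fun c => (candC.getD 3 []).map fun d => [a, b, c, d]

theorem data_lt : (∀ p ∈ linkTab, p.1 < 1152 ∧ p.2 < 1152) ∧ (∀ l ∈ gensC, l < 1152) ∧
    (∀ l ∈ dList ++ wList ++ elab1 ++ elab2, l < 1152) ∧ (∀ c ∈ candC, ∀ l ∈ c, l < 1152) ∧
    oneC ∈ keys ∧ zC ∈ keys ∧ eC ∈ keys := by decide +kernel

theorem keys_comm : (keys.all fun x => Nat.beq (hm x eC) (hm eC x) && Nat.beq (hm x zC) (hm zC x)) =
    true := by decide +kernel

theorem cent_e : ((List.range 1152).all fun n =>
    !Nat.beq (hm n eC) (hm eC n) || keys.contains n) = true := by decide +kernel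

theorem side_keys : ([false, true].all fun b =>
    (eSide b).all (fun x => keys.contains x) && (eSide b).contains zC) = true := by decide +kernel

theorem cent_side : ([false, true].all fun b => (List.range 1152).all fun n =>
    !((eSide b).all fun x => Nat.beq (hm n x) (hm x n)) || (eSide b).contains n) = true := by
  decide +kernel

theorem words_ok : (keys.all fun x =>
    Nat.beq (evalW gensC (wordOf x)) x && (wordOf x).all fun i => decide (i < 4)) = true := by
  decide +kernel

theorem gens_sides : (728 ∈ dList ∧ 728 ∈ elab1) ∧ (712 ∈ dList ∧ 712 ∈ elab2) ∧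
    (731 ∈ wList ∧ 731 ∈ elab1) ∧ (1 ∈ wList ∧ 1 ∈ elab2) := by decide +kernel

theorem cand_ok :
    (∀ m ∈ wList, m ∈ elab1 → m ∈ [eC, 12, oneC, zC] ∨ m ∈ candC.getD 0 []) ∧
    (∀ m ∈ wList, m ∈ elab2 → m ∈ [eC, 12, oneC, zC] ∨ m ∈ candC.getD 1 []) ∧
    (∀ m ∈ dList, m ∈ elab1 → m ∈ [eC, 12, oneC, zC] ∨ m ∈ candC.getD 2 []) ∧
    (∀ m ∈ dList, m ∈ elab2 → m ∈ [eC, 12, oneC, zC] ∨ m ∈ candC.getD 3 []) ∧
    hm zC eC = 12 ∧ hm eC zC = 12 := by decide +kernel

theorem tuples_eq : tupTab.map Prod.fst = tuples := by decide +kernel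

theorem tup_ok : (tupTab.all fun p =>
    keys.contains p.2 &&
      (gensC.all fun x => keys.contains (hconj p.2 x)) &&
      (goodIm :: badTab.map Prod.fst).contains (gensC.map fun x => imFn p.1 (hconj p.2 x))) = true := by
  decide +kernel

theorem good_ok : (linkTab.all fun p => Nat.beq (imFn goodIm p.1) p.2) = true := by decide +kernel

theorem bad_ok : (badTab.all fun p =>
    (eSide p.2.1).all (fun x => runOK (imFn p.1) p.2.2.1 x) &&
    (p.2.2.2 == (eSide p.2.1).map fun x => (x, wordFn (imFn p.1) p.2.2.1 x)) &&
    Nat.beq (wordFn (imFn p.1) p.2.2.1 zC) zC &&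
    (List.range 1152).all fun n =>
      p.2.2.2.any fun q => !Nat.beq (hm n q.1) (hm q.2 n)) = true := by
  decide +kernel

theorem sq_ok : (keys.all fun n =>
    !(Nat.beq (linkFn n) n && keys.all fun x => Nat.beq (hm n x) (hm x n)) ||
      Nat.beq n oneC || Nat.beq n 12) = true ∧
    hm (hm eC 12) zC = oneC ∧ (keys.all fun x => Nat.beq (linkFn (linkFn x)) x) = true := by
  decide +kernel

theorem pow_ok : (powRels.all fun p =>
    (p.1.all fun l => decide (l ≤ 5)) &&
    ((eSide p.2.2).all fun x => runOK linkFn (p.1.map toStep) x &&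
      (eSide p.2.2).contains (blockFn p.1 x)) &&
    (eSide p.2.2).all fun x => Nat.beq ((blockFn p.1)^[p.2.1] x) x &&
      (!Nat.beq (blockFn p.1 x) x || Nat.beq x oneC)) = true := by
  decide +kernel

theorem rels_ok : (relsLocal.all fun r =>
    (r.foldl stepVal (some (oneC, none)) == some (oneC, none)) ||
      powRels.any fun p => r == (List.replicate p.2.1 p.1).flatten) = true := by
  decide +kernel

end CfsgLib.U43Type.LinkCert
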