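import Cfsg.Agent.Lib.U43Type.Setup
import Cfsg.Agent.Lib.U43Type.Assemble
import Cfsg.Agent.Lib.U43Type.Bound
import Cfsg.Agent.Lib.U43Type.Census

/-!
# S5390 / S5391: the conclusion from the local pieces and the model
-/

set_option autoImplicit false
set_option maxRecDepth 100000

namespace CfsgLib.U43Type

open Subgroup

universe u

theorem locLetters_range {G : Type u} [Group G] {z : G} {Q : Subgroup G}
    (E : Emb true true z Q) (g u v : G) :
    (∀ l ∈ letC, E.φ l ∈ Set.range (Fin.snoc (Fin.snoc (locLetters E g) u) v : Fin 8 → G)) ∧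
      g ∈ Set.range (Fin.snoc (Fin.snoc (locLetters E g) u) v : Fin 8 → G) := by
  refine ⟨fun l hl => ?_, ⟨5, rfl⟩⟩
  simp only [letC, List.mem_cons, List.not_mem_nil, or_false] at hl
  rcases hl with rfl | rfl | rfl | rfl | rfl
  exacts [⟨0, rfl⟩, ⟨1, rfl⟩, ⟨2, rfl⟩, ⟨3, rfl⟩, ⟨4, rfl⟩]

/-- The statements from the pieces. -/
theorem conclusion (hs : StmtShape.{u}) (hw : StmtSwap.{u}) (hk : StmtLink.{u})
    (ht : StmtThree.{u}) (hm : StmtModel) {G : Type u} [Group G] [Finite G] {z : G}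
    {Q : Subgroup G} (h : Hyp G z Q) (K : Type) [Field K] [Fintype K]
    (hK : Fintype.card K = 9) :
    Nonempty (G ≃* Cfsg.PSU 4 K 3) ∧ Nat.card G = 2 ^ 7 * 3 ^ 6 * 5 * 7 ∧
      ∀ x y : G, orderOf x = 2 → orderOf y = 2 → IsConj x y := by
  obtain ⟨ε, δ, ⟨E₀⟩⟩ := hs G z Q h
  obtain ⟨E, g₀, hg₀⟩ := hw G z Q h ε δ E₀
  obtain ⟨g, hg⟩ := hk G z Q h E g₀ hg₀
  obtain ⟨u, v, hL⟩ := ht G z Q h E g hg
  obtain ⟨hsimp, hcard, LU, hLU, hgen⟩ := hm K hK
  obtain ⟨hl, hgr⟩ := locLetters_range E g u v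
  have hgz : g * z * g⁻¹ = E.φ eC := by
    have := hg.act (zC, eC) (by decide)
    rwa [E.map_z] at this
  obtain ⟨hC, he⟩ := letters_iso E bound_of hsimp hcard hLU hgen hgz hL hl hgr
  obtain ⟨htop, hG, hconj⟩ := census_link E hg h.ord h.card _
    (fun n hn => hC ((E.mem_cent _).2 ⟨n, hn, rfl⟩)) (subset_closure hgr) K hK he
  obtain ⟨e⟩ := he
  exact ⟨⟨(Subgroup.topEquiv.symm.trans (MulEquiv.subgroupCongr htop.symm)).trans e⟩, hG, hconj⟩

end CfsgLib.U43Type
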