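import Cfsg.Agent.Lib.U43Type.Defs
import Cfsg.Agent.Lib.KnownB.U4Mult.Basic
import Cfsg.Agent.Lib.Spor.McLUnitary.Unitary
import Cfsg.Agent.Lib.Classical.UnitarySimple

/-!
# S5390 / S5391, piece P6: eight generating involutions of `PSU₄(3)`

The letters are coded matrices over the field of order nine; the relators hold up to scalars, and the two
generators of `McLUnitary` are words in the letters.
-/

set_option autoImplicit false
set_option maxRecDepth 100000

namespace CfsgLib.U43Type.Model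

open Matrix
open CfsgLib.Spor.McLUnitary
open CfsgLib.KnownB.U4Mult (mmN ofCode_mmN eqN eqN_iff oneN ofCode_oneN pk9)
open CfsgLib.Spor.HSUnitary (equivarSub equivarHom equivarHom_eq)
open scoped Pointwise

/-- the eight letters -/
def letN : List ℕ := [22908173521140, 566022929481, 21748875365826, 11300136806610, 13840833996180, 411783429639412, 421395231059920, 418005454306762]

/-- the word of the first generator -/
def wordA : List ℕ := [1, 6, 1, 4, 7, 1, 7, 0, 5]

/-- the word of the second generator -/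
def wordB : List ℕ := [4, 1, 0, 6, 5, 7, 1, 3]

/-- the code of a scalar matrix -/
def scN (k : ℕ) : ℕ := pk9 16 fun n => if Nat.beq (n / 4) (n % 4) then k else 0

/-- the code of a product of letters -/
def wordN (r : List ℕ) : ℕ := r.foldr (fun i a => mmN (letN.getD (i % 8) 0) a) oneN

/-- equality of codes up to a scalar -/
def projB (a b : ℕ) : Bool := [1, 2, 3, 6].any fun k => eqN a (mmN (scN k) b)

theorem scN_scalar : ∀ k ∈ [1, 2, 3, 6], ofCode (scN k) = kOf k • (1 : Matrix (Fin 4) (Fin 4) K9) := by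
  decide +kernel

theorem letN_su : ((List.range 8).all fun i =>
    unitB (letN.getD i 0) && Nat.beq (detN (letN.getD i 0)) 1) = true := by decide +kernel

theorem rels_check : (allRels.all fun r => projB (wordN r) oneN) = true := by decide +kernel

theorem sq_check : ((List.range 8).all fun i => projB (wordN [i, i]) oneN) = true := by decide +kernel

theorem words_check : (projB (wordN wordA) matA && projB (wordN wordB) matB) = true := by
  decide +kernel

variable {F : Type} [Field F] [Fintype F]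

theorem mk_eq_of_projB [CharP F 3] (φ : K9 ≃+* F) {g h : Cfsg.SU 4 F 3} {a b : ℕ}
    (hg : toK φ g = ofCode a) (hh : toK φ h = ofCode b) (hab : projB a b = true) :
    (g : Cfsg.PSU 4 F 3) = (h : Cfsg.PSU 4 F 3) := by
  obtain ⟨k, hk, he⟩ := List.any_eq_true.1 hab
  have e : toK φ g = kOf k • toK φ h := by
    rw [hg, hh, eqN_iff.1 he, ofCode_mmN, scN_scalar k hk, Matrix.smul_mul, Matrix.one_mul]
  refine (QuotientGroup.eq.2 ?_).symm
  have ec : toK φ (h⁻¹ * g) = kOf k • (1 : Matrix (Fin 4) (Fin 4) K9) := by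
    rw [map_mul, e, Matrix.mul_smul, ← map_mul, inv_mul_cancel, map_one]
  rw [Subgroup.mem_center_iff]
  intro x
  refine toK_injective φ ?_
  rw [map_mul (toK φ) x, map_mul (toK φ) _ x, ec, Matrix.mul_smul, Matrix.mul_one, Matrix.smul_mul,
    Matrix.one_mul]

/-- the generators of `McLUnitary` generate -/
theorem closure_gens (hF : Fintype.card F = 9) (φ : K9 ≃+* F) (sA sB : Cfsg.SU 4 F 3)
    (hsA : toK φ sA = ofCode matA) (hsB : toK φ sB = ofCode matB) :
    Subgroup.closure ({(sA : Cfsg.PSU 4 F 3), (sB : Cfsg.PSU 4 F 3)} : Set (Cfsg.PSU 4 F 3)) = ⊤ := by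
  classical
  have := charP_three hF
  have hex : ∀ k : Fin 560, ∃ g : Cfsg.SU 4 F 3, toK φ g = tvM k :=
    fun k => exists_toK φ (tvM_isSU k)
  choose s hs using hex
  let π := QuotientGroup.mk' (Subgroup.center (Cfsg.SU 4 F 3))
  have hπinj : ∀ k l : Fin 560, π (s k) = π (s l) → k = l := by
    intro k l h
    have hc : (s k)⁻¹ * s l ∈ Subgroup.center (Cfsg.SU 4 F 3) := QuotientGroup.eq.1 h
    have hl : tvM l = tvM k * toK φ ((s k)⁻¹ * s l) := by
      rw [← hs k, ← hs l, ← map_mul, mul_inv_cancel_left]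
    obtain ⟨a, ha⟩ : ∃ a : K9, tvM l = a • tvM k := by
      rcases toK_center hF φ hc with e | e | e | e <;> rw [e] at hl
      · exact ⟨1, by rw [one_smul, hl, mul_one]⟩
      all_goals exact ⟨_, by rw [hl, Matrix.mul_smul, mul_one]⟩
    have e := smul_inj_of_trace (tvCheck_spec l).2.1 (tvCheck_spec k).2.1 ha
    rw [List.getD_eq_getElem _ _ (by rw [tvCodes_length]; exact l.2),
      List.getD_eq_getElem _ _ (by rw [tvCodes_length]; exact k.2)] at e
    have hnd : tvCodes.Nodup := tvCodes_nodup.imp fun h => Nat.ne_of_lt h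
    exact (Fin.ext (hnd.getElem_inj_iff.1 e)).symm
  let obj : Fin 112 → Set (Cfsg.PSU 4 F 3) :=
    fun i => (fun k => π (s k)) '' {k : Fin 560 | (k : ℕ) ∈ lineLists.getD i []}
  have hlt : ∀ i : Fin 112, ∀ k ∈ lineLists.getD i [], k < 560 := fun i k hk => by
    have hi : (i : ℕ) < lineLists.length := by rw [lineLists_length]; exact i.2
    rw [List.getD_eq_getElem _ _ hi] at hk
    exact Nat.le_of_ble_eq_true
      (List.all_eq_true.1 (List.all_eq_true.1 lineLists_lt _ (List.getElem_mem hi)) k hk)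
  have hobj : Function.Injective obj := by
    intro i j h
    have h1 := List.all_eq_true.1 (List.all_eq_true.1 lineLists_sep i (List.mem_range.2 i.2)) j
      (List.mem_range.2 j.2)
    simp only [Bool.or_eq_true, Nat.beq_eq, Bool.not_eq_true'] at h1
    refine Fin.ext (h1.resolve_right fun hn => ?_)
    rw [← Bool.not_eq_true, subB_iff] at hn
    refine hn fun k hk => ?_
    have : π (s ⟨k, hlt i k hk⟩) ∈ obj j := h ▸ ⟨⟨k, hlt i k hk⟩, hk, rfl⟩
    obtain ⟨l, hl, e⟩ := this
    obtain rfl := hπinj _ _ e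
    exact hl
  have key : ∀ (g : Cfsg.SU 4 F 3) (ct : List ℕ) (p : Fin 112 → Fin 112),
      (∀ k : Fin 560, ∃ h : ct.getD k 0 < 560, toK φ g * tvM k = tvM (ct.getD k 0) * toK φ g) →
      (∀ i : Fin 112, subB ((lineLists.getD i []).map fun k => ct.getD k 0) (lineLists.getD (p i) []) = true ∧
        subB (lineLists.getD (p i) []) ((lineLists.getD i []).map fun k => ct.getD k 0) = true) →
      ∀ i, ConjAct.toConjAct (π g) • obj i = obj (p i) := by
    intro g ct p hct hset i
    have hc : ∀ k : Fin 560, ConjAct.toConjAct (π g) • π (s k) = π (s ⟨_, (hct k).1⟩) := by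
      intro k
      obtain ⟨h, e⟩ := hct k
      rw [ConjAct.toConjAct_smul, ← map_mul, ← map_inv, ← map_mul]
      congr 1
      rw [mul_inv_eq_iff_eq_mul]
      refine toK_injective φ ?_
      rw [map_mul, map_mul, hs, hs]
      exact e
    obtain ⟨h1, h2⟩ := hset i
    rw [subB_iff] at h1 h2
    ext y
    constructor
    · rintro ⟨_, ⟨k, hk, rfl⟩, rfl⟩
      exact ⟨⟨_, (hct k).1⟩, h1 _ (List.mem_map.2 ⟨k, hk, rfl⟩), (hc k).symm⟩
    · rintro ⟨l, hl, rfl⟩
      obtain ⟨k, hk, he⟩ := List.mem_map.1 (h2 _ hl)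
      refine ⟨_, ⟨⟨k, hlt i k hk⟩, hk, rfl⟩, (hc _).trans ?_⟩
      exact congrArg (fun z => π (s z)) (Fin.ext he)
  have : Finite (ConjAct (Cfsg.PSU 4 F 3)) := Finite.of_equiv _ ConjAct.toConjAct.toEquiv
  let g₁ : ConjAct (Cfsg.PSU 4 F 3) := ConjAct.toConjAct (π sA)
  let g₂ : ConjAct (Cfsg.PSU 4 F 3) := ConjAct.toConjAct (π sB)
  have h₁ : ∀ i, g₁ • obj i = obj (pA i) :=
    key sA conjA pA (fun k => ⟨(conj_lt k).1, hsA ▸ (conj_tab k).1⟩) fun i => by
      rw [pA_val]
      simpa only [Bool.and_eq_true] using List.all_eq_true.1 conjA_sets i (List.mem_range.2 i.2)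
  have h₂ : ∀ i, g₂ • obj i = obj (pB i) :=
    key sB conjB pB (fun k => ⟨(conj_lt k).2, hsB ▸ (conj_tab k).2⟩) fun i => by
      rw [pB_val]
      simpa only [Bool.and_eq_true] using List.all_eq_true.1 conjB_sets i (List.mem_range.2 i.2)
  let ρ : Equiv.Perm (Fin 112) →* Equiv.Perm (Fin 112) := MonoidHom.id _
  have hρ : Function.Injective ρ := fun a b h => h
  let H : Subgroup (ConjAct (Cfsg.PSU 4 F 3)) := Subgroup.closure {g₁, g₂}
  have hH : H ≤ equivarSub obj ρ := by
    rw [Subgroup.closure_le]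
    rintro g (rfl | rfl)
    exacts [⟨pA, h₁⟩, ⟨pB, h₂⟩]
  let ψ := equivarHom hobj hρ H hH
  have hCle : model ≤ ψ.range := by
    rw [Subgroup.closure_le]
    rintro p (rfl | rfl)
    · exact ⟨⟨g₁, Subgroup.subset_closure (by simp)⟩, equivarHom_eq hobj hρ H hH h₁⟩
    · exact ⟨⟨g₂, Subgroup.subset_closure (by simp)⟩, equivarHom_eq hobj hρ H hH h₂⟩
  have e1 := Subgroup.card_le_of_le (K := ψ.range) hCle
  have e2 := Nat.card_le_card_of_surjective ψ.rangeRestrict ψ.rangeRestrict_surjective
  have e3 := le_card_model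
  have e4 : Nat.card (ConjAct (Cfsg.PSU 4 F 3)) = 3265920 := by
    rw [← Nat.card_congr ConjAct.toConjAct.toEquiv, card_PSU_four_three hF]
  have e5 := Subgroup.card_le_card_group H
  have hHtop : H = ⊤ := Subgroup.eq_top_of_card_eq H (by omega)
  refine eq_top_iff.2 fun x _ => ?_
  have hx : ConjAct.toConjAct x ∈ H := hHtop ▸ Subgroup.mem_top _
  have hle : H ≤ (Subgroup.closure ({π sA, π sB} : Set (Cfsg.PSU 4 F 3))).comap
      (ConjAct.ofConjAct (G := Cfsg.PSU 4 F 3)).toMonoidHom := by
    rw [Subgroup.closure_le]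
    rintro g (rfl | rfl)
    exacts [Subgroup.subset_closure (Or.inl rfl), Subgroup.subset_closure (Or.inr rfl)]
  exact hle hx

end CfsgLib.U43Type.Model

namespace CfsgLib.U43Type

open CfsgLib.Spor.McLUnitary Model
open CfsgLib.KnownB.U4Mult (ofCode_mmN oneN ofCode_oneN)

/-- P6: the relators hold in `PSU₄(3)` for generating letters. -/
theorem model_of : StmtModel := by
  intro K _ _ hK
  have := charP_three hK
  refine ⟨CfsgLib.Classical.Unitary.isSimpleGroup_PSU (q := 3)
    (by rw [Nat.card_eq_fintype_card, hK]; norm_num) (by norm_num) (by norm_num),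
    card_PSU_four_three hK, ?_⟩
  obtain ⟨φ⟩ := exists_ringEquiv hK
  have hsu : ∀ i : Fin 8, ∃ g : Cfsg.SU 4 K 3, toK φ g = ofCode (letN.getD i 0) := fun i =>
    exists_toK φ (isSU_of_code (List.all_eq_true.1 letN_su i (List.mem_range.2 i.2)))
  choose s hs using hsu
  let L : Fin 8 → Cfsg.PSU 4 K 3 := fun i => (s i : Cfsg.PSU 4 K 3)
  have hword : ∀ r : List ℕ, ∃ g : Cfsg.SU 4 K 3, toK φ g = ofCode (wordN r) ∧
      val L r = (g : Cfsg.PSU 4 K 3) := by
    intro r
    induction r with
    | nil => exact ⟨1, by rw [map_one]; exact ofCode_oneN.symm, rfl⟩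
    | cons i r ih =>
      obtain ⟨g, hg, hv⟩ := ih
      refine ⟨s (Fin.ofNat 8 i) * g, ?_, ?_⟩
      · rw [map_mul, hs, hg]
        exact (ofCode_mmN _ _).symm
      · rw [QuotientGroup.mk_mul]
        simp only [val, List.map_cons, List.prod_cons]
        rw [← hv]
        rfl
  have hone : ∀ r, projB (wordN r) oneN = true → val L r = 1 := fun r hr => by
    obtain ⟨g, hg, hv⟩ := hword r
    rw [hv, mk_eq_of_projB φ hg (show toK φ 1 = ofCode oneN by rw [map_one, ofCode_oneN]) hr]
    rfl
  refine ⟨L, ⟨fun i => ?_, fun r hr => hone r (List.all_eq_true.1 rels_check r hr)⟩, ?_⟩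
  · have h := hone [i.1, i.1] (List.all_eq_true.1 sq_check i.1 (List.mem_range.2 i.2))
    simpa [val] using h
  · obtain ⟨sA, hsA⟩ := exists_toK φ isSU_gens.1
    obtain ⟨sB, hsB⟩ := exists_toK φ isSU_gens.2
    have hmem : ∀ (r : List ℕ), val L r ∈ Subgroup.closure (Set.range L) := fun r =>
      Subgroup.list_prod_mem _ (by
        rintro x hx
        obtain ⟨i, -, rfl⟩ := List.mem_map.1 hx
        exact Subgroup.subset_closure ⟨_, rfl⟩)
    have hw := words_check
    rw [Bool.and_eq_true] at hw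
    rw [eq_top_iff, ← closure_gens hK φ sA sB hsA hsB, Subgroup.closure_le]
    rintro x (rfl | rfl)
    · obtain ⟨g, hg, hv⟩ := hword wordA
      rw [← mk_eq_of_projB φ hg hsA hw.1, ← hv]
      exact hmem _
    · obtain ⟨g, hg, hv⟩ := hword wordB
      rw [← mk_eq_of_projB φ hg hsB hw.2, ← hv]
      exact hmem _

end CfsgLib.U43Type
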