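import Cfsg.Agent.Lib.U43Type.ThreeDefs
import Cfsg.Agent.Lib.U43Type.Assemble

/-!
# S5390 / S5391, piece P4b2: the odd part `O` of the centralizer of `Y`

A Sylow 2-subgroup of `C(Y)` is `⟨z⟩`, so `C(Y)` has a normal 2-complement `O`.  The four-group
`⟨z, w⟩` acts on `O`; writing an element as a product of a fixed and inverted ones shows that `O`
is generated by `Y` and two elements of order three, whose commutator lies in `Y` and is inverted
by two automorphisms with no common inverted element.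
-/

set_option autoImplicit false
set_option linter.unusedSectionVars false
set_option linter.style.haveILetI false
set_option maxRecDepth 100000

namespace CfsgLib.U43Type

open Subgroup

universe u

namespace OPart

section Auto

variable {G : Type u} [Group G] [Finite G] {O : Subgroup G}

/-- square roots in a subgroup of odd order -/
theorem root (hO : Odd (Nat.card O)) :
    (∀ x ∈ O, ∃ y ∈ O, y * y = x) ∧ ∀ a ∈ O, ∀ b ∈ O, a * a = b * b → a = b := by
  obtain ⟨k, hk⟩ := hO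
  have h1 : ∀ a ∈ O, (a * a) ^ (k + 1) = a := fun a ha => by
    have hd : orderOf a ∣ Nat.card O := O.orderOf_dvd_natCard ha
    rw [← sq, ← pow_mul, show 2 * (k + 1) = Nat.card O + 1 by omega, pow_succ,
      orderOf_dvd_iff_pow_eq_one.1 hd, one_mul]
  refine ⟨fun x hx => ⟨x ^ (k + 1), pow_mem hx _, ?_⟩, fun a ha b hb h => ?_⟩
  · rw [← (Commute.refl x).mul_pow, h1 x hx]
  · rw [← h1 a ha, h, h1 b hb]

/-- fixed times inverted -/
theorem split (hO : Odd (Nat.card O)) (α : G ≃* G) (hα : ∀ x, α (α x) = x)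
    (hm' : ∀ x ∈ O, α x ∈ O) {x : G} (hx : x ∈ O) :
    ∃ c ∈ O, ∃ i ∈ O, α c = c ∧ α i = i⁻¹ ∧ x = c * i := by
  obtain ⟨hr, hu⟩ := root hO
  obtain ⟨i, hi, hii⟩ := hr ((α x)⁻¹ * x) (mul_mem (inv_mem (hm' x hx)) hx)
  have hai : α i = i⁻¹ := by
    refine hu _ (hm' i hi) _ (inv_mem hi) ?_
    rw [← map_mul, hii, ← mul_inv_rev, hii, map_mul, map_inv, hα, mul_inv_rev, inv_inv]
  refine ⟨x * i⁻¹, mul_mem hx (inv_mem hi), i, hi, ?_, hai, (inv_mul_cancel_right x i).symm⟩
  have h2 : α x = x * (i * i)⁻¹ := by rw [hii]; group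
  rw [map_mul, map_inv, hai, h2]
  group

/-- an element inverted by `α` is `k a k` -/
theorem fours (hO : Odd (Nat.card O)) (α β : G ≃* G) (hα : ∀ x, α (α x) = x)
    (hβ : ∀ x, β (β x) = x) (hab : ∀ x, α (β x) = β (α x)) (hmα : ∀ x ∈ O, α x ∈ O)
    (hmβ : ∀ x ∈ O, β x ∈ O) {i : G} (hi : i ∈ O) (hai : α i = i⁻¹) :
    ∃ k ∈ O, ∃ a ∈ O, α k = k⁻¹ ∧ β k = k⁻¹ ∧ α a = a⁻¹ ∧ β a = a ∧ i = k * a * k := by
  obtain ⟨hr, hu⟩ := root hO
  obtain ⟨s, hs, hss⟩ := hr (β i) (hmβ i hi)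
  obtain ⟨r, hr', hrr⟩ := hr (s * i * s) (mul_mem (mul_mem hs hi) hs)
  have huniq : ∀ p ∈ O, ∀ q ∈ O, p * β i * p = q * β i * q → p = q := by
    intro p hp q hq h
    have := hu _ (mul_mem (mul_mem hs hp) hs) _ (mul_mem (mul_mem hs hq) hs) (by
      calc s * p * s * (s * p * s) = s * (p * (s * s) * p) * s := by group
        _ = s * (q * (s * s) * q) * s := by rw [hss, h]
        _ = s * q * s * (s * q * s) := by group)
    exact mul_left_cancel (mul_right_cancel this)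
  obtain ⟨p, hp, hpi⟩ : ∃ p ∈ O, p * β i * p = i := by
    refine ⟨s⁻¹ * r * s⁻¹, mul_mem (mul_mem (inv_mem hs) hr') (inv_mem hs), ?_⟩
    calc s⁻¹ * r * s⁻¹ * β i * (s⁻¹ * r * s⁻¹) = s⁻¹ * r * s⁻¹ * (s * s) * (s⁻¹ * r * s⁻¹) := by
          rw [hss]
      _ = s⁻¹ * (r * r) * s⁻¹ := by group
      _ = i := by rw [hrr]; group
  have hpa : α p = p⁻¹ := by
    have e : α p * (β i)⁻¹ * α p = i⁻¹ := by
      have := congrArg α hpi
      rwa [map_mul, map_mul, hab, hai, map_inv] at this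
    refine inv_injective (huniq _ (inv_mem (hmα p hp)) _ (inv_mem (inv_mem hp)) ?_)
    have e' := congrArg (·⁻¹) e
    simp only [mul_inv_rev, inv_inv] at e'
    simp only [inv_inv, hpi]
    rw [mul_assoc]
    exact e'
  have hpb : β p = p⁻¹ := by
    refine inv_injective (huniq _ (inv_mem (hmβ p hp)) _ (inv_mem (inv_mem hp)) ?_)
    simp only [inv_inv, hpi]
    have e : β p * i * β p = β i := by
      have := congrArg β hpi
      rwa [map_mul, map_mul, hβ] at this
    rw [← e]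
    group
  obtain ⟨k, hk, hkk⟩ := hr p hp
  have hka : α k = k⁻¹ := hu _ (hmα k hk) _ (inv_mem hk) (by
    rw [← map_mul, hkk, hpa, ← mul_inv_rev, hkk])
  have hkb : β k = k⁻¹ := hu _ (hmβ k hk) _ (inv_mem hk) (by
    rw [← map_mul, hkk, hpb, ← mul_inv_rev, hkk])
  refine ⟨k, hk, k⁻¹ * i * k⁻¹, mul_mem (mul_mem (inv_mem hk) hi) (inv_mem hk), hka, hkb, ?_, ?_,
    by group⟩
  · rw [map_mul, map_mul, map_inv, hka, hai]
    group
  · rw [map_mul, map_mul, map_inv, hkb, inv_inv]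
    conv_rhs => rw [← hpi, ← hkk]
    group

/-- conjugation by an involution -/
theorem conj_invol {w : G} (hw : w * w = 1) (x : G) :
    MulAut.conj w (MulAut.conj w x) = x := by
  have : w⁻¹ = w := inv_eq_of_mul_eq_one_right hw
  simp only [MulAut.conj_apply, this]
  calc w * (w * x * w) * w = w * w * x * (w * w) := by group
    _ = x := by rw [hw, one_mul, mul_one]

end Auto

/-! ### finite checks -/

/-- the codes of `Y` -/
def yList : List ℕ := [312, 324, 336, 600, 612, 624, 888, 900, 912]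

theorem y_form : ∀ m ∈ yList, m = oneC ∨ m = x1C ∨ m = x2C ∨ m = hm x1C x1C ∨ m = hm x2C x2C ∨
    m = hm x1C x2C ∨ m = hm (hm x1C x1C) x2C ∨ m = hm x1C (hm x2C x2C) ∨
    m = hm (hm x1C x1C) (hm x2C x2C) := by
  decide +kernel

theorem cent_y : ((List.range 1152).all fun n =>
    !(Nat.beq (hm n x1C) (hm x1C n) && Nat.beq (hm n x2C) (hm x2C n)) ||
      yList.contains n || yList.contains (hm n zC)) = true := by
  decide +kernel

theorem norm_y : ((List.range 1152).all fun n =>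
    !(yList.contains (hconj n x1C) && yList.contains (hconj n x2C)) ||
      (yList.contains (hconj (hinv n) x1C) && yList.contains (hconj (hinv n) x2C))) = true := by
  decide +kernel

theorem y_facts : (∀ m ∈ yList, m < 1152 ∧ hm (hm m m) m = oneC ∧
    (hconj 349 m = hinv m → hconj 315 m = hinv m → m = oneC)) ∧ x1C ∈ yList ∧ x2C ∈ yList ∧
      612 ∈ yList := by
  decide +kernel

theorem w_facts : hm 349 349 = oneC ∧ hm 313 313 = oneC ∧ hm 315 315 = oneC ∧
    hm zC 349 = 313 ∧ hm zC zC = oneC ∧ hm zC 349 = hm 349 zC ∧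
    hm 349 612 = hm 612 349 ∧ hconj 315 349 = 313 ∧
    yList.contains (hconj 349 x1C) = true ∧ yList.contains (hconj 349 x2C) = true ∧
    yList.contains (hconj 315 x1C) = true ∧ yList.contains (hconj 315 x2C) = true ∧
    hm 612 612 ≠ oneC ∧ zC ≠ oneC := by
  decide +kernel

theorem link_facts : (0, 348) ∈ linkTab ∧ (764, 349) ∈ linkTab ∧ hconj 971 0 = 764 := by
  decide +kernel

end OPart

open OPart

variable {G : Type u} [Group G] [Finite G] {z : G} {Q : Subgroup G}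

/-- the centralizer of `Y` -/
def centY (E : Emb true true z Q) : Subgroup G := centralizer {E.φ x1C, E.φ x2C}

namespace OPart

variable (E : Emb true true z Q)

theorem mem_centY {a : G} : a ∈ centY E ↔
    a * E.φ x1C = E.φ x1C * a ∧ a * E.φ x2C = E.φ x2C * a := by
  simp [centY, mem_centralizer_iff, eq_comm]

theorem y_lt {m : ℕ} (h : m ∈ yList) : m < 1152 := (y_facts.1 m h).1

theorem comm_z {n : ℕ} (hn : n < 1152) : E.φ n * z = z * E.φ n :=
  mem_centralizer_singleton_iff.1 ((E.mem_cent _).2 ⟨n, hn, rfl⟩)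

theorem phi_sq {n : ℕ} (hn : n < 1152) (h : hm n n = oneC) : E.φ n * E.φ n = 1 := by
  rw [← E.map_hm hn hn, h, E.map_one]

theorem z_sq (E : Emb true true z Q) : z * z = 1 := by
  have := phi_sq E (n := zC) (by decide) w_facts.2.2.2.2.1
  rwa [E.map_z] at this

theorem y_closure {m : ℕ} (h : m ∈ yList) : E.φ m ∈ closure ({E.φ x1C, E.φ x2C} : Set G) := by
  have h1 : E.φ x1C ∈ closure ({E.φ x1C, E.φ x2C} : Set G) := subset_closure (Or.inl rfl)
  have h2 : E.φ x2C ∈ closure ({E.φ x1C, E.φ x2C} : Set G) := subset_closure (Or.inr rfl)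
  have l1 : x1C < 1152 := by decide
  have l2 : x2C < 1152 := by decide
  have l11 := hm_lt l1 l1
  have l22 := hm_lt l2 l2
  rcases y_form m h with rfl | rfl | rfl | rfl | rfl | rfl | rfl | rfl | rfl
  · rw [E.map_one]; exact one_mem _
  · exact h1
  · exact h2
  · rw [E.map_hm l1 l1]; exact mul_mem h1 h1
  · rw [E.map_hm l2 l2]; exact mul_mem h2 h2
  · rw [E.map_hm l1 l2]; exact mul_mem h1 h2
  · rw [E.map_hm l11 l2, E.map_hm l1 l1]; exact mul_mem (mul_mem h1 h1) h2
  · rw [E.map_hm l1 l22, E.map_hm l2 l2]; exact mul_mem h1 (mul_mem h2 h2)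
  · rw [E.map_hm l11 l22, E.map_hm l1 l1, E.map_hm l2 l2]
    exact mul_mem (mul_mem h1 h1) (mul_mem h2 h2)

theorem y_comm {m : ℕ} (h : m ∈ yList) {a : G} (ha : a ∈ centY E) :
    E.φ m * a = a * E.φ m := by
  have hle : closure ({E.φ x1C, E.φ x2C} : Set G) ≤ centralizer ({a} : Set G) := by
    rw [closure_le]
    obtain ⟨h1, h2⟩ := (mem_centY E).1 ha
    rintro x (rfl | rfl)
    exacts [mem_centralizer_singleton_iff.2 h1.symm, mem_centralizer_singleton_iff.2 h2.symm]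
  exact mem_centralizer_singleton_iff.1 (hle (y_closure E h))

theorem x_mem_centY : E.φ x1C ∈ centY E ∧ E.φ x2C ∈ centY E := by
  have hc : E.φ x1C * E.φ x2C = E.φ x2C * E.φ x1C := by
    rw [← E.map_hm (by decide) (by decide), ← E.map_hm (by decide) (by decide),
      show hm x1C x2C = hm x2C x1C by decide +kernel]
  exact ⟨(mem_centY E).2 ⟨rfl, hc⟩, (mem_centY E).2 ⟨hc.symm, rfl⟩⟩

theorem z_mem_centY : z ∈ centY E :=
  (mem_centY E).2 ⟨(comm_z E (by decide)).symm, (comm_z E (by decide)).symm⟩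

/-- an element of `C(Y)` commuting with `z` -/
theorem code_cz {a : G} (ha : a ∈ centY E) (hz : a * z = z * a) :
    ∃ m ∈ yList, a = E.φ m ∨ a * z = E.φ m := by
  obtain ⟨n, hn, rfl⟩ := (E.mem_cent a).1 (mem_centralizer_singleton_iff.2 hz)
  obtain ⟨h1, h2⟩ := (mem_centY E).1 ha
  have e1 : hm n x1C = hm x1C n := E.inj _ _ (hm_lt hn (by decide)) (hm_lt (by decide) hn)
    (by rw [E.map_hm hn (by decide), E.map_hm (by decide) hn, h1])
  have e2 : hm n x2C = hm x2C n := E.inj _ _ (hm_lt hn (by decide)) (hm_lt (by decide) hn)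
    (by rw [E.map_hm hn (by decide), E.map_hm (by decide) hn, h2])
  have hh := List.all_eq_true.1 cent_y n (List.mem_range.2 hn)
  simp [e1, e2] at hh
  rcases hh with h | h
  · exact ⟨n, h, Or.inl rfl⟩
  · refine ⟨_, h, Or.inr ?_⟩
    rw [E.map_hm hn (by decide), E.map_z]

theorem y_cube {m : ℕ} (h : m ∈ yList) : E.φ m ^ 3 = 1 := by
  obtain ⟨hlt, hc, -⟩ := y_facts.1 m h
  rw [pow_succ, sq, ← E.map_hm hlt hlt, ← E.map_hm (hm_lt hlt hlt) hlt, hc, E.map_one]

theorem eq_one_of_two_three {x : G} {k : ℕ} (h2 : x ^ 2 ^ k = 1) (h3 : x ^ 3 = 1) : x = 1 := by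
  have h := pow_gcd_eq_one.2 ⟨h2, h3⟩
  have hc : Nat.gcd (2 ^ k) 3 = 1 := Nat.Coprime.pow_left k (by decide)
  rwa [hc, pow_one] at h

/-- The centralizer of `Y` has a subgroup of odd order and index two. -/
theorem exists_odd_part : ∃ O : Subgroup G, O ≤ centY E ∧ Odd (Nat.card O) ∧
    (∀ a ∈ centY E, a ∈ O ∨ a * z ∈ O) ∧ ∀ a ∈ centY E, Odd (orderOf a) → a ∈ O := by
  set C := centY E with hC
  have : Fact (Nat.Prime 2) := ⟨Nat.prime_two⟩
  set z' : C := ⟨z, z_mem_centY E⟩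
  have hz2 : z' * z' = 1 := Subtype.ext (z_sq E)
  have hz1 : z ≠ 1 := fun h => w_facts.2.2.2.2.2.2.2.2.2.2.2.2.2
    (E.inj _ _ (by decide) (by decide) (by rw [E.map_z, E.map_one, h]))
  have hzo : orderOf z' = 2 :=
    orderOf_eq_prime (by rw [sq, hz2]) (fun h => hz1 (congrArg Subtype.val h))
  obtain ⟨P, hP⟩ := IsPGroup.exists_le_sylow
    (IsPGroup.of_card (p := 2) (n := 1) (G := zpowers z') (by rw [Nat.card_zpowers, hzo, pow_one]))
  have hzP : z' ∈ (P : Subgroup C) := hP (mem_zpowers z')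
  -- an element of `P` commuting with `z` is `1` or `z`
  have hsmall : ∀ p ∈ (P : Subgroup C), p * z' = z' * p → p = 1 ∨ p = z' := by
    intro p hp hpz
    obtain ⟨k, hk⟩ := P.2 ⟨p, hp⟩
    have hk' : p ^ 2 ^ k = 1 := congrArg Subtype.val hk
    obtain ⟨m, hm', h | h⟩ := code_cz E p.2 (congrArg Subtype.val hpz)
    · refine Or.inl (eq_one_of_two_three hk' (Subtype.ext ?_))
      rw [SubmonoidClass.coe_pow, h, y_cube E hm']; rfl
    · refine Or.inr ?_
      have h3 : (p * z') ^ 3 = 1 := Subtype.ext (by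
        rw [SubmonoidClass.coe_pow, Subgroup.coe_mul]
        show ((p : G) * z) ^ 3 = 1
        rw [h, y_cube E hm'])
      have h2 : (p * z') ^ 2 ^ (k + 1) = 1 := by
        rw [(show Commute p z' from hpz).mul_pow, pow_succ, pow_mul, hk', one_pow, one_mul,
          mul_comm, pow_mul, sq, hz2, one_pow]
      rw [eq_inv_of_mul_eq_one_left (eq_one_of_two_three h2 h3), inv_eq_of_mul_eq_one_right hz2]
  have hzPc : ∀ p ∈ (P : Subgroup C), p * z' = z' * p := by
    have : Nontrivial (P : Subgroup C) :=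
      ⟨⟨⟨z', hzP⟩, 1, fun h => hz1 (congrArg (fun x => (((x : (P : Subgroup C)) : C) : G)) h)⟩⟩
    obtain ⟨u, hu, hu1⟩ := (nontrivial_iff_exists_ne_one _).1 P.2.center_nontrivial
    have huc := mem_center_iff.1 hu
    have huz : (u : C) * z' = z' * u := (congrArg Subtype.val (huc ⟨z', hzP⟩)).symm
    rcases hsmall u u.2 huz with h | h
    · exact absurd (Subtype.ext h) hu1
    · intro p hp
      have := congrArg Subtype.val (huc ⟨p, hp⟩)
      simp only [Subgroup.coe_mul, h] at this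
      exact this
  have hPz : (P : Subgroup C) = zpowers z' := by
    refine le_antisymm (fun p hp => ?_) hP
    rcases hsmall p hp (hzPc p hp) with rfl | rfl
    exacts [one_mem _, mem_zpowers _]
  have hPcard : Nat.card (P : Subgroup C) = 2 := by rw [hPz, Nat.card_zpowers, hzo]
  have hcyc : IsCyclic (P : Subgroup C) := isCyclic_of_prime_card (p := 2) hPcard
  have heven : 2 ∣ Nat.card C := hPcard ▸ card_subgroup_dvd_card _
  have hp : (Nat.card C).minFac = 2 := (Nat.minFac_eq_two_iff _).2 heven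
  have hc := IsCyclic.isComplement' hp hcyc
  generalize hK : (MonoidHom.transferSylow P (hcyc.normalizer_le_centralizer hp)).ker = K at hc
  have hi : K.index = 2 := hc.symm.index_eq_card.trans hPcard
  have hcard : Nat.card K = (P : Subgroup C).index := by
    refine Nat.eq_of_mul_eq_mul_left (Nat.card_pos (α := (P : Subgroup C))) ?_
    rw [Subgroup.card_mul_index, mul_comm, hc.card_mul_card]
  have hodd : Odd (Nat.card K) := by
    rw [hcard]
    exact Nat.odd_iff.2 (Nat.two_dvd_ne_zero.1 P.not_dvd_index)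
  have hzK : z' ∉ K := by
    intro h
    have := hzo ▸ K.orderOf_dvd_natCard h
    exact Nat.not_even_iff_odd.2 hodd (even_iff_two_dvd.2 this)
  refine ⟨K.map C.subtype, map_subtype_le K, ?_, fun a ha => ?_, fun a ha hao => ?_⟩
  · rwa [← Nat.card_congr (equivMapOfInjective K _ C.subtype_injective).toEquiv]
  · by_cases h : (⟨a, ha⟩ : C) ∈ K
    · exact Or.inl ⟨_, h, rfl⟩
    · refine Or.inr ⟨⟨a, ha⟩ * z', ?_, rfl⟩
      rw [SetLike.mem_coe, mul_mem_iff_of_index_two hi]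
      exact ⟨fun x => absurd x h, fun x => absurd x hzK⟩
  · refine ⟨⟨a, ha⟩, ?_, rfl⟩
    obtain ⟨m, hm'⟩ : Odd (orderOf (⟨a, ha⟩ : C)) := by rwa [← Subgroup.orderOf_coe]
    have e : ((⟨a, ha⟩ : C) ^ (m + 1)) ^ 2 = ⟨a, ha⟩ := by
      rw [← pow_mul, show (m + 1) * 2 = orderOf (⟨a, ha⟩ : C) + 1 by omega, pow_succ,
        pow_orderOf_eq_one, one_mul]
    rw [← e, sq, SetLike.mem_coe, mul_mem_iff_of_index_two hi]

end OPart

set_option maxHeartbeats 1600000 in
open OPart in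
/-- P4b2: the group `O`. -/
theorem odata_of : StmtOData.{u} := by
  intro hesc G _ _ z Q hyp E g hg
  obtain ⟨O, hOC, hOodd, hcov, hodd⟩ := exists_odd_part E
  -- the part of `O` centralizing `z`
  have hYO : ∀ {m : ℕ}, m ∈ yList → E.φ m ∈ O := fun {m} hm' => by
    refine hodd _ ?_ ?_
    · exact (closure_le _).2 (Set.insert_subset (x_mem_centY E).1
        (Set.singleton_subset_iff.2 (x_mem_centY E).2)) (y_closure E hm')
    · exact Odd.of_dvd_nat (by decide : Odd 3) (orderOf_dvd_of_pow_eq_one (y_cube E hm'))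
  have hzc : z ∈ centY E := z_mem_centY E
  have hzO : z ∉ O := fun h => by
    have := hyp.ord ▸ O.orderOf_dvd_natCard h
    exact Nat.not_even_iff_odd.2 hOodd (even_iff_two_dvd.2 this)
  have hcz : ∀ a ∈ O, a * z = z * a → ∃ m ∈ yList, a = E.φ m := by
    intro a ha haz
    obtain ⟨m, hm', h | h⟩ := code_cz E (hOC ha) haz
    · exact ⟨m, hm', h⟩
    · refine absurd ?_ hzO
      have := O.mul_mem (O.inv_mem ha) (h ▸ hYO hm')
      rwa [inv_mul_cancel_left] at this
  -- conjugation by elements normalizing `Y`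
  have hstable : ∀ n, n < 1152 → hconj n x1C ∈ yList → hconj n x2C ∈ yList →
      ∀ a ∈ O, E.φ n * a * (E.φ n)⁻¹ ∈ O := by
    intro n hn h1 h2 a ha
    have hh := List.all_eq_true.1 norm_y n (List.mem_range.2 hn)
    simp [h1, h2] at hh
    have hni := (hinv_spec hn).1
    refine hodd _ ((mem_centY E).2 ⟨?_, ?_⟩) ?_
    · have e := y_comm E hh.1 (hOC ha)
      rw [E.map_conj hni (by decide), E.map_inv hn, inv_inv] at e
      calc E.φ n * a * (E.φ n)⁻¹ * E.φ x1C
          = E.φ n * (a * ((E.φ n)⁻¹ * E.φ x1C * E.φ n)) * (E.φ n)⁻¹ := by group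
        _ = E.φ n * ((E.φ n)⁻¹ * E.φ x1C * E.φ n * a) * (E.φ n)⁻¹ := by rw [e]
        _ = E.φ x1C * (E.φ n * a * (E.φ n)⁻¹) := by group
    · have e := y_comm E hh.2 (hOC ha)
      rw [E.map_conj hni (by decide), E.map_inv hn, inv_inv] at e
      calc E.φ n * a * (E.φ n)⁻¹ * E.φ x2C
          = E.φ n * (a * ((E.φ n)⁻¹ * E.φ x2C * E.φ n)) * (E.φ n)⁻¹ := by group
        _ = E.φ n * ((E.φ n)⁻¹ * E.φ x2C * E.φ n * a) * (E.φ n)⁻¹ := by rw [e]
        _ = E.φ x2C * (E.φ n * a * (E.φ n)⁻¹) := by group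
    · rw [show orderOf (E.φ n * a * (E.φ n)⁻¹) = orderOf a from
        (MulAut.conj (E.φ n)).orderOf_eq a]
      exact Odd.of_dvd_nat hOodd (O.orderOf_dvd_natCard ha)
  obtain ⟨w349, w313, w315, hzw, hzz, hzw', hw612, hswap, hwy1, hwy2, hny1, hny2, h612, -⟩ :=
    w_facts
  simp only [List.contains_iff_mem] at hwy1 hwy2 hny1 hny2
  have hl349 : 349 < 1152 := by decide
  have hl315 : 315 < 1152 := by decide
  have hlz : zC < 1152 := by decide
  set w := E.φ 349 with hw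
  set n := E.φ 315 with hn
  have hww : w * w = 1 := phi_sq E hl349 w349
  have hnn : n * n = 1 := phi_sq E hl315 w315
  have hw' : E.φ 313 = z * w := by rw [← hzw, E.map_hm hlz hl349, E.map_z]
  have hzwc : z * w = w * z := (comm_z E hl349).symm
  have hnz : n * z = z * n := comm_z E hl315
  have hnw : n * w * n⁻¹ = z * w := by rw [← hw', ← hswap, E.map_conj hl315 hl349]
  have hz2 := z_sq E
  have hOz : ∀ a ∈ O, z * a * z⁻¹ ∈ O := by
    intro a ha
    refine hodd _ ((centY E).mul_mem ((centY E).mul_mem hzc (hOC ha)) ((centY E).inv_mem hzc)) ?_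
    rw [show orderOf (z * a * z⁻¹) = orderOf a from (MulAut.conj z).orderOf_eq a]
    exact Odd.of_dvd_nat hOodd (O.orderOf_dvd_natCard ha)
  have hOw : ∀ a ∈ O, w * a * w⁻¹ ∈ O := hstable 349 hl349 hwy1 hwy2
  have hOn : ∀ a ∈ O, n * a * n⁻¹ ∈ O := hstable 315 hl315 hny1 hny2
  -- the centralizer of `w` in `O`
  set B : Subgroup G := O ⊓ centralizer ({w} : Set G) with hBdef
  have hB : ∀ {b}, b ∈ B ↔ b ∈ O ∧ b * w = w * b := fun {b} => by
    rw [hBdef, mem_inf, mem_centralizer_singleton_iff]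
  set c := g * E.φ 971 * g with hc
  have hcw : c * z * c⁻¹ = w := by
    obtain ⟨k1, k2, k3⟩ := link_facts
    have hl : 971 < 1152 := by decide
    have he : g * z * g⁻¹ = E.φ 0 := by
      have h := hg.act _ k1
      simp only at h
      rw [show g * z * g⁻¹ = g * E.φ 348 * g⁻¹ by rw [show E.φ 348 = z from E.map_z]]
      rw [← h, inv_eq_of_mul_eq_one_right hg.sq]
      calc g * (g * E.φ 0 * g) * g = g * g * E.φ 0 * (g * g) := by group
        _ = E.φ 0 := by rw [hg.sq]; group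
    have h := hg.act _ k2
    simp only at h
    calc c * z * c⁻¹ = g * (E.φ 971 * (g * z * g⁻¹) * (E.φ 971)⁻¹) * g⁻¹ := by rw [hc]; group
      _ = g * E.φ 764 * g⁻¹ := by rw [he, ← E.map_conj hl (by decide), k3]
      _ = w := h
  have hB9 : Nat.card B ∣ 9 := by
    set B' := B.map (MulAut.conj c⁻¹).toMonoidHom with hB'
    have hcard : Nat.card B' = Nat.card B :=
      (Nat.card_congr (B.equivMapOfInjective _ (MulAut.conj c⁻¹).injective).toEquiv).symm
    have hle : B' ≤ centralizer ({z} : Set G) := by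
      rintro _ ⟨b, hb, rfl⟩
      rw [mem_centralizer_singleton_iff]
      have e := (hB.1 hb).2
      rw [← hcw] at e
      show c⁻¹ * b * c⁻¹⁻¹ * z = z * (c⁻¹ * b * c⁻¹⁻¹)
      calc c⁻¹ * b * c⁻¹⁻¹ * z = c⁻¹ * (b * (c * z * c⁻¹)) * c := by group
        _ = c⁻¹ * (c * z * c⁻¹ * b) * c := by rw [e]
        _ = z * (c⁻¹ * b * c⁻¹⁻¹) := by group
    have hd := card_dvd_of_le hle
    rw [hcard, hyp.card] at hd
    have hco : (Nat.card B).Coprime (2 ^ 7) :=
      Nat.Coprime.pow_right 7 ((Nat.coprime_two_right).2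
        (Odd.of_dvd_nat hOodd (card_dvd_of_le inf_le_left)))
    exact hco.dvd_of_dvd_mul_left (by simpa using hd : Nat.card B ∣ 2 ^ 7 * 9)
  have hBcases : Nat.card B = 1 ∨ Nat.card B = 3 ∨ Nat.card B = 9 := by
    have := Nat.le_of_dvd (by norm_num) hB9
    interval_cases (Nat.card B) <;> omega
  have hBcomm : ∀ a ∈ B, ∀ b ∈ B, a * b = b * a := by
    intro a ha b hb
    rcases hBcases with h | h | h
    · have := (Nat.card_eq_one_iff_unique.1 h).1
      rw [show a = b from congrArg Subtype.val (Subsingleton.elim (⟨a, ha⟩ : B) ⟨b, hb⟩)]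
    · have := Fact.mk Nat.prime_three
      have := isCyclic_of_prime_card (p := 3) h
      have hc := IsCyclic.isMulCommutative (α := B)
      exact congrArg Subtype.val (hc.is_comm.comm (⟨a, ha⟩ : B) ⟨b, hb⟩)
    · have := Fact.mk Nat.prime_three
      exact congrArg Subtype.val (IsPGroup.commutative_of_card_eq_prime_sq (p := 3)
        (G := B) (by rw [h]; norm_num) ⟨a, ha⟩ ⟨b, hb⟩)
  set x := E.φ 612 with hx
  have hxB : x ∈ B := hB.2 ⟨hYO y_facts.2.2.2, by
    rw [hx, hw, ← E.map_hm (by decide) hl349, ← E.map_hm hl349 (by decide), hw612]⟩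
  have hxz : z * x * z⁻¹ = x := by rw [← comm_z E (by decide), mul_inv_cancel_right]
  have hxne : x ≠ x⁻¹ := fun h => h612 (E.inj _ _ (hm_lt (by decide) (by decide)) (by decide)
    (by rw [E.map_hm (by decide) (by decide), E.map_one, ← hx]; exact mul_eq_one_iff_eq_inv.2 h))
  -- decompositions
  have hzi := conj_invol hz2
  have hwi := conj_invol hww
  have hzwx : ∀ a : G, MulAut.conj z (MulAut.conj w a) = MulAut.conj w (MulAut.conj z a) := by
    intro a
    simp only [MulAut.conj_apply]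
    calc z * (w * a * w⁻¹) * z⁻¹ = z * w * a * (z * w)⁻¹ := by group
      _ = w * z * a * (w * z)⁻¹ := by rw [hzwc]
      _ = w * (z * a * z⁻¹) * w⁻¹ := by group
  have hkB : ∀ k ∈ O, z * k * z⁻¹ = k⁻¹ → w * k * w⁻¹ = k⁻¹ →
      n * k * n⁻¹ ∈ B ∧ z * (n * k * n⁻¹) * z⁻¹ = (n * k * n⁻¹)⁻¹ := by
    intro k hk hkz hkw
    have hnw2 : n⁻¹ * w * n = z * w := by
      have hni : n⁻¹ = n := inv_eq_of_mul_eq_one_right hnn
      rw [← hnw, hni]
    have hfix : z * w * k * (z * w)⁻¹ = k := by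
      calc z * w * k * (z * w)⁻¹ = z * (w * k * w⁻¹) * z⁻¹ := by group
        _ = (z * k * z⁻¹)⁻¹ := by rw [hkw]; group
        _ = k := by rw [hkz, inv_inv]
    refine ⟨hB.2 ⟨hOn k hk, ?_⟩, ?_⟩
    · calc n * k * n⁻¹ * w = n * (k * (n⁻¹ * w * n)) * n⁻¹ := by group
        _ = n * (z * w * k * (z * w)⁻¹ * (z * w)) * n⁻¹ := by rw [hnw2, hfix]
        _ = n * ((n⁻¹ * w * n) * k) * n⁻¹ := by rw [hnw2, inv_mul_cancel_right]
        _ = w * (n * k * n⁻¹) := by group
    · calc z * (n * k * n⁻¹) * z⁻¹ = z * n * k * (z * n)⁻¹ := by group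
        _ = n * z * k * (n * z)⁻¹ := by rw [hnz]
        _ = n * (z * k * z⁻¹) * n⁻¹ := by group
        _ = (n * k * n⁻¹)⁻¹ := by rw [hkz]; group
  have hdec : ∀ a ∈ O, ∃ m ∈ yList, ∃ k ∈ O, ∃ b ∈ B, z * k * z⁻¹ = k⁻¹ ∧ w * k * w⁻¹ = k⁻¹ ∧
      z * b * z⁻¹ = b⁻¹ ∧ a = E.φ m * (k * b * k) := by
    intro a ha
    obtain ⟨p, hp, i, hi, hpf, hii, hai⟩ := split hOodd (MulAut.conj z) hzi hOz ha
    obtain ⟨m, hm', rfl⟩ := hcz p hp (mul_inv_eq_iff_eq_mul.1 hpf).symm
    obtain ⟨k, hk, b, hb, hkz, hkw, hbz, hbw, rfl⟩ :=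
      fours hOodd (MulAut.conj z) (MulAut.conj w) hzi hwi hzwx hOz hOw hi hii
    exact ⟨m, hm', k, hk, b, hB.2 ⟨hb, (mul_inv_eq_iff_eq_mul.1 hbw).symm⟩, hkz, hkw, hbz, hai⟩
  -- the centralizer of `w` is not in `C(z)`
  obtain ⟨b₀, hb₀, hb₀z⟩ : ∃ b ∈ B, b * z ≠ z * b := by
    by_contra hall
    push Not at hall
    have hinv1 : ∀ b ∈ B, z * b * z⁻¹ = b⁻¹ → b = 1 := by
      intro b hb hbz
      rw [← hall b hb, mul_inv_cancel_right] at hbz
      exact (root hOodd).2 b (hB.1 hb).1 1 (one_mem _)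
        (by rw [mul_eq_one_iff_eq_inv.2 hbz, one_mul])
    have hOzc : ∀ a ∈ O, a * z = z * a := by
      intro a ha
      obtain ⟨m, hm', k, hk, b, hb, hkz, hkw, hbz, rfl⟩ := hdec a ha
      obtain ⟨hk', hk'z⟩ := hkB k hk hkz hkw
      have hk1 : k = 1 := by simpa [conj_eq_one_iff] using hinv1 _ hk' hk'z
      rw [hinv1 b hb hbz, hk1, one_mul, one_mul, mul_one, comm_z E (y_lt hm')]
    obtain ⟨a, ha1, ha2, haz⟩ := hesc G z Q hyp E g hg
    rcases hcov a ((mem_centY E).2 ⟨ha1, ha2⟩) with h | h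
    · exact haz (hOzc a h)
    · refine haz (mul_right_cancel (b := z) ?_)
      rw [hOzc _ h, ← mul_assoc]
  have hBz : ∀ b ∈ B, z * b * z⁻¹ ∈ B := by
    intro b hb
    obtain ⟨h1, h2⟩ := hB.1 hb
    refine hB.2 ⟨hOz b h1, ?_⟩
    calc z * b * z⁻¹ * w = z * b * (z⁻¹ * w) := by group
      _ = z * b * (w * z⁻¹) := by
        rw [show z⁻¹ = z from inv_eq_of_mul_eq_one_right hz2, hzwc]
      _ = z * (b * w) * z⁻¹ := by group
      _ = z * w * b * z⁻¹ := by rw [h2]; group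
      _ = w * (z * b * z⁻¹) := by rw [hzwc]; group
  set mb := b₀⁻¹ * (z * b₀ * z⁻¹) with hmb
  have hmbB : mb ∈ B := mul_mem (inv_mem hb₀) (hBz _ hb₀)
  have hmbz : z * mb * z⁻¹ = mb⁻¹ := by
    have e := conj_invol hz2 b₀
    simp only [MulAut.conj_apply] at e
    calc z * mb * z⁻¹ = (z * b₀ * z⁻¹)⁻¹ * (z * (z * b₀ * z⁻¹) * z⁻¹) := by rw [hmb]; group
      _ = mb⁻¹ := by rw [e, hmb]; group
  have hmb1 : mb ≠ 1 := fun h => hb₀z (mul_inv_eq_iff_eq_mul.1 (inv_mul_eq_one.1 h).symm).symm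
  -- the elements of `B` inverted by `z`
  let S : Subgroup G :=
    { carrier := {b | b ∈ B ∧ z * b * z⁻¹ = b⁻¹}
      one_mem' := ⟨one_mem _, by group⟩
      mul_mem' := fun {a b} ha hb => ⟨mul_mem ha.1 hb.1, by
        calc z * (a * b) * z⁻¹ = z * a * z⁻¹ * (z * b * z⁻¹) := by group
          _ = (b * a)⁻¹ := by rw [ha.2, hb.2, mul_inv_rev]
          _ = (a * b)⁻¹ := by rw [hBcomm _ hb.1 _ ha.1]⟩
      inv_mem' := fun {a} ha => ⟨inv_mem ha.1, by
        calc z * a⁻¹ * z⁻¹ = (z * a * z⁻¹)⁻¹ := by group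
          _ = a⁻¹⁻¹ := by rw [ha.2]⟩ }
  have hSB : S ≤ B := fun a ha => ha.1
  have hxS : x ∉ S := fun h => hxne (hxz.symm.trans h.2)
  have hScard : Nat.card S < 9 := by
    have h1 := Nat.le_of_dvd (by norm_num) hB9
    by_contra hlt
    push Not at hlt
    exact hxS (Subgroup.eq_of_le_of_card_ge hSB (by omega) ▸ hxB)
  have hScases : Nat.card S = 1 ∨ Nat.card S = 3 := by
    have h1 := (card_dvd_of_le hSB).trans hB9
    interval_cases (Nat.card S) <;> omega
  have hmbS : mb ∈ S := ⟨hmbB, hmbz⟩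
  have hmb3 : orderOf mb = 3 := by
    have := S.orderOf_dvd_natCard hmbS
    have h1 : orderOf mb ≠ 1 := fun h => hmb1 (orderOf_eq_one_iff.1 h)
    rcases hScases with h | h <;> rw [h] at this
    · exact absurd (Nat.dvd_one.1 this) h1
    · exact ((Nat.dvd_prime Nat.prime_three).1 this).resolve_left h1
  have hSeq : S = zpowers mb := (Subgroup.eq_of_le_of_card_ge (zpowers_le.2 hmbS)
    (by rw [Nat.card_zpowers, hmb3]; omega)).symm
  have hSlist : ∀ b ∈ S, ∃ i : Fin 3, b = mb ^ (i : ℕ) := by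
    intro b hb
    rw [hSeq] at hb
    obtain ⟨i, rfl⟩ := mem_powers_iff_mem_zpowers.2 hb
    refine ⟨⟨i % 3, Nat.mod_lt _ (by norm_num)⟩, ?_⟩
    show mb ^ i = mb ^ (i % 3)
    rw [← hmb3, pow_mod_orderOf]
  -- the other element
  set ma := n * mb * n⁻¹ with hma
  have hni : n⁻¹ = n := inv_eq_of_mul_eq_one_right hnn
  have hnma : n * ma * n⁻¹ = mb := conj_invol hnn mb
  have hmaO : ma ∈ O := hOn _ (hB.1 hmbB).1
  have hmaz : z * ma * z⁻¹ = ma⁻¹ := by
    calc z * ma * z⁻¹ = z * n * mb * (z * n)⁻¹ := by rw [hma]; group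
      _ = n * (z * mb * z⁻¹) * n⁻¹ := by rw [← hnz]; group
      _ = ma⁻¹ := by rw [hmbz, hma]; group
  have hmaw : E.φ 313 * ma = ma * E.φ 313 := by
    rw [hw', ← hnw, hma]
    have e := (hB.1 hmbB).2
    calc n * w * n⁻¹ * (n * mb * n⁻¹) = n * (w * mb) * n⁻¹ := by group
      _ = n * (mb * w) * n⁻¹ := by rw [e]
      _ = n * mb * n⁻¹ * (n * w * n⁻¹) := by group
  have hdec' : ∀ a ∈ O, ∃ m ∈ yList, ∃ i j : Fin 3,
      a = E.φ m * (ma ^ (i : ℕ) * mb ^ (j : ℕ) * ma ^ (i : ℕ)) := by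
    intro a ha
    obtain ⟨m, hm', k, hk, b, hb, hkz, hkw, hbz, rfl⟩ := hdec a ha
    obtain ⟨j, rfl⟩ := hSlist b ⟨hb, hbz⟩
    obtain ⟨i, hi⟩ := hSlist _ (hkB k hk hkz hkw)
    refine ⟨m, hm', i, j, ?_⟩
    have : k = ma ^ (i : ℕ) := by
      rw [hma, conj_pow, ← hi]
      exact (conj_invol hnn k).symm
    rw [← this]
  -- the commutator lies in `Y`
  set cm := ma * mb * ma⁻¹ * mb⁻¹ with hcm
  have hmbO := (hB.1 hmbB).1
  have hcmY : ∃ m ∈ yList, cm = E.φ m := by
    set Y := O ⊓ centralizer ({z} : Set G) with hY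
    have hYn : (Y.subgroupOf O).Normal := ⟨fun a ha b => by
      obtain ⟨m, hm', e⟩ := hcz _ a.2 (mem_centralizer_singleton_iff.1 ha.2)
      have : b * a * b⁻¹ = a := by
        rw [mul_inv_eq_iff_eq_mul]
        exact Subtype.ext (by rw [Subgroup.coe_mul, Subgroup.coe_mul, e, y_comm E hm' (hOC b.2)])
      rwa [this]⟩
    set q := QuotientGroup.mk' (Y.subgroupOf O) with hq
    have hYmem : ∀ a : O, (a : G) * z = z * a → q a = 1 := fun a h =>
      (QuotientGroup.eq_one_iff a).2 ⟨a.2, mem_centralizer_singleton_iff.2 h⟩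
    let A' : O := ⟨ma, hmaO⟩
    let B' : O := ⟨mb, hmbO⟩
    have hsurj : Function.Surjective
        fun p : Fin 3 × Fin 3 => q A' ^ (p.1 : ℕ) * q B' ^ (p.2 : ℕ) * q A' ^ (p.1 : ℕ) := by
      intro t
      obtain ⟨a, rfl⟩ := QuotientGroup.mk'_surjective _ t
      obtain ⟨m, hm', i, j, e⟩ := hdec' a a.2
      refine ⟨(i, j), ?_⟩
      have e' : a = ⟨E.φ m, hYO hm'⟩ * (A' ^ (i : ℕ) * B' ^ (j : ℕ) * A' ^ (i : ℕ)) :=
        Subtype.ext (by simpa [A', B'] using e)
      conv_rhs => rw [e', map_mul, map_mul, map_mul, map_pow, map_pow,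
        hYmem ⟨E.φ m, hYO hm'⟩ (comm_z E (y_lt hm')), one_mul]
    have hle : Nat.card (O ⧸ Y.subgroupOf O) ≤ 9 := by
      have := Nat.card_le_card_of_surjective _ hsurj
      simpa using this
    have hqodd : Odd (Nat.card (O ⧸ Y.subgroupOf O)) :=
      Odd.of_dvd_nat hOodd (card_quotient_dvd_card _)
    have h3 : 3 ∣ Nat.card (O ⧸ Y.subgroupOf O) := by
      have hqb : q B' ≠ 1 := by
        intro h
        have hmem := (QuotientGroup.eq_one_iff B').1 h
        have hmz : mb * z = z * mb := mem_centralizer_singleton_iff.1 hmem.2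
        have h' : mb = mb⁻¹ := by
          conv_lhs => rw [← mul_inv_cancel_right mb z, hmz, hmbz]
        exact hmb1 ((root hOodd).2 mb hmbO 1 (one_mem _)
          (by rw [mul_eq_one_iff_eq_inv.2 h', one_mul]))
      have : orderOf (q B') = 3 := orderOf_eq_prime (by
        rw [← map_pow, show B' ^ 3 = 1 from Subtype.ext (by
          rw [SubmonoidClass.coe_pow]; exact hmb3 ▸ pow_orderOf_eq_one mb), map_one]) hqb
      exact this ▸ orderOf_dvd_natCard _
    have hcomm : q A' * q B' = q B' * q A' := by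
      have := Fact.mk Nat.prime_three
      obtain h | h : Nat.card (O ⧸ Y.subgroupOf O) = 3 ∨ Nat.card (O ⧸ Y.subgroupOf O) = 9 := by
        obtain ⟨r, hr⟩ := h3
        rw [hr] at hqodd hle ⊢
        have : r ≤ 3 := by omega
        interval_cases r <;> simp_all (config := { decide := true })
      · have := isCyclic_of_prime_card (p := 3) h
        exact (IsCyclic.isMulCommutative (α := O ⧸ Y.subgroupOf O)).is_comm.comm _ _
      · exact IsPGroup.commutative_of_card_eq_prime_sq (p := 3) (by rw [h]; norm_num) _ _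
    have h1 : q (A' * B' * A'⁻¹ * B'⁻¹) = 1 := by
      rw [map_mul, map_mul, map_mul, map_inv, map_inv, hcomm]
      group
    have := (QuotientGroup.eq_one_iff _).1 h1
    exact hcz _ (A' * B' * A'⁻¹ * B'⁻¹ : O).2 (mem_centralizer_singleton_iff.1 this.2)
  have hmwm : w * ma * w⁻¹ = ma⁻¹ := by
    have h1 : z * w * ma * (z * w)⁻¹ = ma := by rw [← hw', hmaw, mul_inv_cancel_right]
    calc w * ma * w⁻¹ = z * z * (w * ma * w⁻¹) * (z * z)⁻¹ := by rw [hz2]; group
      _ = z * (z * w * ma * (z * w)⁻¹) * z⁻¹ := by group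
      _ = ma⁻¹ := by rw [h1, hmaz]
  have hcm1 : cm = 1 := by
    obtain ⟨m, hm', he⟩ := hcmY
    have hca : cm * ma = ma * cm := by rw [he]; exact y_comm E hm' (hOC hmaO)
    have hwc : w * cm * w⁻¹ = cm⁻¹ := by
      calc w * cm * w⁻¹ = (w * ma * w⁻¹) * (w * mb * w⁻¹) * (w * ma * w⁻¹)⁻¹
            * (w * mb * w⁻¹)⁻¹ := by rw [hcm]; group
        _ = ma⁻¹ * mb * ma⁻¹⁻¹ * mb⁻¹ := by
          rw [hmwm, ← (hB.1 hmbB).2, mul_inv_cancel_right]
        _ = ma⁻¹ * cm⁻¹ * ma := by rw [hcm]; group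
        _ = ma⁻¹ * (ma * cm⁻¹) := by
          rw [mul_assoc, (Commute.inv_left (hca : Commute cm ma)).eq]
        _ = cm⁻¹ := inv_mul_cancel_left _ _
    have hnc : n * cm * n⁻¹ = cm⁻¹ := by
      calc n * cm * n⁻¹ = (n * ma * n⁻¹) * (n * mb * n⁻¹) * (n * ma * n⁻¹)⁻¹
            * (n * mb * n⁻¹)⁻¹ := by rw [hcm]; group
        _ = mb * ma * mb⁻¹ * ma⁻¹ := by rw [hnma, ← hma]
        _ = cm⁻¹ := by rw [hcm]; group
    have hlt := y_lt hm'
    rw [he, hw, ← E.map_conj hl349 hlt, ← E.map_inv hlt] at hwc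
    rw [he, hn, ← E.map_conj hl315 hlt, ← E.map_inv hlt] at hnc
    have := (y_facts.1 m hm').2.2
      (E.inj _ _ (hconj_lt hl349 hlt) (hinv_spec hlt).1 hwc)
      (E.inj _ _ (hconj_lt hl315 hlt) (hinv_spec hlt).1 hnc)
    rw [he, this, E.map_one]
  have hmab : ma * mb = mb * ma := by
    have := hcm1
    rw [hcm, mul_inv_eq_one, mul_inv_eq_iff_eq_mul] at this
    exact this
  have hx1 : E.φ x1C ∈ O := hYO y_facts.2.1
  have hx2 : E.φ x2C ∈ O := hYO y_facts.2.2.1
  refine ⟨O, hx1, hx2, fun a ha b hb => ?_, fun k hk h1 h2 => ?_, fun v hv => ?_⟩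
  · -- commutative
    obtain ⟨m, hm', i, j, rfl⟩ := hdec' a ha
    obtain ⟨m', hm'', i', j', rfl⟩ := hdec' b hb
    have hy : ∀ {m : ℕ}, m ∈ yList → ∀ a ∈ O, Commute (E.φ m) a := fun hm₀ a ha =>
      y_comm E hm₀ (hOC ha)
    have c1 : Commute ma mb := hmab
    have u1 : ∀ {t : G}, Commute t ma → Commute t mb → ∀ (i j : ℕ),
        Commute t (ma ^ i * mb ^ j * ma ^ i) := fun h h' i j =>
      ((h.pow_right i).mul_right (h'.pow_right j)).mul_right (h.pow_right i)
    have ua := u1 (Commute.refl ma) c1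
    have ub := u1 c1.symm (Commute.refl mb)
    have u2 := u1 (ua i' j').symm (ub i' j').symm i j
    refine ((hy hm' _ hb).mul_left (Commute.mul_right ?_ u2.symm)).eq
    exact (hy hm'' _ (mul_mem (mul_mem (pow_mem hmaO _) (pow_mem hmbO _)) (pow_mem hmaO _))).symm
  · have key : ∀ {y : ℕ}, y < 1152 → E.φ k * E.φ y * (E.φ k)⁻¹ ∈ O → hconj k y ∈ yList := by
      intro y hy h
      rw [← E.map_conj hk hy] at h
      obtain ⟨m, hm', e⟩ := hcz _ h (comm_z E (hconj_lt hk hy))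
      exact E.inj _ _ (hconj_lt hk hy) (y_lt hm') e ▸ hm'
    exact hstable k hk (key (by decide) h1) (key (by decide) h2)
  · simp only [List.mem_cons, List.not_mem_nil, or_false] at hv
    rcases hv with rfl | rfl
    · exact ⟨mb, hmbO, hmb3, hmbz, (hB.1 hmbB).2.symm⟩
    · refine ⟨ma, hmaO, ?_, hmaz, hmaw⟩
      rw [← hmb3, hma]
      exact (MulAut.conj n).orderOf_eq mb

end CfsgLib.U43Type
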