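import Cfsg.Agent.Lib.U43Type.Defs
import Cfsg.Agent.Lib.Components.FStar
import Cfsg.Agent.Lib.Base.Cores

/-!
# S5390 / S5391: the hypotheses in the form of `Hyp`
-/

set_option autoImplicit false
set_option linter.unusedSectionVars false
set_option linter.style.haveILetI false

namespace CfsgLib.U43Type

open Subgroup

universe u

/-- The hypotheses of the statements give `Hyp`. -/
theorem hyp_of {G : Type u} [Group G] [Finite G] (z : G) (hz : orderOf z = 2)
    (H₁ H₂ : Subgroup (centralizer ({z} : Set G)))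
    (hK : H₁ ⊔ H₂ = closure {x : centralizer ({z} : Set G) | Odd (orderOf x)})
    (hn₁ : (H₁.subgroupOf (H₁ ⊔ H₂)).Normal) (hn₂ : (H₂.subgroupOf (H₁ ⊔ H₂)).Normal)
    (e₁ : H₁ ≃* Matrix.SpecialLinearGroup (Fin 2) (ZMod 3))
    (e₂ : H₂ ≃* Matrix.SpecialLinearGroup (Fin 2) (ZMod 3))
    (hmeet : (H₁ ⊓ H₂).map (Subgroup.subtype (centralizer ({z} : Set G))) = zpowers z)
    (Q : Subgroup (centralizer ({z} : Set G))) [Q.Normal]
    (hQ : Q = (Cfsg.pCore 2 ↥(H₁ ⊔ H₂)).map (Subgroup.subtype (H₁ ⊔ H₂)))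
    (hF : Cfsg.generalizedFittingSubgroup (centralizer ({z} : Set G)) = Q)
    (hnwc : ∃ g : G, (∃ hq : g * z * g⁻¹ ∈ centralizer ({z} : Set G),
      (⟨g * z * g⁻¹, hq⟩ : centralizer ({z} : Set G)) ∈ Q) ∧ g * z * g⁻¹ ≠ z)
    (hH : Nat.card ↥(centralizer ({z} : Set G)) = 2 ^ 7 * 3 ^ 2)
    (hQQg : ∀ g : G, g * z * g⁻¹ ∈ Q.map (Subgroup.subtype (centralizer ({z} : Set G))) →
      g * z * g⁻¹ ≠ z → Nat.card ↥((Q.map (Subgroup.subtype (centralizer ({z} : Set G)))) ⊓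
        (Q.map (Subgroup.subtype (centralizer ({z} : Set G)))).map
          (MulAut.conj g).toMonoidHom) = 4) :
    Hyp G z (Q.map (Subgroup.subtype (centralizer ({z} : Set G)))) := by
  have hinj : Function.Injective (centralizer ({z} : Set G)).subtype := (centralizer ({z} : Set G)).subtype_injective
  have hle : ∀ R : Subgroup (centralizer ({z} : Set G)), R.map (centralizer ({z} : Set G)).subtype ≤ (centralizer ({z} : Set G)) := fun R => map_subtype_le R
  have hQK : Q ≤ H₁ ⊔ H₂ := hQ ▸ map_subtype_le _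
  have hQp : IsPGroup 2 Q := by
    rw [hQ]
    exact (CfsgLib.Base.isPGroup_pCore 2 _).map _
  have hKn : (H₁ ⊔ H₂).Normal := by
    refine ⟨fun a ha g => ?_⟩
    rw [hK] at ha ⊢
    have hmem : g * a * g⁻¹ ∈ (closure {x : (centralizer ({z} : Set G)) | Odd (orderOf x)}).map (MulAut.conj g).toMonoidHom :=
      ⟨a, ha, rfl⟩
    rw [MonoidHom.map_closure] at hmem
    refine closure_mono ?_ hmem
    rintro _ ⟨x, hx, rfl⟩
    show Odd (orderOf ((MulAut.conj g).toMonoidHom x))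
    rw [show orderOf ((MulAut.conj g).toMonoidHom x) = orderOf x from (MulAut.conj g).orderOf_eq x]
    exact hx
  have hnorm : ∀ R : Subgroup (centralizer ({z} : Set G)), R.Normal → (centralizer ({z} : Set G)) ≤ normalizer (R.map (centralizer ({z} : Set G)).subtype : Set G) := by
    intro R hR c hc
    rw [mem_normalizer_iff]
    intro a
    constructor
    · rintro ⟨r, hr, rfl⟩
      exact ⟨⟨c, hc⟩ * r * ⟨c, hc⟩⁻¹, hR.conj_mem r hr _, rfl⟩
    · rintro ⟨r, hr, e⟩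
      refine ⟨⟨c, hc⟩⁻¹ * r * ⟨c, hc⟩, ?_, ?_⟩
      · have := hR.conj_mem r hr ⟨c, hc⟩⁻¹
        rwa [inv_inv] at this
      · show c⁻¹ * (r : G) * c = a
        rw [show (r : G) = c * a * c⁻¹ from e]
        group
  have hsub : ∀ (A : Subgroup (centralizer ({z} : Set G))), (A.subgroupOf (H₁ ⊔ H₂)).Normal → A ≤ H₁ ⊔ H₂ →
      (H₁ ⊔ H₂).map (centralizer ({z} : Set G)).subtype ≤ normalizer (A.map (centralizer ({z} : Set G)).subtype : Set G) := by
    intro A hA hAK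
    rintro _ ⟨c, hc, rfl⟩
    rw [mem_normalizer_iff]
    intro a
    constructor
    · rintro ⟨r, hr, rfl⟩
      exact ⟨c * r * c⁻¹, hA.conj_mem ⟨r, hAK hr⟩ hr ⟨c, hc⟩, rfl⟩
    · rintro ⟨r, hr, e⟩
      refine ⟨c⁻¹ * r * c, ?_, ?_⟩
      · have := hA.conj_mem ⟨r, hAK hr⟩ hr ⟨c, hc⟩⁻¹
        rwa [inv_inv] at this
      · have e' : (r : G) = c * a * (c : G)⁻¹ := e
        show (c : G)⁻¹ * (r : G) * c = a
        rw [e']
        group
  refine ⟨hz, by simpa using hH, ⟨H₁.map (centralizer ({z} : Set G)).subtype, H₂.map (centralizer ({z} : Set G)).subtype, hle _, hle _,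
    ⟨(equivMapOfInjective H₁ _ hinj).symm.trans e₁⟩,
    ⟨(equivMapOfInjective H₂ _ hinj).symm.trans e₂⟩,
    by rw [← map_inf_eq _ _ _ hinj]; exact hmeet, ?_, ?_, ?_, ?_, ?_, ?_⟩,
    hle Q, hQp.map _, hnorm Q inferInstance, ?_, ?_, hQQg⟩
  · exact (map_mono le_sup_right).trans (hsub H₁ hn₁ le_sup_left)
  · exact (map_mono le_sup_left).trans (hsub H₂ hn₂ le_sup_right)
  · rw [← Subgroup.map_sup]
    exact hnorm _ hKn
  · intro x hx hodd
    rw [← Subgroup.map_sup]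
    refine ⟨⟨x, hx⟩, ?_, rfl⟩
    rw [hK]
    exact subset_closure (show Odd (orderOf (⟨x, hx⟩ : (centralizer ({z} : Set G)))) by rwa [← Subgroup.orderOf_coe])
  · rw [← Subgroup.map_sup]
    exact map_mono hQK
  · intro R hR hRn hRp
    rw [← Subgroup.map_sup] at hR hRn
    have hR' : (R.subgroupOf (centralizer ({z} : Set G))).map (centralizer ({z} : Set G)).subtype = R := map_subgroupOf_eq_of_le (hR.trans (hle _))
    rw [← hR']
    refine map_mono ?_
    intro r hr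
    have hrK : r ∈ H₁ ⊔ H₂ := by
      obtain ⟨k, hk, e⟩ := hR hr
      exact hinj e ▸ hk
    rw [hQ]
    refine ⟨⟨r, hrK⟩, ?_, rfl⟩
    have hN : ((R.subgroupOf (centralizer ({z} : Set G))).subgroupOf (H₁ ⊔ H₂)).Normal := by
      refine ⟨fun a ha k => ?_⟩
      exact (mem_normalizer_iff.1 (hRn ⟨k.1, k.2, rfl⟩) _).1 ha
    have hP : IsPGroup 2 ((R.subgroupOf (centralizer ({z} : Set G))).subgroupOf (H₁ ⊔ H₂)) :=
      (hRp.comap_of_injective _ hinj).comap_of_injective _ (subtype_injective _)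
    exact (le_sSup (show _ ∈ {N : Subgroup ↥(H₁ ⊔ H₂) | N.Normal ∧ IsPGroup 2 N} from ⟨hN, hP⟩))
      hr
  · intro a ha hcomm
    have hmem : (⟨a, ha⟩ : (centralizer ({z} : Set G))) ∈ centralizer (Q : Set (centralizer ({z} : Set G))) := mem_centralizer_iff.2 fun q hq =>
      Subtype.ext (hcomm q ⟨q, hq, rfl⟩).symm
    rw [← hF] at hmem
    have := CfsgLib.Components.centralizer_fstar_le hmem
    rw [hF] at this
    exact ⟨⟨a, ha⟩, this, rfl⟩
  · obtain ⟨g, ⟨hq, hm⟩, hne⟩ := hnwc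
    exact ⟨g, ⟨⟨g * z * g⁻¹, hq⟩, hm, rfl⟩, hne⟩

end CfsgLib.U43Type
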