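import Cfsg.Agent.Lib.U43Type.ShapeAct

/-!
# S5390 / S5391: the shape of the centraliser of `z` (piece P1)
-/

set_option autoImplicit false
set_option linter.unusedSectionVars false
set_option maxRecDepth 100000

namespace CfsgLib.U43Type

open Subgroup Shape

universe u

namespace Shape

theorem slC_inj : ∀ a < 24, ∀ b < 24, slC a = slC b → a = b := by decide +kernel

theorem pos_unique : ∀ k < 12, ∀ l < 12,
    (slC (tab5 posTab k) = slC (tab5 posTab l) → k = l) ∧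
      slC (tab5 posTab k) ≠ -slC (tab5 posTab l) := by decide +kernel

theorem kind_true (x : SL) : kind true x = θf x := rfl

theorem kind_false (x : SL) : kind false x = x := rfl

variable {G : Type u} [Group G] [Finite G] {z : G} {Q : Subgroup G}

namespace Coord

variable (C : Coord G z Q)
include C

omit [Finite G] in
theorem keep_inv {c : G} (hk : Keep C c) : Keep C c⁻¹ := by
  choose α hα using hk.1
  choose β hβ using hk.2
  have hα' : Function.Injective α := fun x y e => C.inj₁ (by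
    have e' : c * C.ψ₁ x * c⁻¹ = c * C.ψ₁ y * c⁻¹ := by rw [hα, hα, e]
    exact mul_left_cancel (mul_right_cancel e'))
  have hβ' : Function.Injective β := fun x y e => C.inj₂ (by
    have e' : c * C.ψ₂ x * c⁻¹ = c * C.ψ₂ y * c⁻¹ := by rw [hβ, hβ, e]
    exact mul_left_cancel (mul_right_cancel e'))
  constructor <;> intro a
  · obtain ⟨x, hx⟩ := (Finite.injective_iff_surjective.1 hα') a
    exact ⟨x, by rw [← hx, ← hα]; simp [mul_assoc]⟩
  · obtain ⟨x, hx⟩ := (Finite.injective_iff_surjective.1 hβ') a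
    exact ⟨x, by rw [← hx, ← hβ]; simp [mul_assoc]⟩

/-- The second coordinate replaced by the conjugate of the first under an exchanging element. -/
theorem twist {w : G} (hw : Swp C w) (hwz : w * z = z * w) :
    ∃ C' : Coord G z Q, C'.ψ₁ = C.ψ₁ ∧ (∀ x, w * C'.ψ₁ x * w⁻¹ = C'.ψ₂ x) ∧
      ∀ b, ∃ b', C'.ψ₂ b = C.ψ₂ b' := by
  choose β hβ using hw.1
  let f : SL →* G := (MulAut.conj w).toMonoidHom.comp C.ψ₁
  have hf : ∀ x, f x = C.ψ₂ (β x) := hβ
  have hinj : Function.Injective f := (MulAut.conj w).injective.comp C.inj₁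
  have hsurj : Function.Surjective β := by
    refine Finite.injective_iff_surjective.1 fun x y e => hinj ?_
    rw [hf, hf, e]
  have hfz : f (-1) = z := by
    show w * C.ψ₁ (-1) * w⁻¹ = z
    rw [C.z₁, mul_inv_eq_iff_eq_mul.2 hwz]
  have hneg : β (-1) = -1 := C.inj₂ (by rw [← hf, hfz, C.z₂])
  have hone : β 1 = 1 := C.inj₂ (by rw [← hf, map_one, map_one])
  have hbinj : Function.Injective β := Finite.injective_iff_surjective.2 hsurj
  have hfour : ∀ b, β b ^ 4 = 1 ↔ b ^ 4 = 1 := by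
    intro b
    constructor
    · intro h
      refine hinj ?_
      rw [map_pow, hf, ← map_pow, h, map_one, map_one]
    · intro h
      refine C.inj₂ ?_
      rw [map_pow, ← hf, ← map_pow, h, map_one, map_one]
  refine ⟨{
    ψ₁ := C.ψ₁
    ψ₂ := f
    comm := fun a b => by rw [hf]; exact C.comm a (β b)
    inj₁ := C.inj₁
    inj₂ := hinj
    z₁ := C.z₁
    z₂ := hfz
    meet := fun a b e => by
      rw [hf] at e
      rcases C.meet a (β b) e with ⟨p, q⟩ | ⟨p, q⟩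
      · exact Or.inl ⟨p, hbinj (q.trans hone.symm)⟩
      · exact Or.inr ⟨p, hbinj (q.trans hneg.symm)⟩
    mem_cent := fun a b => by rw [hf]; exact C.mem_cent a (β b)
    conj_mem := fun c hc a b => by
      obtain ⟨a', b', e⟩ := C.conj_mem c hc a (β b)
      obtain ⟨b'', rfl⟩ := hsurj b'
      exact ⟨a', b'', by rw [hf, hf]; exact e⟩
    memQ := fun x => by
      rw [C.memQ]
      constructor
      · rintro ⟨a, b, ha, hb, e⟩
        obtain ⟨b', rfl⟩ := hsurj b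
        exact ⟨a, b', ha, (hfour b').1 hb, by rw [hf]; exact e⟩
      · rintro ⟨a, b, ha, hb, e⟩
        exact ⟨a, β b, ha, (hfour b).2 hb, by rw [← hf]; exact e⟩ }, rfl, fun x => rfl,
    fun b => ⟨β b, hf b⟩⟩

section
variable (h : Hyp G z Q) {g : G} (hq : g * z * g⁻¹ ∈ Q) (hne : g * z * g⁻¹ ≠ z)
include h hq hne

/-- Elements of the factors lying in `gQ Q g` lie in `Q`. -/
theorem ψ_mem_Q {p q : SL} (hc : C.ψ p q ∈ gQ Q g) : C.ψ p q ∈ Q := by
  obtain ⟨a, b, ha, hb, hab⟩ := (C.memQ _).1 (mem_gQ.1 hc)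
  have h4 : C.ψ p q ^ 4 = 1 := by
    have e : C.ψ p q = g * C.ψ a b * g⁻¹ := by
      rw [show C.ψ a b = g⁻¹ * C.ψ p q * g from hab]; simp [mul_assoc]
    have e4 : C.ψ a b ^ 4 = 1 := by
      rw [show C.ψ a b ^ 4 = C.ψ a b * C.ψ a b * C.ψ a b * C.ψ a b from by
        rw [pow_succ, pow_succ, pow_two], C.ψ_mul, C.ψ_mul, C.ψ_mul,
        show a * a * a * a = a ^ 4 by rw [pow_succ, pow_succ, pow_two],
        show b * b * b * b = b ^ 4 by rw [pow_succ, pow_succ, pow_two], ha, hb, C.ψ_one]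
    rw [e, conj_pow, e4, mul_one, mul_inv_cancel]
  rw [show C.ψ p q ^ 4 = C.ψ p q * C.ψ p q * C.ψ p q * C.ψ p q from by
        rw [pow_succ, pow_succ, pow_two], C.ψ_mul, C.ψ_mul, C.ψ_mul,
    show p * p * p * p = p ^ 4 by rw [pow_succ, pow_succ, pow_two],
    show q * q * q * q = q ^ 4 by rw [pow_succ, pow_succ, pow_two]] at h4
  have h8 : ∀ x : SL, x ^ 4 = -1 → x ^ 4 = 1 := by decide +kernel
  rw [C.mem_Q_iff]
  rcases C.ψ_eq_one h4 with ⟨x, y⟩ | ⟨x, y⟩
  · exact ⟨x, y⟩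
  · exact ⟨h8 p x, h8 q y⟩

/-- An element of `gQ Q g` outside `Q` fixing both factors acts on both by the outer kind. -/
theorem diag_kind {c : G} (hk : Keep C c) (hcz : c * z = z * c) (hcg : c ∈ gQ Q g) (hcQ : c ∉ Q) :
    ∃ p q : SL, (∀ x, (C.ψ p q)⁻¹ * c * C.ψ₁ x * ((C.ψ p q)⁻¹ * c)⁻¹ = C.ψ₁ (θf x)) ∧
      ∀ x, (C.ψ p q)⁻¹ * c * C.ψ₂ x * ((C.ψ p q)⁻¹ * c)⁻¹ = C.ψ₂ (θf x) := by
  obtain ⟨p, q, ε₁, ε₂, h1, h2⟩ := C.keep_kind h hk hcz
  set e := g * z * g⁻¹ with he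
  -- the action of `c`
  have hact : ∀ x y, c * C.ψ x y * c⁻¹ = C.ψ (p * kind ε₁ x * p⁻¹) (q * kind ε₂ y * q⁻¹) := by
    intro x y
    have e1 : c = C.ψ p q * ((C.ψ p q)⁻¹ * c) := (mul_inv_cancel_left _ _).symm
    set d := (C.ψ p q)⁻¹ * c
    calc c * C.ψ x y * c⁻¹
        = C.ψ p q * ((d * C.ψ₁ x * d⁻¹) * (d * C.ψ₂ y * d⁻¹)) * (C.ψ p q)⁻¹ := by
          rw [e1]; simp [Coord.ψ, mul_assoc]
      _ = C.ψ p q * C.ψ (kind ε₁ x) (kind ε₂ y) * (C.ψ p q)⁻¹ := by rw [h1, h2]; rfl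
      _ = _ := by rw [C.ψ_inv, C.ψ_mul, C.ψ_mul]
  obtain ⟨a, b, ha, hb, hab⟩ := (C.memQ _).1 hq
  change C.ψ a b = e at hab
  have hz2 : z * z = 1 := by rw [← pow_two, ← h.ord, pow_orderOf_eq_one]
  have he2 : e * e = 1 := by
    calc e * e = g * (z * z) * g⁻¹ := by simp [he, mul_assoc]
      _ = 1 := by rw [hz2]; simp
  have he1 : e ≠ 1 := fun e' => C.z_ne_one h (conj_eq_one_iff.1 e')
  obtain ⟨ha2, hb2⟩ := C.invol_parts ha hb (hab.symm ▸ he2) (hab.symm ▸ he1) (hab.symm ▸ hne)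
  obtain ⟨k, hk2, hak, -⟩ := anti a ha2
  obtain ⟨k', hk'2, hbk, -⟩ := anti b hb2
  have hce : c * C.ψ a b * c⁻¹ = C.ψ a b := by
    rw [hab]; exact mul_inv_eq_iff_eq_mul.2 (gQ_cent h hq hne hcg)
  have hd : C.ψ k k' ∈ Q := (C.mem_Q_iff _ _).2 ⟨(sq_neg k hk2).1, (sq_neg k' hk'2).1⟩
  have hde : C.ψ k k' * e = e * C.ψ k k' := by
    rw [← hab, C.ψ_mul, C.ψ_mul, hak, hbk, C.ψ_negneg]
  have hX := ((fusion h hq hne).2 _).1 (comm_mem_meet h hq hne hd hde hcg hcz)
  set α := p * kind ε₁ k * p⁻¹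
  set β := q * kind ε₂ k' * q⁻¹
  have hcd : ∃ x y, C.ψ α β = C.ψ x y ∧
      (((x = k ∨ x = -k) ∧ (y = k' ∨ y = -k')) ∨
        ((x = a * k ∨ x = -(a * k)) ∧ (y = b * k' ∨ y = -(b * k')))) := by
    have e0 : C.ψ α β = c * C.ψ k k' * c⁻¹ * (C.ψ k k')⁻¹ * C.ψ k k' := by
      rw [inv_mul_cancel_right, hact]
    have hzp : ∀ x y, z * C.ψ x y = C.ψ (-x) y := fun x y => by
      rw [← (show C.ψ x y * z = z * C.ψ x y from
        mem_centralizer_singleton_iff.1 (C.mem_cent x y)), C.mul_z_left]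
    rcases hX with x1 | x2 | x3 | x4
    · exact ⟨k, k', by rw [e0, x1, one_mul], Or.inl ⟨Or.inl rfl, Or.inl rfl⟩⟩
    · exact ⟨-k, k', by rw [e0, x2, hzp], Or.inl ⟨Or.inr rfl, Or.inl rfl⟩⟩
    · refine ⟨a * k, b * k', ?_, Or.inr ⟨Or.inl rfl, Or.inl rfl⟩⟩
      rw [e0, x3]
      show e * C.ψ k k' = _
      rw [← hab, C.ψ_mul]
    · refine ⟨-(a * k), b * k', ?_, Or.inr ⟨Or.inr rfl, Or.inl rfl⟩⟩
      rw [e0, x4, mul_assoc]
      show z * (e * C.ψ k k') = _
      rw [← hab, C.ψ_mul, hzp]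
  have hfixab : (p * kind ε₁ a * p⁻¹ = a ∨ p * kind ε₁ a * p⁻¹ = -a) ∧
      (q * kind ε₂ b * q⁻¹ = b ∨ q * kind ε₂ b * q⁻¹ = -b) := by
    rw [hact] at hce
    rcases C.ψ_eq hce with ⟨x, y⟩ | ⟨x, y⟩
    · exact ⟨Or.inl x, Or.inl y⟩
    · exact ⟨Or.inr x, Or.inr y⟩
  have hnot : ∀ u v : SL, u * u = -1 → u * v ≠ v ∧ u * v ≠ -v := fun u v hu =>
    ⟨fun e => (sq_neg u hu).2.1 (mul_eq_right.1 e), fun e => (sq_neg u hu).2.2 (by
      rw [← neg_one_mul v] at e
      exact mul_right_cancel e)⟩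
  have hkinds : ε₁ = true ∧ ε₂ = true := by
    rcases hcd with ⟨x, y, exy, hxy⟩
    have hval : ∀ r s r0 : SL, (s = r ∨ s = -r) → (r0 = s ∨ r0 = -s) → r0 = r ∨ r0 = -r := by
      rintro r s r0 (rfl | rfl) (rfl | rfl) <;> simp
    have hαx : α = x ∨ α = -x := (C.ψ_eq exy).imp And.left And.left
    have hβy : β = y ∨ β = -y := (C.ψ_eq exy).imp And.right And.right
    rcases hxy with ⟨hx, hy⟩ | ⟨hx, hy⟩
    · -- both fix the class of `k`, so both are inner
      have f1 : ε₁ = false := by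
        by_contra hh
        have hh' : ε₁ = true := by revert hh; cases ε₁ <;> simp
        subst hh'
        obtain ⟨n1, n2⟩ := outer_move p a k ⟨ha2, hk2, hak, hfixab.1⟩
        rcases hval k x α hx hαx with r | r
        · exact n1 r
        · exact n2 r
      have f2 : ε₂ = false := by
        by_contra hh
        have hh' : ε₂ = true := by revert hh; cases ε₂ <;> simp
        subst hh'
        obtain ⟨n1, n2⟩ := outer_move q b k' ⟨hb2, hk'2, hbk, hfixab.2⟩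
        rcases hval k' y β hy hβy with r | r
        · exact n1 r
        · exact n2 r
      subst f1 f2
      exfalso
      refine hcQ ?_
      have hc0 : (C.ψ p q)⁻¹ * c ∈ Q := C.cent_both h
        ((show Commute (C.ψ p q)⁻¹ z from
          (show Commute (C.ψ p q) z from
            mem_centralizer_singleton_iff.1 (C.mem_cent p q)).inv_left).mul_left hcz).eq h1 h2
      obtain ⟨a', b', -, -, e'⟩ := (C.memQ _).1 hc0
      have ec : c = C.ψ (p * a') (q * b') := by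
        rw [← C.ψ_mul, show C.ψ a' b' = (C.ψ p q)⁻¹ * c from e', mul_inv_cancel_left]
      rw [ec] at hcg ⊢
      exact C.ψ_mem_Q h hq hne hcg
    · constructor
      · by_contra hh
        have hh' : ε₁ = false := by revert hh; cases ε₁ <;> simp
        subst hh'
        rcases hval (a * k) x α hx hαx with r | r <;>
          rcases inner_fix p a k ha2 hk2 hak hfixab.1 with s | s <;>
          simp only [α, kind_false] at r <;> rw [s] at r
        · exact (hnot a k ha2).1 r.symm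
        · exact (hnot a k ha2).2 r.symm
        · exact (hnot a k ha2).2 (neg_eq_iff_eq_neg.1 r.symm)
        · exact (hnot a k ha2).1 (neg_inj.1 r).symm
      · by_contra hh
        have hh' : ε₂ = false := by revert hh; cases ε₂ <;> simp
        subst hh'
        rcases hval (b * k') y β hy hβy with r | r <;>
          rcases inner_fix q b k' hb2 hk'2 hbk hfixab.2 with s | s <;>
          simp only [β, kind_false] at r <;> rw [s] at r
        · exact (hnot b k' hb2).1 r.symm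
        · exact (hnot b k' hb2).2 r.symm
        · exact (hnot b k' hb2).2 (neg_eq_iff_eq_neg.1 r.symm)
        · exact (hnot b k' hb2).1 (neg_inj.1 r).symm
  obtain ⟨rfl, rfl⟩ := hkinds
  exact ⟨p, q, h1, h2⟩

/-- Two involutions of `gQ Q g` centralising `z`, outside `Q`, with product outside `Q`. -/
theorem two_invol : ∃ u v : G, (u ∈ gQ Q g ∧ u * z = z * u ∧ u ∉ Q ∧ u * u = 1) ∧
    (v ∈ gQ Q g ∧ v * z = z * v ∧ v ∉ Q ∧ v * v = 1) ∧ u * v ∉ Q := by
  set e' := g⁻¹ * z * g with he'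
  obtain ⟨hzg, hmeet⟩ := fusion h hq hne
  have hz2 : z * z = 1 := by rw [← pow_two, ← h.ord, pow_orderOf_eq_one]
  have he'Q : e' ∈ Q := mem_gQ.1 hzg
  have he'1 : e' ≠ 1 := fun r => C.z_ne_one h (by
    calc z = g * e' * g⁻¹ := by simp [he', mul_assoc]
      _ = 1 := by rw [r]; simp)
  have he'z : e' ≠ z := fun r => hne (by
    calc g * z * g⁻¹ = g * e' * g⁻¹ := by rw [r]
      _ = z := by simp [he', mul_assoc])
  have he'2 : e' * e' = 1 := by
    calc e' * e' = g⁻¹ * (z * z) * g := by simp [he', mul_assoc]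
      _ = 1 := by rw [hz2]; simp
  obtain ⟨a, b, ha, hb, hab⟩ := (C.memQ _).1 he'Q
  change C.ψ a b = e' at hab
  obtain ⟨ha2, hb2⟩ := C.invol_parts ha hb (hab.symm ▸ he'2) (hab.symm ▸ he'1) (hab.symm ▸ he'z)
  obtain ⟨k, hk2, hak, -⟩ := anti a ha2
  obtain ⟨k', hk'2, hbk, -⟩ := anti b hb2
  have hak2 : a * k * (a * k) = -1 := by
    calc a * k * (a * k) = a * (k * a) * k := by simp [mul_assoc]
      _ = a * (-(a * k)) * k := by rw [show k * a = -(a * k) by rw [hak, neg_neg]]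
      _ = -(a * a * (k * k)) := by simp [mul_assoc]
      _ = -1 := by rw [ha2, hk2]; simp
  have hkak : k * (a * k) = a := by
    calc k * (a * k) = k * (-(k * a)) := by rw [hak]
      _ = -(k * k * a) := by simp [mul_assoc]
      _ = a := by rw [hk2]; simp
  have hcomm : ∀ x y, x * a = -(a * x) → y * b = -(b * y) → C.ψ x y * e' = e' * C.ψ x y :=
    fun x y hx hy => by rw [← hab, C.ψ_mul, C.ψ_mul, hx, hy, C.ψ_negneg]
  have hz' : ∀ d, d * e' = e' * d → g * d * g⁻¹ * z = z * (g * d * g⁻¹) := fun d hd => by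
    calc g * d * g⁻¹ * z = g * (d * e') * g⁻¹ := by simp [he', mul_assoc]
      _ = g * (e' * d) * g⁻¹ := by rw [hd]
      _ = z * (g * d * g⁻¹) := by simp [he', mul_assoc]
  have hout : ∀ x y, C.ψ x y ∈ Q → g * C.ψ x y * g⁻¹ ∈ Q →
      ((x = 1 ∨ x = -1) ∧ (y = 1 ∨ y = -1)) ∨ ((x = a ∨ x = -a) ∧ (y = b ∨ y = -b)) := by
    intro x y hxy hQ
    have hm : g * C.ψ x y * g⁻¹ ∈ Q ⊓ gQ Q g :=
      ⟨hQ, mem_gQ.2 (by simpa [mul_assoc] using hxy)⟩
    have hback : C.ψ x y = g⁻¹ * (g * C.ψ x y * g⁻¹) * g := by simp [mul_assoc]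
    rcases (hmeet _).1 hm with r | r | r | r <;> rw [r] at hback
    · left
      have h0 : C.ψ x y = C.ψ 1 1 := by rw [C.ψ_one, hback]; simp
      rcases C.ψ_eq h0 with ⟨p, q⟩ | ⟨p, q⟩
      · exact ⟨Or.inl p, Or.inl q⟩
      · exact ⟨Or.inr p, Or.inr q⟩
    · right
      have h0 : C.ψ x y = C.ψ a b := by rw [hab, hback]
      rcases C.ψ_eq h0 with ⟨p, q⟩ | ⟨p, q⟩
      · exact ⟨Or.inl p, Or.inl q⟩
      · exact ⟨Or.inr p, Or.inr q⟩
    · left
      have h0 : C.ψ x y = C.ψ (-1) 1 := by rw [C.ψ_z₁, hback]; simp [mul_assoc]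
      rcases C.ψ_eq h0 with ⟨p, q⟩ | ⟨p, q⟩
      · exact ⟨Or.inr p, Or.inl q⟩
      · exact ⟨Or.inl (by rw [p, neg_neg]), Or.inr q⟩
    · right
      have h0 : C.ψ x y = C.ψ a b * C.ψ (-1) 1 := by
        rw [hab, C.ψ_z₁, hback, he']; simp [mul_assoc]
      rw [C.ψ_mul, mul_one, mul_neg_one] at h0
      rcases C.ψ_eq h0 with ⟨p, q⟩ | ⟨p, q⟩
      · exact ⟨Or.inr p, Or.inl q⟩
      · exact ⟨Or.inl (by rw [p, neg_neg]), Or.inr q⟩
  have hne' : ∀ u v : SL, u * u = -1 → u * v = -(v * u) → v ≠ u ∧ v ≠ -u := by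
    decide +kernel
  have hu0 : C.ψ k k' ∈ Q := (C.mem_Q_iff _ _).2 ⟨(sq_neg k hk2).1, (sq_neg k' hk'2).1⟩
  have hv0 : C.ψ (a * k) k' ∈ Q :=
    (C.mem_Q_iff _ _).2 ⟨(sq_neg _ hak2).1, (sq_neg k' hk'2).1⟩
  refine ⟨g * C.ψ k k' * g⁻¹, g * C.ψ (a * k) k' * g⁻¹, ⟨mem_gQ.2 (by simpa [mul_assoc] using hu0),
    hz' _ (hcomm _ _ (by rw [hak, neg_neg]) (by rw [hbk, neg_neg])), fun hQ => ?_, ?_⟩,
    ⟨mem_gQ.2 (by simpa [mul_assoc] using hv0),
    hz' _ (hcomm _ _ (by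
      calc a * k * a = a * (k * a) := mul_assoc _ _ _
        _ = a * (-(a * k)) := by rw [show k * a = -(a * k) by rw [hak, neg_neg]]
        _ = -(a * (a * k)) := by simp) (by rw [hbk, neg_neg])), fun hQ => ?_, ?_⟩, fun hQ => ?_⟩
  · rcases hout _ _ hu0 hQ with ⟨x, -⟩ | ⟨x, -⟩
    · rcases x with x | x
      · exact (sq_neg k hk2).2.1 x
      · exact (sq_neg k hk2).2.2 x
    · rcases x with x | x
      · exact (hne' a k ha2 hak).1 x
      · exact (hne' a k ha2 hak).2 x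
  · have h0 : C.ψ k k' * C.ψ k k' = 1 := C.ψ_ne_z k k' hk2 hk'2
    calc g * C.ψ k k' * g⁻¹ * (g * C.ψ k k' * g⁻¹) = g * (C.ψ k k' * C.ψ k k') * g⁻¹ := by
          simp [mul_assoc]
      _ = 1 := by rw [h0]; simp
  · rcases hout _ _ hv0 hQ with ⟨-, y⟩ | ⟨-, y⟩
    · rcases y with y | y
      · exact (sq_neg k' hk'2).2.1 y
      · exact (sq_neg k' hk'2).2.2 y
    · rcases y with y | y
      · exact (hne' b k' hb2 hbk).1 y
      · exact (hne' b k' hb2 hbk).2 y
  · have h0 : C.ψ (a * k) k' * C.ψ (a * k) k' = 1 := C.ψ_ne_z _ k' hak2 hk'2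
    calc g * C.ψ (a * k) k' * g⁻¹ * (g * C.ψ (a * k) k' * g⁻¹)
          = g * (C.ψ (a * k) k' * C.ψ (a * k) k') * g⁻¹ := by simp [mul_assoc]
      _ = 1 := by rw [h0]; simp
  · have e : g * C.ψ k k' * g⁻¹ * (g * C.ψ (a * k) k' * g⁻¹) = g * C.ψ a (-1) * g⁻¹ := by
      calc _ = g * (C.ψ k k' * C.ψ (a * k) k') * g⁻¹ := by simp [mul_assoc]
        _ = _ := by rw [C.ψ_mul, hk'2, hkak]
    rw [e] at hQ
    have hw0 : C.ψ a (-1) ∈ Q := (C.mem_Q_iff _ _).2 ⟨ha, by decide +kernel⟩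
    rcases hout _ _ hw0 hQ with ⟨x, -⟩ | ⟨-, y⟩
    · rcases x with x | x
      · exact (sq_neg a ha2).2.1 x
      · exact (sq_neg a ha2).2.2 x
    · rcases y with y | y
      · exact (sq_neg b hb2).2.2 y.symm
      · exact (sq_neg b hb2).2.1 (neg_inj.1 y).symm

end

end Coord

end Shape

set_option maxHeartbeats 2000000 in
open Shape in
/-- P1: the centraliser of `z` is one of the four models. -/
theorem shape_of : StmtShape.{u} := by
  intro G _ _ z Q h
  obtain ⟨g, hq, hne⟩ := h.fused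
  obtain ⟨C₀⟩ := coord_exists h
  obtain ⟨u, v, ⟨hug, huz, huQ, hu2⟩, ⟨hvg, hvz, hvQ, hv2⟩, huvQ⟩ := C₀.two_invol h hq hne
  have huvg : u * v ∈ gQ Q g := (gQ Q g).mul_mem hug hvg
  have huvz : u * v * z = z * (u * v) := by rw [mul_assoc, hvz, ← mul_assoc, huz, mul_assoc]
  -- one of the involutions exchanges the factors
  have hswap : ∃ w, Swp C₀ w ∧ w * z = z * w ∧ w * w = 1 := by
    rcases C₀.conj_cases h huz with ku | su
    · rcases C₀.conj_cases h hvz with kv | sv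
      · exfalso
        obtain ⟨p, q, h1, h2⟩ := C₀.diag_kind h hq hne ku huz hug huQ
        obtain ⟨p', q', h1', h2'⟩ := C₀.diag_kind h hq hne kv hvz hvg hvQ
        -- `u v` fixes both factors, lies outside `Q` and is inner on both
        obtain ⟨p'', q'', h1'', h2''⟩ :=
          C₀.diag_kind h hq hne (C₀.keep_mul ku kv) huvz huvg huvQ
        have ha : ∀ x, u * v * C₀.ψ₁ x * (u * v)⁻¹ =
            C₀.ψ₁ (p * θf p' * x * (p * θf p')⁻¹) := by
          intro x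
          have e1 : ∀ (c : G) (r s : SL) (f : SL → SL), (∀ x, (C₀.ψ r s)⁻¹ * c * C₀.ψ₁ x *
              ((C₀.ψ r s)⁻¹ * c)⁻¹ = C₀.ψ₁ (f x)) →
              ∀ x, c * C₀.ψ₁ x * c⁻¹ = C₀.ψ₁ (r * f x * r⁻¹) := by
            intro c r s f hc x
            calc c * C₀.ψ₁ x * c⁻¹ = C₀.ψ r s *
                  ((C₀.ψ r s)⁻¹ * c * C₀.ψ₁ x * ((C₀.ψ r s)⁻¹ * c)⁻¹) * (C₀.ψ r s)⁻¹ := by
                  simp [mul_assoc]
              _ = _ := by
                  rw [hc, C₀.ψ₁_eq, C₀.ψ₁_eq, C₀.ψ_inv, C₀.ψ_mul, C₀.ψ_mul]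
                  simp
          calc u * v * C₀.ψ₁ x * (u * v)⁻¹ = u * (v * C₀.ψ₁ x * v⁻¹) * u⁻¹ := by simp [mul_assoc]
            _ = C₀.ψ₁ (p * θf (p' * θf x * p'⁻¹) * p⁻¹) := by
                rw [e1 v p' q' θf h1', e1 u p q θf h1]
            _ = _ := by
                congr 1
                rw [show θf (p' * θf x * p'⁻¹) = θ (p' * θ x * p'⁻¹) from rfl, map_mul, map_mul,
                  θ_θ, map_inv]
                simp [mul_assoc, show θ p' = θf p' from rfl]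
        obtain ⟨s, -, hs, -, -⟩ := quat_gen_anti
        have key : ∀ r : SL, ∃ x : SL, r * x * r⁻¹ ≠ θf x := by decide +kernel
        obtain ⟨x, hx⟩ := key (p''⁻¹ * (p * θf p'))
        refine hx (C₀.inj₁ ?_)
        rw [← h1'' x]
        calc C₀.ψ₁ (p''⁻¹ * (p * θf p') * x * (p''⁻¹ * (p * θf p'))⁻¹)
            = (C₀.ψ p'' q'')⁻¹ * C₀.ψ₁ (p * θf p' * x * (p * θf p')⁻¹) * C₀.ψ p'' q'' := by
              rw [C₀.ψ₁_eq, C₀.ψ₁_eq, C₀.ψ_inv, C₀.ψ_mul, C₀.ψ_mul]
              simp [mul_assoc]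
          _ = (C₀.ψ p'' q'')⁻¹ * (u * v * C₀.ψ₁ x * (u * v)⁻¹) * C₀.ψ p'' q'' := by rw [ha]
          _ = _ := by simp [mul_assoc]
      · exact ⟨v, sv, hvz, hv2⟩
    · exact ⟨u, su, huz, hu2⟩
  obtain ⟨w, hw₀, hwz, hw2⟩ := hswap
  obtain ⟨C, hC₁, hCw, hC₂⟩ := C₀.twist hw₀ hwz
  have hwinv : w⁻¹ = w := inv_eq_of_mul_eq_one_right hw2
  have hw21 : ∀ x, w * C.ψ₂ x * w⁻¹ = C.ψ₁ x := fun x => by
    rw [← hCw x, hwinv]
    calc w * (w * C.ψ₁ x * w) * w = (w * w) * C.ψ₁ x * (w * w) := by simp [mul_assoc]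
      _ = _ := by rw [hw2]; simp
  have hw : Swp C w := ⟨fun a => ⟨a, hCw a⟩, fun b => ⟨b, hw21 b⟩⟩
  -- the element acting diagonally
  have hdiag : ∃ t, t * z = z * t ∧ (∀ x, t * C.ψ₁ x * t⁻¹ = C.ψ₁ (θf x)) ∧
      ∀ x, t * C.ψ₂ x * t⁻¹ = C.ψ₂ (θf x) := by
    have hk : ∃ c, Keep C c ∧ c * z = z * c ∧ c ∈ gQ Q g ∧ c ∉ Q := by
      rcases C.conj_cases h hvz with kv | sv
      · exact ⟨v, kv, hvz, hvg, hvQ⟩
      · rcases C.conj_cases h huz with ku | su
        · exact ⟨u, ku, huz, hug, huQ⟩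
        · exact ⟨u * v, C.swp_mul su sv, huvz, huvg, huvQ⟩
    obtain ⟨c, hk, hcz, hcg, hcQ⟩ := hk
    obtain ⟨p, q, h1, h2⟩ := C.diag_kind h hq hne hk hcz hcg hcQ
    exact ⟨(C.ψ p q)⁻¹ * c, ((show Commute (C.ψ p q)⁻¹ z from
      (show Commute (C.ψ p q) z from
        mem_centralizer_singleton_iff.1 (C.mem_cent p q)).inv_left).mul_left hcz).eq, h1, h2⟩
  obtain ⟨t, htz, ht₁, ht₂⟩ := hdiag
  have htk : Keep C t := ⟨fun a => ⟨_, ht₁ a⟩, fun b => ⟨_, ht₂ b⟩⟩
  have hQz : ∀ c : G, c * z = z * c → (∀ x, c * C.ψ₁ x * c⁻¹ = C.ψ₁ x) →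
      (∀ x, c * C.ψ₂ x * c⁻¹ = C.ψ₂ x) → c = 1 ∨ c = z := by
    intro c hcz h1 h2
    obtain ⟨a, b, ha, hb, hab⟩ := (C.memQ c).1 (C.cent_both h hcz h1 h2)
    change C.ψ a b = c at hab
    subst hab
    have hc1 : ∀ x, a * x = x * a := fun x => by
      have := h1 x
      rw [C.ψ₁_eq, C.ψ_inv, C.ψ_mul, C.ψ_mul, mul_one, mul_inv_cancel] at this
      rcases C.ψ_eq this with ⟨r, -⟩ | ⟨-, r⟩
      · exact mul_inv_eq_iff_eq_mul.1 r
      · exact absurd r (ne_neg 1)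
    have hc2 : ∀ x, b * x = x * b := fun x => by
      have := h2 x
      rw [C.ψ₂_eq, C.ψ_inv, C.ψ_mul, C.ψ_mul, mul_one, mul_inv_cancel] at this
      rcases C.ψ_eq this with ⟨-, r⟩ | ⟨r, -⟩
      · exact mul_inv_eq_iff_eq_mul.1 r
      · exact absurd r (ne_neg 1)
    rcases cent_quat a (fun x _ => hc1 x) with rfl | rfl <;>
      rcases cent_quat b (fun x _ => hc2 x) with rfl | rfl
    · exact Or.inl C.ψ_one
    · exact Or.inr C.ψ_z₂
    · exact Or.inr C.ψ_z₁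
    · exact Or.inl (by rw [C.ψ_negneg, C.ψ_one])
  have htt : t * t = 1 ∨ t * t = z := by
    refine hQz _ ((show Commute t z from htz).mul_left htz).eq (fun x => ?_) fun x => ?_
    · calc t * t * C.ψ₁ x * (t * t)⁻¹ = t * (t * C.ψ₁ x * t⁻¹) * t⁻¹ := by simp [mul_assoc]
        _ = C.ψ₁ (θf (θf x)) := by rw [ht₁, ht₁]
        _ = C.ψ₁ x := by rw [show θf (θf x) = θ (θ x) from rfl, θ_θ]
    · calc t * t * C.ψ₂ x * (t * t)⁻¹ = t * (t * C.ψ₂ x * t⁻¹) * t⁻¹ := by simp [mul_assoc]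
        _ = C.ψ₂ (θf (θf x)) := by rw [ht₂, ht₂]
        _ = C.ψ₂ x := by rw [show θf (θf x) = θ (θ x) from rfl, θ_θ]
  have hwt : w * t = t * w ∨ w * t = t * w * z := by
    have hd : t⁻¹ * (w * t * w⁻¹) = 1 ∨ t⁻¹ * (w * t * w⁻¹) = z := by
      have hC : Commute t z := htz
      have hW : Commute w z := hwz
      have hθi : ∀ x, t⁻¹ * C.ψ₁ (θf x) * t = C.ψ₁ x := fun x => by rw [← ht₁]; simp [mul_assoc]
      have hθi' : ∀ x, t⁻¹ * C.ψ₂ (θf x) * t = C.ψ₂ x := fun x => by rw [← ht₂]; simp [mul_assoc]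
      refine hQz _ (hC.inv_left.mul_left ((hW.mul_left hC).mul_left hW.inv_left)).eq
        (fun x => ?_) fun x => ?_
      · calc t⁻¹ * (w * t * w⁻¹) * C.ψ₁ x * (t⁻¹ * (w * t * w⁻¹))⁻¹
            = t⁻¹ * (w * (t * (w * C.ψ₁ x * w⁻¹) * t⁻¹) * w⁻¹) * t := by
              simp [mul_assoc, hwinv]
          _ = C.ψ₁ x := by rw [hCw, ht₂, hw21, hθi]
      · calc t⁻¹ * (w * t * w⁻¹) * C.ψ₂ x * (t⁻¹ * (w * t * w⁻¹))⁻¹
            = t⁻¹ * (w * (t * (w * C.ψ₂ x * w⁻¹) * t⁻¹) * w⁻¹) * t := by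
              simp [mul_assoc, hwinv]
          _ = C.ψ₂ x := by rw [hw21, ht₁, hCw, hθi']
    rcases hd with r | r
    · left
      rw [inv_mul_eq_one] at r
      exact (mul_inv_eq_iff_eq_mul.1 r.symm)
    · right
      rw [inv_mul_eq_iff_eq_mul, mul_inv_eq_iff_eq_mul] at r
      rw [r, mul_assoc t z w, ← hwz, ← mul_assoc]
  -- the parameters
  classical
  set ε : Bool := decide (t * t = z)
  set δ : Bool := decide (w * t ≠ t * w)
  have hz1 : z ≠ 1 := C.z_ne_one h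
  have hε : t * t = z ^ (if ε then 1 else 0) := by
    rcases htt with r | r
    · have : ε = false := decide_eq_false fun e => hz1 (e.symm.trans r)
      simp [this, r]
    · have : ε = true := decide_eq_true r
      simp [this, r]
  have hδ : w * t = t * w * z ^ (if δ then 1 else 0) := by
    rcases hwt with r | r
    · have : δ = false := decide_eq_false (fun hh => hh r)
      simp [this, r]
    · have : δ = true := decide_eq_true fun e => hz1 (mul_eq_left.1 (r.symm.trans e))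
      simp [this, r]
  -- the coding
  let kk : ℕ → G := fun k => C.ψ (slC (tab5 posTab (k / 24))) (slC (k % 24))
  let φ : ℕ → G := fun n => kk (n / 4) * t ^ (n / 2 % 2) * w ^ (n % 2)
  have hφ : ∀ k j i, j < 2 → i < 2 → φ (4 * k + 2 * j + i) = kk k * t ^ j * w ^ i := by
    intro k j i hj hi
    show kk ((4 * k + 2 * j + i) / 4) * t ^ ((4 * k + 2 * j + i) / 2 % 2) *
      w ^ ((4 * k + 2 * j + i) % 2) = _
    rw [show (4 * k + 2 * j + i) / 4 = k by omega, show (4 * k + 2 * j + i) / 2 % 2 = j by omega,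
      show (4 * k + 2 * j + i) % 2 = i by omega]
  have hnorm : ∀ a b, a < 24 → b < 24 → normP a b < 288 ∧
      kk (normP a b) = C.ψ (slC a) (slC b) := by
    intro a b ha hb
    obtain ⟨hnb, hnb'⟩ := slC_neg b hb
    rcases pos_spec a ha with ⟨e0, e1, e2, e3⟩ | ⟨e1, e2, e3⟩
    · have e : normP a b = 24 * (tab5 posIdx (tab5 negTab a) - 1) + tab5 negTab b := by
        simp [normP, e0]
      refine ⟨by omega, ?_⟩
      rw [e]
      show C.ψ (slC (tab5 posTab ((24 * (tab5 posIdx (tab5 negTab a) - 1) + tab5 negTab b) / 24)))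
        (slC ((24 * (tab5 posIdx (tab5 negTab a) - 1) + tab5 negTab b) % 24)) = _
      rw [show (24 * (tab5 posIdx (tab5 negTab a) - 1) + tab5 negTab b) / 24 =
          tab5 posIdx (tab5 negTab a) - 1 by omega,
        show (24 * (tab5 posIdx (tab5 negTab a) - 1) + tab5 negTab b) % 24 = tab5 negTab b by omega,
        e3, (slC_neg a ha).2, hnb', C.ψ_negneg]
    · have e : normP a b = 24 * (tab5 posIdx a - 1) + b := by
        simp [normP, Nat.pos_iff_ne_zero.1 e1]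
      refine ⟨by omega, ?_⟩
      rw [e]
      show C.ψ (slC (tab5 posTab ((24 * (tab5 posIdx a - 1) + b) / 24)))
        (slC ((24 * (tab5 posIdx a - 1) + b) % 24)) = _
      rw [show (24 * (tab5 posIdx a - 1) + b) / 24 = tab5 posIdx a - 1 by omega,
        show (24 * (tab5 posIdx a - 1) + b) % 24 = b by omega, e3]
  -- moving factors past `t` and `w`
  have hwψ : ∀ a b, w * C.ψ a b = C.ψ b a * w := by
    intro a b
    refine mul_inv_eq_iff_eq_mul.1 ?_
    calc w * C.ψ a b * w⁻¹ = (w * C.ψ₁ a * w⁻¹) * (w * C.ψ₂ b * w⁻¹) := by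
          simp [Shape.Coord.ψ, mul_assoc]
      _ = C.ψ b a := by rw [hCw, hw21, ← C.comm]; rfl
  have htψ : ∀ a b, t * C.ψ a b = C.ψ (θf a) (θf b) * t := by
    intro a b
    refine mul_inv_eq_iff_eq_mul.1 ?_
    calc t * C.ψ a b * t⁻¹ = (t * C.ψ₁ a * t⁻¹) * (t * C.ψ₂ b * t⁻¹) := by
          simp [Shape.Coord.ψ, mul_assoc]
      _ = C.ψ (θf a) (θf b) := by rw [ht₁, ht₂]; rfl
  have hzC : ∀ x : G, x * z = z * x → ∀ n : ℕ, x * z ^ n = z ^ n * x := fun x hx n =>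
    ((show Commute x z from hx).pow_right n).eq
  have hmul : ∀ m n, m < 1152 → n < 1152 → φ (hmul ε δ m n) = φ m * φ n := by
    intro m n hm hn
    unfold hmul
    set k := m / 4
    set j := m / 2 % 2
    set i := m % 2
    set l := n / 4
    set q := n / 2 % 2
    set p := n % 2
    have hc₀ : tab5 posTab (l / 24) < 24 := pos_lt _ (by omega)
    have hd₀ : l % 24 < 24 := by omega
    set c₀ := tab5 posTab (l / 24)
    set d₀ := l % 24
    set c₁ := if i = 1 then d₀ else c₀ with hc₁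
    set d₁ := if i = 1 then c₀ else d₀ with hd₁
    set c := if j = 1 then tab5 thTab c₁ else c₁ with hc
    set d := if j = 1 then tab5 thTab d₁ else d₁ with hd
    set s := ((if δ then i * q else 0) + (if ε then j * q else 0)) % 2 with hs
    have hc₁' : c₁ < 24 := by rw [hc₁]; split <;> assumption
    have hd₁' : d₁ < 24 := by rw [hd₁]; split <;> assumption
    have hc' : c < 24 ∧ slC c = if j = 1 then θf (slC c₁) else slC c₁ := by
      rw [hc]; split
      · exact slC_th _ hc₁'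
      · exact ⟨hc₁', rfl⟩
    have hd' : d < 24 ∧ slC d = if j = 1 then θf (slC d₁) else slC d₁ := by
      rw [hd]; split
      · exact slC_th _ hd₁'
      · exact ⟨hd₁', rfl⟩
    obtain ⟨hA, hA'⟩ := slC_mul (tab5 posTab (k / 24)) (pos_lt _ (by omega)) c hc'.1
    obtain ⟨hB, hB'⟩ := slC_mul (k % 24) (by omega) d hd'.1
    have hb : (if s = 1 then tab5 negTab (mm (k % 24) d) else mm (k % 24) d) < 24 ∧
        C.ψ (slC (mm (tab5 posTab (k / 24)) c))
          (slC (if s = 1 then tab5 negTab (mm (k % 24) d) else mm (k % 24) d)) =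
        C.ψ (slC (mm (tab5 posTab (k / 24)) c)) (slC (mm (k % 24) d)) * z ^ s := by
      have hs2 : s < 2 := by rw [hs]; omega
      rcases (show s = 0 ∨ s = 1 by omega) with r | r <;> rw [r]
      · simp [hB]
      · obtain ⟨h1, h2⟩ := slC_neg _ hB
        rw [if_pos rfl, h2, pow_one, C.mul_z_right]
        exact ⟨h1, rfl⟩
    obtain ⟨hN, hN'⟩ := hnorm _ _ hA hb.1
    rw [hφ _ _ _ (by omega) (by omega), hN', hb.2, hA', hB', ← C.ψ_mul]
    show kk k * C.ψ (slC c) (slC d) * z ^ s * t ^ ((j + q) % 2) * w ^ ((i + p) % 2) =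
      kk k * t ^ j * w ^ i * (kk l * t ^ q * w ^ p)
    have hwl : w ^ i * kk l = C.ψ (slC c₁) (slC d₁) * w ^ i := by
      rcases (show i = 0 ∨ i = 1 by omega) with r | r
      · rw [hc₁, hd₁, r]; simp [kk, c₀, d₀]
      · rw [hc₁, hd₁, r]; simp [kk, c₀, d₀, hwψ]
    have htl : t ^ j * C.ψ (slC c₁) (slC d₁) = C.ψ (slC c) (slC d) * t ^ j := by
      rcases (show j = 0 ∨ j = 1 by omega) with r | r
      · rw [hc'.2, hd'.2, r]; simp
      · rw [hc'.2, hd'.2, r]; simp [htψ]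
    have hwtq : w ^ i * t ^ q = t ^ q * w ^ i * z ^ (if δ then i * q else 0) := by
      rcases (show i = 0 ∨ i = 1 by omega) with r | r <;>
        rcases (show q = 0 ∨ q = 1 by omega) with r' | r' <;> rw [r, r'] <;> simp
      rw [hδ]; split <;> simp
    have hte : t ^ j * t ^ q = t ^ ((j + q) % 2) * z ^ (if ε then j * q else 0) := by
      rcases (show j = 0 ∨ j = 1 by omega) with r | r <;>
        rcases (show q = 0 ∨ q = 1 by omega) with r' | r' <;> rw [r, r'] <;> simp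
      rw [hε]; split <;> simp
    have hwe : w ^ i * w ^ p = w ^ ((i + p) % 2) := by
      rcases (show i = 0 ∨ i = 1 by omega) with r | r <;>
        rcases (show p = 0 ∨ p = 1 by omega) with r' | r' <;> rw [r, r'] <;> simp [hw2]
    have hzs : z ^ s = z ^ (if δ then i * q else 0) * z ^ (if ε then j * q else 0) := by
      rw [← pow_add, hs]
      have hz2 : z ^ 2 = 1 := by rw [← h.ord, pow_orderOf_eq_one]
      exact (pow_eq_pow_mod _ hz2).symm
    symm
    calc kk k * t ^ j * w ^ i * (kk l * t ^ q * w ^ p)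
        = kk k * (t ^ j * (w ^ i * kk l)) * t ^ q * w ^ p := by simp [mul_assoc]
      _ = kk k * (t ^ j * C.ψ (slC c₁) (slC d₁)) * (w ^ i * t ^ q) * w ^ p := by
          rw [hwl]; simp [mul_assoc]
      _ = kk k * C.ψ (slC c) (slC d) * (t ^ j * t ^ q) *
          (w ^ i * z ^ (if δ then i * q else 0)) * w ^ p := by
          rw [htl, hwtq]; simp [mul_assoc]
      _ = kk k * C.ψ (slC c) (slC d) * (t ^ ((j + q) % 2) * z ^ (if ε then j * q else 0)) *
          (z ^ (if δ then i * q else 0) * w ^ i) * w ^ p := by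
          rw [hte, hzC (w ^ i) ((show Commute w z from hwz).pow_left i).eq]
      _ = kk k * C.ψ (slC c) (slC d) * (t ^ ((j + q) % 2) * z ^ s) * (w ^ i * w ^ p) := by
          rw [hzs, ((Commute.refl z).pow_pow _ _).eq]; simp [mul_assoc]
      _ = _ := by
          rw [hzC (t ^ ((j + q) % 2)) ((show Commute t z from htz).pow_left _).eq, hwe]
          simp [mul_assoc]
  -- the cosets
  have hkkK : ∀ k, ∃ a b, kk k = C.ψ a b := fun k => ⟨_, _, rfl⟩
  have hmem : ∀ n, φ n ∈ centralizer ({z} : Set G) := fun n =>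
    Subgroup.mul_mem _ (Subgroup.mul_mem _ (C.mem_cent _ _)
      (Subgroup.pow_mem _ (mem_centralizer_singleton_iff.2 htz) _))
      (Subgroup.pow_mem _ (mem_centralizer_singleton_iff.2 hwz) _)
  have htout : ∀ a b, t ≠ C.ψ a b := by
    intro a b e
    have key : ∀ r : SL, ∃ x : SL, r * x * r⁻¹ ≠ θf x := by decide +kernel
    obtain ⟨x, hx⟩ := key a
    refine hx (C.inj₁ ?_)
    rw [← ht₁, e, C.ψ₁_eq, C.ψ₁_eq, C.ψ_inv, C.ψ_mul, C.ψ_mul]
    simp
  have hkeep : ∀ k j, Keep C (kk k * t ^ j) := by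
    intro k j
    have hj : ∀ j : ℕ, Keep C (t ^ j) := by
      intro j
      induction j with
      | zero => exact ⟨fun a => ⟨a, by simp⟩, fun a => ⟨a, by simp⟩⟩
      | succ j ih => rw [pow_succ]; exact C.keep_mul ih htk
    exact C.keep_mul (C.keep_ψ _ _) (hj j)
  have hinj : ∀ m n, m < 1152 → n < 1152 → φ m = φ n → m = n := by
    intro m n hm hn e
    have hi : m % 2 = n % 2 := by
      have aux : ∀ x y : G, Keep C x → Keep C y → x = y * w → False := fun x y hx hy hxy =>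
        C.keep_swp (C.keep_mul (C.keep_inv hy) hx) (by
          rw [hxy, inv_mul_cancel_left]; exact hw)
      by_contra hne
      rcases (show m % 2 = 0 ∧ n % 2 = 1 ∨ m % 2 = 1 ∧ n % 2 = 0 by omega) with
        ⟨r, r'⟩ | ⟨r, r'⟩
      · simp only [φ, r, r', pow_zero, mul_one, pow_one] at e
        exact aux _ _ (hkeep _ _) (hkeep _ _) e
      · simp only [φ, r, r', pow_zero, mul_one, pow_one] at e
        exact aux _ _ (hkeep _ _) (hkeep _ _) e.symm
    simp only [φ, hi] at e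
    have e1 : kk (m / 4) * t ^ (m / 2 % 2) = kk (n / 4) * t ^ (n / 2 % 2) := mul_right_cancel e
    have hj : m / 2 % 2 = n / 2 % 2 := by
      have aux : ∀ k l, kk k = kk l * t → False := by
        intro k l hkl
        obtain ⟨a, b, ha⟩ := hkkK k
        obtain ⟨a', b', ha'⟩ := hkkK l
        refine htout (a'⁻¹ * a) (b'⁻¹ * b) ?_
        rw [← C.ψ_mul, ← C.ψ_inv, ← ha, hkl, ha', inv_mul_cancel_left]
      by_contra hne
      rcases (show m / 2 % 2 = 0 ∧ n / 2 % 2 = 1 ∨ m / 2 % 2 = 1 ∧ n / 2 % 2 = 0 by omega) with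
        ⟨r, r'⟩ | ⟨r, r'⟩ <;> rw [r, r', pow_zero, mul_one, pow_one] at e1
      · exact aux _ _ e1
      · exact aux _ _ e1.symm
    rw [hj] at e1
    have e2 : kk (m / 4) = kk (n / 4) := mul_right_cancel e1
    obtain ⟨hp1, hp2⟩ := pos_unique (m / 4 / 24) (by omega) (n / 4 / 24) (by omega)
    rcases C.ψ_eq e2 with ⟨r, r'⟩ | ⟨r, -⟩
    · have := hp1 r
      have := slC_inj _ (by omega) _ (by omega) r'
      omega
    · exact absurd r hp2
  have hsurj : ∀ a ∈ centralizer ({z} : Set G), ∃ n < 1152, φ n = a := by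
    intro a ha
    let F : Fin 1152 → centralizer ({z} : Set G) := fun i => ⟨φ i, hmem _⟩
    have hF : Function.Injective F := fun x y e =>
      Fin.ext (hinj _ _ x.2 y.2 (congrArg Subtype.val e))
    obtain ⟨i, hi⟩ := (hF.bijective_of_nat_card_le (by rw [h.card, Nat.card_fin])).2 ⟨a, ha⟩
    exact ⟨i, i.2, congrArg Subtype.val hi⟩
  refine ⟨ε, δ, ⟨⟨φ, hmul, hinj, fun a => ⟨fun ha => hsurj a ha,
    fun ⟨n, _, e⟩ => e ▸ hmem n⟩, ?_, fun n hn => ?_⟩⟩⟩
  · show C.ψ (slC (tab5 posTab (zC / 4 / 24))) (slC (zC / 4 % 24)) * t ^ (zC / 2 % 2) *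
      w ^ (zC % 2) = z
    obtain ⟨h6, h15, h3⟩ := code_one
    simp only [zC, show 348 / 4 / 24 = 3 from rfl, show 348 / 4 % 24 = 15 from rfl,
      show 348 / 2 % 2 = 0 from rfl, h3, h6, h15, pow_zero, mul_one]
    exact C.ψ_z₂
  · simp only [inQ, Bool.and_eq_true, beq_iff_eq]
    constructor
    · intro hQ
      obtain ⟨a, b, ha, hb, hab⟩ := (C.memQ _).1 hQ
      have hab' : C.ψ a b = φ n := hab
      -- locate the element among the codes
      obtain ⟨x, hx, rfl⟩ := slC_surj a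
      obtain ⟨y, hy, rfl⟩ := slC_surj b
      obtain ⟨hlt, hk⟩ := hnorm x y hx hy
      have hn' : n = 4 * normP x y + 2 * 0 + 0 := hinj _ _ hn (by omega) (by
        rw [hφ _ _ _ (by omega) (by omega), hk, pow_zero, pow_zero, mul_one, mul_one]
        exact hab'.symm)
      have hQ' : C.ψ (slC (tab5 posTab (normP x y / 24))) (slC (normP x y % 24)) ∈ Q := by
        show kk (normP x y) ∈ Q
        rw [hk]; exact (C.mem_Q_iff _ _).2 ⟨ha, hb⟩
      obtain ⟨q1, q2⟩ := (C.mem_Q_iff _ _).1 hQ'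
      rw [show n / 4 = normP x y by omega]
      exact ⟨⟨by omega, (slC_quat _ (pos_lt _ (by omega))).2 q1⟩,
        (slC_quat _ (by omega)).2 q2⟩
    · rintro ⟨⟨h4, h1⟩, h2⟩
      show kk (n / 4) * t ^ (n / 2 % 2) * w ^ (n % 2) ∈ Q
      rw [show n / 2 % 2 = 0 by omega, show n % 2 = 0 by omega, pow_zero, pow_zero, mul_one,
        mul_one]
      exact (C.mem_Q_iff _ _).2 ⟨(slC_quat _ (pos_lt _ (by omega))).1 h1,
        (slC_quat _ (by omega)).1 h2⟩

end CfsgLib.U43Type
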