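import Cfsg.Agent.Lib.U43Type.Fusion

/-!
# S5390 / S5391: how the centraliser acts on the two factors
-/

set_option autoImplicit false
set_option linter.unusedSectionVars false
set_option maxRecDepth 100000

namespace CfsgLib.U43Type.Shape

open Subgroup

universe u

theorem cent_two : ∀ u i j : SL, i * i = -1 → j * j = -1 → i * j = -(j * i) → u * i = i * u →
    u * j = j * u → u = 1 ∨ u = -1 := by decide +kernel

theorem ne_neg : ∀ u : SL, u ≠ -u := by decide +kernel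

theorem quat_gen_anti : ∃ i j : SL, i * i = -1 ∧ j * j = -1 ∧ i * j = -(j * i) ∧
    i * j * (i * j) = -1 := by decide +kernel

/-- the two kinds of automorphisms: identity or conjugation by `diag (1,-1)` -/
def kind (ε : Bool) : SL →* SL := if ε then θ else MonoidHom.id SL

theorem hom_ext_gen {H : Type*} [Monoid H] {f f' : SL →* H} (h1 : f gs = f' gs)
    (h2 : f gr = f' gr) (x : SL) : f x = f' x := by
  obtain ⟨a, b, c, d, e, rfl⟩ := gen_words x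
  simp only [map_mul, map_pow, h1, h2]

theorem aut_cases (α : SL →* SL) (hinj : Function.Injective α) (hneg : α (-1) = -1) :
    ∃ u : SL, ∃ ε : Bool, ∀ x, α x = u * kind ε x * u⁻¹ := by
  obtain ⟨s3, s1, r3, r1, sr⟩ := gs_spec
  obtain ⟨u, hu⟩ := gen_cases (α gs) (α gr)
    ⟨by rw [← map_pow, s3, map_one], fun e => s1 (hinj (e.trans (map_one α).symm)),
      by rw [← map_pow, r3, map_one], fun e => r1 (hinj (e.trans (map_one α).symm)),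
      by rw [← map_mul, ← map_mul, sr, hneg]⟩
  rcases hu with ⟨h1, h2⟩ | ⟨h1, h2⟩
  · refine ⟨u, false, fun x => ?_⟩
    exact hom_ext_gen (f' := (MulAut.conj u).toMonoidHom.comp (kind false)) h1.symm h2.symm x
  · refine ⟨u, true, fun x => ?_⟩
    exact hom_ext_gen (f' := (MulAut.conj u).toMonoidHom.comp (kind true)) h1.symm h2.symm x

variable {G : Type u} [Group G] [Finite G] {z : G} {Q : Subgroup G}

/-- `c` fixes both factors. -/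
def Keep (C : Coord G z Q) (c : G) : Prop :=
  (∀ a, ∃ a', c * C.ψ₁ a * c⁻¹ = C.ψ₁ a') ∧ ∀ b, ∃ b', c * C.ψ₂ b * c⁻¹ = C.ψ₂ b'

/-- `c` exchanges the factors. -/
def Swp (C : Coord G z Q) (c : G) : Prop :=
  (∀ a, ∃ b', c * C.ψ₁ a * c⁻¹ = C.ψ₂ b') ∧ ∀ b, ∃ a', c * C.ψ₂ b * c⁻¹ = C.ψ₁ a'

namespace Coord

variable (C : Coord G z Q)
include C

omit [Finite G] in
theorem ψ₁_eq (a : SL) : C.ψ₁ a = C.ψ a 1 := by simp [ψ]

omit [Finite G] in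
theorem ψ₂_eq (b : SL) : C.ψ₂ b = C.ψ 1 b := by simp [ψ]

omit [Finite G] in
theorem ψ_ne_z (a b : SL) (ha : a * a = -1) (hb : b * b = -1) : C.ψ a b * C.ψ a b = 1 := by
  rw [C.ψ_mul, ha, hb, C.ψ_negneg, C.ψ_one]

theorem z_ne_one (h : Hyp G z Q) : z ≠ 1 := fun e => by
  have := h.ord; rw [e, orderOf_one] at this; omega

theorem conj_cases (h : Hyp G z Q) {c : G} (hc : c * z = z * c) : Keep C c ∨ Swp C c := by
  have hcQ : ∀ x ∈ Q, c * x * c⁻¹ ∈ Q := fun x hx => h.conj_mem_Q hc hx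
  have hcz : c * z * c⁻¹ = z := mul_inv_eq_iff_eq_mul.2 hc
  let f₁ : SL →* G := (MulAut.conj c).toMonoidHom.comp C.ψ₁
  let f₂ : SL →* G := (MulAut.conj c).toMonoidHom.comp C.ψ₂
  have hz₁ : f₁ (-1) = z := by show c * C.ψ₁ (-1) * c⁻¹ = z; rw [C.z₁, hcz]
  have hz₂ : f₂ (-1) = z := by show c * C.ψ₂ (-1) * c⁻¹ = z; rw [C.z₂, hcz]
  -- an element of order four goes into one of the factors
  have hside : ∀ f : SL →* G, f (-1) = z → (∀ u, u ^ 4 = 1 → f u ∈ Q) → ∀ i, i * i = -1 →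
      (∃ a, a * a = -1 ∧ f i = C.ψ a 1) ∨ ∃ b, b * b = -1 ∧ f i = C.ψ 1 b := by
    intro f hf hfQ i hi
    obtain ⟨a, b, ha, hb, hab⟩ := (C.memQ _).1 (hfQ i (sq_neg i hi).1)
    change C.ψ a b = f i at hab
    have h2 : C.ψ (a * a) (b * b) = z := by rw [← C.ψ_mul, hab, ← map_mul, hi, hf]
    rcases C.ψ_eq (h2.trans C.ψ_z₁.symm) with ⟨p, q⟩ | ⟨p, q⟩
    · left
      rcases invol_unique b q with rfl | rfl
      · exact ⟨a, p, hab.symm⟩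
      · exact ⟨-a, by rw [neg_mul_neg, p], by rw [← hab, ← C.ψ_negneg a (-1), neg_neg]⟩
    · right
      rcases invol_unique a (by rw [p, neg_neg]) with rfl | rfl
      · exact ⟨b, q, hab.symm⟩
      · exact ⟨-b, by rw [neg_mul_neg, q], by rw [← hab, ← C.ψ_negneg (-1) b, neg_neg]⟩
  have hfQ₁ : ∀ u, u ^ 4 = 1 → f₁ u ∈ Q := fun u hu => hcQ _ (by
    rw [C.ψ₁_eq]; exact (C.mem_Q_iff _ _).2 ⟨hu, one_pow 4⟩)
  have hfQ₂ : ∀ u, u ^ 4 = 1 → f₂ u ∈ Q := fun u hu => hcQ _ (by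
    rw [C.ψ₂_eq]; exact (C.mem_Q_iff _ _).2 ⟨one_pow 4, hu⟩)
  obtain ⟨i, j, hi, hj, hij, hk⟩ := quat_gen_anti
  have hmix : ∀ f : SL →* G, f (-1) = z → ∀ p q, p * p = -1 → q * q = -1 →
      p * q * (p * q) = -1 → ∀ a b, a * a = -1 → b * b = -1 →
      f p = C.ψ a 1 → f q ≠ C.ψ 1 b := by
    intro f hf p q _ _ hpq a b ha hb h1 h2
    refine C.z_ne_one h ?_
    rw [← hf, ← hpq, map_mul, map_mul, h1, h2, C.ψ_mul a 1 1 b, mul_one, one_mul,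
      C.ψ_ne_z a b ha hb]
  have hsame : ∀ f : SL →* G, f (-1) = z → (∀ u, u ^ 4 = 1 → f u ∈ Q) →
      (∃ a a', a * a = -1 ∧ a' * a' = -1 ∧ f i = C.ψ a 1 ∧ f j = C.ψ a' 1 ∧ a * a' = -(a' * a)) ∨
      (∃ b b', b * b = -1 ∧ b' * b' = -1 ∧ f i = C.ψ 1 b ∧ f j = C.ψ 1 b' ∧
        b * b' = -(b' * b)) := by
    intro f hf hfQ
    have hji : j * i * (j * i) = -1 := by
      rw [show j * i = -(i * j) by rw [hij, neg_neg], neg_mul_neg, hk]
    have hfneg : f (i * j) = z * f (j * i) := by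
      rw [hij, ← neg_one_mul, map_mul, hf]
    rcases hside f hf hfQ i hi with ⟨a, ha, e⟩ | ⟨b, hb, e⟩ <;>
      rcases hside f hf hfQ j hj with ⟨a', ha', e'⟩ | ⟨b', hb', e'⟩
    · left
      refine ⟨a, a', ha, ha', e, e', ?_⟩
      have h1 : C.ψ (a * a') 1 = C.ψ (-(a' * a)) 1 := by
        rw [map_mul, map_mul, e, e', C.ψ_mul, C.ψ_mul, one_mul,
          ← (show ∀ u v, C.ψ u v * z = z * C.ψ u v from fun u v =>
            mem_centralizer_singleton_iff.1 (C.mem_cent u v))] at hfneg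
        rw [hfneg]
        exact C.mul_z_left _ _
      rcases C.ψ_eq h1 with ⟨r, -⟩ | ⟨-, r⟩
      · exact r
      · exact absurd r (ne_neg 1)
    · exact absurd e' (hmix f hf i j hi hj hk a b' ha hb' e)
    · exact absurd e (hmix f hf j i hj hi hji a' b ha' hb e')
    · right
      refine ⟨b, b', hb, hb', e, e', ?_⟩
      have h1 : C.ψ 1 (b * b') = C.ψ 1 (-(b' * b)) := by
        rw [map_mul, map_mul, e, e', C.ψ_mul, C.ψ_mul, one_mul,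
          ← (show ∀ u v, C.ψ u v * z = z * C.ψ u v from fun u v =>
            mem_centralizer_singleton_iff.1 (C.mem_cent u v))] at hfneg
        rw [hfneg]
        exact C.mul_z_right _ _
      rcases C.ψ_eq h1 with ⟨-, r⟩ | ⟨r, -⟩
      · exact r
      · exact absurd r (ne_neg 1)
  have hcf : ∀ a b, f₁ a * f₂ b = f₂ b * f₁ a := fun a b => by
    show c * C.ψ₁ a * c⁻¹ * (c * C.ψ₂ b * c⁻¹) = c * C.ψ₂ b * c⁻¹ * (c * C.ψ₁ a * c⁻¹)
    calc _ = c * (C.ψ₁ a * C.ψ₂ b) * c⁻¹ := by simp [mul_assoc]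
      _ = _ := by rw [C.comm]; simp [mul_assoc]
  -- the whole image is determined by the commuting quaternion images
  have hwhole₁ : ∀ f f' : SL →* G, (∀ a b, f a * f' b = f' b * f a) →
      (∀ u, ∃ a b, f u = C.ψ a b) → ∀ b b', b * b = -1 → b' * b' = -1 → b * b' = -(b' * b) →
      f' i = C.ψ 1 b → f' j = C.ψ 1 b' → ∀ u, ∃ a, f u = C.ψ₁ a := by
    intro f f' hff hf b b' hb hb' hbb e e' u
    obtain ⟨x, y, hxy⟩ := hf u
    have k1 : ∀ q, C.ψ x y * C.ψ 1 q = C.ψ 1 q * C.ψ x y → y * q = q * y := fun q hq => by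
      rw [C.ψ_mul, C.ψ_mul, mul_one, one_mul] at hq
      rcases C.ψ_eq hq with ⟨-, r⟩ | ⟨r, -⟩
      · exact r
      · exact absurd r (ne_neg x)
    rcases cent_two y b b' hb hb' hbb (k1 b (by rw [← hxy, ← e]; exact hff _ _))
      (k1 b' (by rw [← hxy, ← e']; exact hff _ _)) with rfl | rfl
    · exact ⟨x, by rw [hxy, C.ψ₁_eq]⟩
    · exact ⟨-x, by rw [hxy, C.ψ₁_eq, ← C.ψ_negneg x, neg_neg]⟩
  have hwhole₂ : ∀ f f' : SL →* G, (∀ a b, f a * f' b = f' b * f a) →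
      (∀ u, ∃ a b, f u = C.ψ a b) → ∀ a a', a * a = -1 → a' * a' = -1 → a * a' = -(a' * a) →
      f' i = C.ψ a 1 → f' j = C.ψ a' 1 → ∀ u, ∃ b, f u = C.ψ₂ b := by
    intro f f' hff hf b b' hb hb' hbb e e' u
    obtain ⟨x, y, hxy⟩ := hf u
    have k1 : ∀ q, C.ψ x y * C.ψ q 1 = C.ψ q 1 * C.ψ x y → x * q = q * x := fun q hq => by
      rw [C.ψ_mul, C.ψ_mul, mul_one, one_mul] at hq
      rcases C.ψ_eq hq with ⟨r, -⟩ | ⟨-, r⟩
      · exact r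
      · exact absurd r (ne_neg y)
    rcases cent_two x b b' hb hb' hbb (k1 b (by rw [← hxy, ← e]; exact hff _ _))
      (k1 b' (by rw [← hxy, ← e']; exact hff _ _)) with rfl | rfl
    · exact ⟨y, by rw [hxy, C.ψ₂_eq]⟩
    · exact ⟨-y, by rw [hxy, C.ψ₂_eq, ← C.ψ_negneg (-1) y, neg_neg]⟩
  have hK₁ : ∀ u, ∃ a b, f₁ u = C.ψ a b := fun u => by
    obtain ⟨a', b', e⟩ := C.conj_mem c (mem_centralizer_singleton_iff.2 hc) u 1
    exact ⟨a', b', by show c * C.ψ₁ u * c⁻¹ = _; rw [show C.ψ₁ u = C.ψ₁ u * C.ψ₂ 1 by simp]; exact e⟩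
  have hK₂ : ∀ u, ∃ a b, f₂ u = C.ψ a b := fun u => by
    obtain ⟨a', b', e⟩ := C.conj_mem c (mem_centralizer_singleton_iff.2 hc) 1 u
    exact ⟨a', b', by show c * C.ψ₂ u * c⁻¹ = _; rw [show C.ψ₂ u = C.ψ₁ 1 * C.ψ₂ u by simp]; exact e⟩
  rcases hsame f₁ hz₁ hfQ₁ with ⟨a, a', ha, ha', e, e', haa⟩ | ⟨b, b', hb, hb', e, e', hbb⟩
  · have h2 := hwhole₂ f₂ f₁ (fun x y => (hcf y x).symm) hK₂ a a' ha ha' haa e e'
    rcases hsame f₂ hz₂ hfQ₂ with ⟨p, p', hp, -, q, -, -⟩ | ⟨p, p', hp, hp', q, q', hpp⟩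
    · exfalso
      obtain ⟨y, hy⟩ := h2 i
      rw [q, C.ψ₂_eq] at hy
      rcases C.ψ_eq hy with ⟨r, -⟩ | ⟨r, -⟩
      · exact (sq_neg p hp).2.1 r
      · exact (sq_neg p hp).2.2 r
    · exact Or.inl ⟨hwhole₁ f₁ f₂ hcf hK₁ p p' hp hp' hpp q q', h2⟩
  · have h2 := hwhole₁ f₂ f₁ (fun x y => (hcf y x).symm) hK₂ b b' hb hb' hbb e e'
    rcases hsame f₂ hz₂ hfQ₂ with ⟨p, p', hp, hp', q, q', hpp⟩ | ⟨p, p', hp, -, q, -, -⟩
    · exact Or.inr ⟨hwhole₂ f₁ f₂ hcf hK₁ p p' hp hp' hpp q q', h2⟩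
    · exfalso
      obtain ⟨y, hy⟩ := h2 i
      rw [q, C.ψ₁_eq] at hy
      rcases C.ψ_eq hy with ⟨-, r⟩ | ⟨-, r⟩
      · exact (sq_neg p hp).2.1 r
      · exact (sq_neg p hp).2.2 r

omit [Finite G] in
theorem keep_swp {c : G} (h1 : Keep C c) (h2 : Swp C c) : False := by
  obtain ⟨i, -, hi, -, -⟩ := quat_gen_anti
  obtain ⟨a, ha⟩ := h1.1 i
  obtain ⟨b, hb⟩ := h2.1 i
  rcases C.meet a b (ha.symm.trans hb) with ⟨e, -⟩ | ⟨e, -⟩
  · rw [e, map_one, conj_eq_one_iff, ← map_one C.ψ₁] at ha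
    exact (sq_neg i hi).2.1 (C.inj₁ ha)
  · have hcz : c * C.ψ₁ (i * i) * c⁻¹ = C.ψ₁ (a * a) := by
      rw [map_mul, map_mul, ← ha]; simp [mul_assoc]
    rw [hi, e, neg_one_sq, map_one, conj_eq_one_iff, ← map_one C.ψ₁] at hcz
    exact neg_one_ne (C.inj₁ hcz)

omit [Finite G] in
theorem swp_mul {c d : G} (h1 : Swp C c) (h2 : Swp C d) : Keep C (c * d) := by
  constructor <;> intro a
  · obtain ⟨b, hb⟩ := h2.1 a
    obtain ⟨a', ha'⟩ := h1.2 b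
    exact ⟨a', by rw [← ha', ← hb]; simp [mul_assoc]⟩
  · obtain ⟨b, hb⟩ := h2.2 a
    obtain ⟨a', ha'⟩ := h1.1 b
    exact ⟨a', by rw [← ha', ← hb]; simp [mul_assoc]⟩

omit [Finite G] in
theorem keep_mul {c d : G} (h1 : Keep C c) (h2 : Keep C d) : Keep C (c * d) := by
  constructor <;> intro a
  · obtain ⟨b, hb⟩ := h2.1 a
    obtain ⟨a', ha'⟩ := h1.1 b
    exact ⟨a', by rw [← ha', ← hb]; simp [mul_assoc]⟩
  · obtain ⟨b, hb⟩ := h2.2 a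
    obtain ⟨a', ha'⟩ := h1.2 b
    exact ⟨a', by rw [← ha', ← hb]; simp [mul_assoc]⟩

omit [Finite G] in
theorem keep_ψ (p q : SL) : Keep C (C.ψ p q) := by
  constructor <;> intro a
  · exact ⟨p * a * p⁻¹, by rw [C.ψ₁_eq, C.ψ₁_eq, C.ψ_inv, C.ψ_mul, C.ψ_mul]; simp⟩
  · exact ⟨q * a * q⁻¹, by rw [C.ψ₂_eq, C.ψ₂_eq, C.ψ_inv, C.ψ_mul, C.ψ_mul]; simp⟩

/-- An element fixing both factors is a product of an element of the factors and one acting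
diagonally by automorphisms of the two kinds. -/
theorem keep_kind (h : Hyp G z Q) {c : G} (hk : Keep C c) (hc : c * z = z * c) :
    ∃ p q : SL, ∃ ε₁ ε₂ : Bool,
      (∀ x, (C.ψ p q)⁻¹ * c * C.ψ₁ x * ((C.ψ p q)⁻¹ * c)⁻¹ = C.ψ₁ (kind ε₁ x)) ∧
      ∀ x, (C.ψ p q)⁻¹ * c * C.ψ₂ x * ((C.ψ p q)⁻¹ * c)⁻¹ = C.ψ₂ (kind ε₂ x) := by
  choose α hα using hk.1
  choose β hβ using hk.2
  have hcz : c * z * c⁻¹ = z := mul_inv_eq_iff_eq_mul.2 hc
  let A : SL →* SL :=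
    { toFun := α
      map_one' := C.inj₁ (by rw [← hα, map_one]; simp)
      map_mul' := fun x y => C.inj₁ (by rw [map_mul, ← hα, ← hα, ← hα, map_mul]; simp [mul_assoc]) }
  let B : SL →* SL :=
    { toFun := β
      map_one' := C.inj₂ (by rw [← hβ, map_one]; simp)
      map_mul' := fun x y => C.inj₂ (by rw [map_mul, ← hβ, ← hβ, ← hβ, map_mul]; simp [mul_assoc]) }
  obtain ⟨p, ε₁, hp⟩ := aut_cases A (fun x y e => C.inj₁ (by
      have e' : C.ψ₁ (α x) = C.ψ₁ (α y) := congrArg C.ψ₁ e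
      rw [← hα, ← hα] at e'
      exact mul_left_cancel (mul_right_cancel e')))
    (C.inj₁ (by show C.ψ₁ (α (-1)) = _; rw [← hα, C.z₁, hcz]))
  obtain ⟨q, ε₂, hq⟩ := aut_cases B (fun x y e => C.inj₂ (by
      have e' : C.ψ₂ (β x) = C.ψ₂ (β y) := congrArg C.ψ₂ e
      rw [← hβ, ← hβ] at e'
      exact mul_left_cancel (mul_right_cancel e')))
    (C.inj₂ (by show C.ψ₂ (β (-1)) = _; rw [← hβ, C.z₂, hcz]))
  refine ⟨p, q, ε₁, ε₂, fun x => ?_, fun x => ?_⟩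
  · calc (C.ψ p q)⁻¹ * c * C.ψ₁ x * ((C.ψ p q)⁻¹ * c)⁻¹
        = (C.ψ p q)⁻¹ * (c * C.ψ₁ x * c⁻¹) * C.ψ p q := by simp [mul_assoc]
      _ = C.ψ₁ (kind ε₁ x) := by
          rw [hα, show α x = p * kind ε₁ x * p⁻¹ from hp x, C.ψ₁_eq, C.ψ₁_eq, C.ψ_inv, C.ψ_mul,
            C.ψ_mul]
          simp [mul_assoc]
  · calc (C.ψ p q)⁻¹ * c * C.ψ₂ x * ((C.ψ p q)⁻¹ * c)⁻¹
        = (C.ψ p q)⁻¹ * (c * C.ψ₂ x * c⁻¹) * C.ψ p q := by simp [mul_assoc]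
      _ = C.ψ₂ (kind ε₂ x) := by
          rw [hβ, show β x = q * kind ε₂ x * q⁻¹ from hq x, C.ψ₂_eq, C.ψ₂_eq, C.ψ_inv, C.ψ_mul,
            C.ψ_mul]
          simp [mul_assoc]

/-- An element centralising both factors lies in `Q`. -/
theorem cent_both (h : Hyp G z Q) {c : G} (hc : c * z = z * c)
    (h1 : ∀ x, c * C.ψ₁ x * c⁻¹ = C.ψ₁ x) (h2 : ∀ x, c * C.ψ₂ x * c⁻¹ = C.ψ₂ x) : c ∈ Q := by
  refine h.centQ c (mem_centralizer_singleton_iff.2 hc) fun x hx => ?_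
  obtain ⟨a, b, -, -, rfl⟩ := (C.memQ x).1 hx
  have e1 := mul_inv_eq_iff_eq_mul.1 (h1 a)
  have e2 := mul_inv_eq_iff_eq_mul.1 (h2 b)
  rw [← mul_assoc, e1, mul_assoc, e2, mul_assoc]

end Coord

end CfsgLib.U43Type.Shape
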