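import Cfsg.Agent.Lib.U43Type.ShapeSL

/-!
# S5390 / S5391: the two factors of the centraliser

`Coord G z Q` : coordinates of `H₁ ∘ H₂` by pairs of matrices.
-/

set_option autoImplicit false
set_option linter.unusedSectionVars false

namespace CfsgLib.U43Type.Shape

open Subgroup

universe u

variable {G : Type u} [Group G] {z : G} {Q : Subgroup G}

/-- Coordinates of the subgroup generated by the elements of odd order of the centraliser. -/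
structure Coord (G : Type u) [Group G] (z : G) (Q : Subgroup G) where
  /-- the first factor -/
  ψ₁ : SL →* G
  /-- the second factor -/
  ψ₂ : SL →* G
  comm : ∀ a b, ψ₁ a * ψ₂ b = ψ₂ b * ψ₁ a
  inj₁ : Function.Injective ψ₁
  inj₂ : Function.Injective ψ₂
  z₁ : ψ₁ (-1) = z
  z₂ : ψ₂ (-1) = z
  meet : ∀ a b, ψ₁ a = ψ₂ b → (a = 1 ∧ b = 1) ∨ (a = -1 ∧ b = -1)
  mem_cent : ∀ a b, ψ₁ a * ψ₂ b ∈ centralizer ({z} : Set G)
  conj_mem : ∀ c ∈ centralizer ({z} : Set G), ∀ a b, ∃ a' b',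
    c * (ψ₁ a * ψ₂ b) * c⁻¹ = ψ₁ a' * ψ₂ b'
  memQ : ∀ x, x ∈ Q ↔ ∃ a b, a ^ 4 = 1 ∧ b ^ 4 = 1 ∧ ψ₁ a * ψ₂ b = x

theorem coord_exists [Finite G] (h : Hyp G z Q) : Nonempty (Coord G z Q) := by
  obtain ⟨H₁, H₂, hle₁, hle₂, ⟨e₁⟩, ⟨e₂⟩, hmeet, hn₁, hn₂, hN, -, hQK, hmax⟩ := h.shape
  let f₁ : SL →* G := H₁.subtype.comp e₁.symm.toMonoidHom
  let f₂ : SL →* G := H₂.subtype.comp e₂.symm.toMonoidHom
  have hi₁ : Function.Injective f₁ := H₁.subtype_injective.comp e₁.symm.injective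
  have hi₂ : Function.Injective f₂ := H₂.subtype_injective.comp e₂.symm.injective
  have hr₁ : ∀ x, x ∈ H₁ ↔ ∃ a, f₁ a = x := fun x =>
    ⟨fun hx => ⟨e₁ ⟨x, hx⟩, congrArg Subtype.val (e₁.symm_apply_apply ⟨x, hx⟩)⟩,
      fun ⟨a, ha⟩ => ha ▸ (e₁.symm a).2⟩
  have hr₂ : ∀ x, x ∈ H₂ ↔ ∃ a, f₂ a = x := fun x =>
    ⟨fun hx => ⟨e₂ ⟨x, hx⟩, congrArg Subtype.val (e₂.symm_apply_apply ⟨x, hx⟩)⟩,
      fun ⟨a, ha⟩ => ha ▸ (e₂.symm a).2⟩
  have hz2 : z * z = 1 := by rw [← pow_two, ← h.ord, pow_orderOf_eq_one]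
  have hz1 : z ≠ 1 := fun e => by have := h.ord; rw [e, orderOf_one] at this; omega
  have hzp : ∀ x, x ∈ zpowers z → x = 1 ∨ x = z := by
    intro x hx
    obtain ⟨k, rfl⟩ := mem_zpowers_iff.1 hx
    rcases Int.even_or_odd' k with ⟨m, rfl | rfl⟩
    · left; rw [zpow_mul, zpow_two, hz2, one_zpow]
    · right; rw [zpow_add, zpow_mul, zpow_two, hz2, one_zpow, one_mul, zpow_one]
  have hz₁ : f₁ (-1) = z := by
    obtain ⟨a, ha⟩ := (hr₁ z).1 (hmeet ▸ mem_zpowers z : z ∈ H₁ ⊓ H₂).1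
    rcases invol_unique a (hi₁ (by rw [map_mul, map_one, ha, hz2])) with rfl | rfl
    · exact absurd ((map_one f₁).symm.trans ha).symm hz1
    · exact ha
  have hz₂ : f₂ (-1) = z := by
    obtain ⟨a, ha⟩ := (hr₂ z).1 (hmeet ▸ mem_zpowers z : z ∈ H₁ ⊓ H₂).2
    rcases invol_unique a (hi₂ (by rw [map_mul, map_one, ha, hz2])) with rfl | rfl
    · exact absurd ((map_one f₂).symm.trans ha).symm hz1
    · exact ha
  have hzc : ∀ x ∈ centralizer ({z} : Set G), x * z = z * x := fun x hx =>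
    mem_centralizer_singleton_iff.1 hx
  -- the factors commute
  have hcz : ∀ a b, f₁ a * f₂ b * (f₁ a)⁻¹ * (f₂ b)⁻¹ ∈ zpowers z := by
    intro a b
    rw [← hmeet]
    have ha : f₁ a ∈ H₁ := (hr₁ _).2 ⟨a, rfl⟩
    have hb : f₂ b ∈ H₂ := (hr₂ _).2 ⟨b, rfl⟩
    refine ⟨?_, Subgroup.mul_mem _ ((mem_normalizer_iff.1 (hn₂ ha) _).1 hb) (Subgroup.inv_mem _ hb)⟩
    rw [mul_assoc, mul_assoc, ← mul_assoc (f₂ b)]
    exact Subgroup.mul_mem _ ha ((mem_normalizer_iff.1 (hn₁ hb) _).1 (Subgroup.inv_mem _ ha))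
  have hcomm : ∀ a b, f₁ a * f₂ b = f₂ b * f₁ a := by
    intro a b
    -- commutation with a square
    have hsq : ∀ v, f₁ (v * v) * f₂ b = f₂ b * f₁ (v * v) := by
      intro v
      rcases hzp _ (hcz v b) with e | e
      · have e' : f₁ v * f₂ b = f₂ b * f₁ v := mul_inv_eq_one.1 (by
          rw [← e]; simp [mul_assoc])
        rw [map_mul, mul_assoc, e', ← mul_assoc, e', mul_assoc]
      · have e' : f₁ v * f₂ b = z * (f₂ b * f₁ v) := by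
          rw [← e]; simp [mul_assoc]
        have hzv : f₁ v * z = z * f₁ v := hzc _ (hle₁ ((hr₁ _).2 ⟨v, rfl⟩))
        rw [map_mul, mul_assoc, e', ← mul_assoc, hzv, mul_assoc z, ← mul_assoc (f₁ v), e',
          mul_assoc z (f₂ b * f₁ v), ← mul_assoc z z, hz2, one_mul, mul_assoc]
    obtain ⟨v, w, rfl⟩ := squares a
    rw [map_mul f₁ (v * v), mul_assoc, hsq w, ← mul_assoc, hsq v, mul_assoc]
  have hmeet' : ∀ a b, f₁ a = f₂ b → (a = 1 ∧ b = 1) ∨ (a = -1 ∧ b = -1) := by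
    intro a b e
    have hm : f₁ a ∈ zpowers z := hmeet ▸ ⟨(hr₁ _).2 ⟨a, rfl⟩, (hr₂ _).2 ⟨b, e.symm⟩⟩
    rcases hzp _ hm with e' | e'
    · exact Or.inl ⟨hi₁ (by rw [e', map_one]), hi₂ (by rw [← e, e', map_one])⟩
    · exact Or.inr ⟨hi₁ (by rw [e', hz₁]), hi₂ (by rw [← e, e', hz₂])⟩
  have hK : ∀ x, x ∈ H₁ ⊔ H₂ ↔ ∃ a b, f₁ a * f₂ b = x := by
    intro x
    constructor
    · intro hx
      rw [Subgroup.sup_eq_closure] at hx
      induction hx using Subgroup.closure_induction with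
      | mem y hy =>
        rcases hy with hy | hy
        · obtain ⟨a, rfl⟩ := (hr₁ _).1 hy; exact ⟨a, 1, by simp⟩
        · obtain ⟨a, rfl⟩ := (hr₂ _).1 hy; exact ⟨1, a, by simp⟩
      | one => exact ⟨1, 1, by simp⟩
      | mul x y _ _ hx hy =>
        obtain ⟨a, b, rfl⟩ := hx
        obtain ⟨c, d, rfl⟩ := hy
        refine ⟨a * c, b * d, ?_⟩
        calc f₁ (a * c) * f₂ (b * d) = f₁ a * (f₁ c * f₂ b) * f₂ d := by simp [mul_assoc]
          _ = _ := by rw [hcomm]; simp [mul_assoc]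
      | inv x _ hx =>
        obtain ⟨a, b, rfl⟩ := hx
        exact ⟨a⁻¹, b⁻¹, by rw [hcomm, map_inv, map_inv, mul_inv_rev]⟩
    · rintro ⟨a, b, rfl⟩
      exact Subgroup.mul_mem _ (mem_sup_left ((hr₁ _).2 ⟨a, rfl⟩)) (mem_sup_right ((hr₂ _).2 ⟨b, rfl⟩))
  -- the quaternion part
  let R : Subgroup G :=
    { carrier := {x | ∃ a b, a ^ 4 = 1 ∧ b ^ 4 = 1 ∧ f₁ a * f₂ b = x}
      one_mem' := ⟨1, 1, one_pow 4, one_pow 4, by simp⟩
      mul_mem' := by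
        rintro _ _ ⟨a, b, ha, hb, rfl⟩ ⟨c, d, hc, hd, rfl⟩
        refine ⟨a * c, b * d, quat_mul a c ha hc, quat_mul b d hb hd, ?_⟩
        calc f₁ (a * c) * f₂ (b * d) = f₁ a * (f₁ c * f₂ b) * f₂ d := by simp [mul_assoc]
          _ = _ := by rw [hcomm]; simp [mul_assoc]
      inv_mem' := by
        rintro _ ⟨a, b, ha, hb, rfl⟩
        exact ⟨a⁻¹, b⁻¹, by rw [inv_pow, ha, inv_one], by rw [inv_pow, hb, inv_one],
          by rw [hcomm, map_inv, map_inv, mul_inv_rev]⟩ }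
  have hpow : ∀ a b (n : ℕ), (f₁ a * f₂ b) ^ n = f₁ (a ^ n) * f₂ (b ^ n) := fun a b n => by
    rw [map_pow, map_pow]; exact Commute.mul_pow (hcomm a b) n
  have hR : ∀ x, x ∈ Q ↔ x ∈ R := by
    have hRQ : R ≤ Q := by
      refine hmax R ?_ ?_ ?_
      · rintro _ ⟨a, b, -, -, rfl⟩; exact (hK _).2 ⟨a, b, rfl⟩
      · have key : ∀ x ∈ H₁ ⊔ H₂, ∀ y ∈ R, x * y * x⁻¹ ∈ R := by
          intro x hx y hy
          obtain ⟨c, d, rfl⟩ := (hK x).1 hx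
          obtain ⟨a, b, ha, hb, rfl⟩ := hy
          refine ⟨c * a * c⁻¹, d * b * d⁻¹, quat_conj c a ha, quat_conj d b hb, ?_⟩
          symm
          calc f₁ c * f₂ d * (f₁ a * f₂ b) * (f₁ c * f₂ d)⁻¹
              = f₁ c * (f₂ d * f₁ a) * (f₂ b * (f₂ d)⁻¹) * (f₁ c)⁻¹ := by simp [mul_assoc]
            _ = f₁ (c * a) * (f₂ (d * b * d⁻¹) * f₁ c⁻¹) := by
                rw [← hcomm]; simp [mul_assoc]
            _ = f₁ (c * a * c⁻¹) * f₂ (d * b * d⁻¹) := by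
                rw [← hcomm, ← mul_assoc, ← map_mul]
        intro x hx
        rw [mem_normalizer_iff]
        intro y
        refine ⟨key x hx y, fun hy => ?_⟩
        have := key _ (inv_mem hx) _ hy
        simpa [mul_assoc] using this
      · rintro ⟨_, a, b, ha, hb, rfl⟩
        refine ⟨2, Subtype.ext ?_⟩
        show (f₁ a * f₂ b) ^ (2 ^ 2) = 1
        rw [hpow, show 2 ^ 2 = 4 from rfl, ha, hb]; simp
    intro x
    refine ⟨fun hx => ?_, fun hx => hRQ hx⟩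
    obtain ⟨a, b, rfl⟩ := (hK x).1 (hQK hx)
    obtain ⟨k, hk⟩ := h.twoQ ⟨_, hx⟩
    have hk' : (f₁ a * f₂ b) ^ (2 ^ k) = 1 := congrArg Subtype.val hk
    rw [hpow, mul_eq_one_iff_eq_inv, ← map_inv] at hk'
    have h8 : ∀ u : SL, (u ^ 2 ^ k = 1 ∨ u ^ 2 ^ k = -1) → u ^ 4 = 1 := by
      intro u hu
      have h1 : u ^ (2 ^ (k + 1)) = 1 := by
        rw [pow_succ, pow_mul]
        rcases hu with e | e <;> rw [e]
        · exact one_pow 2
        · rw [pow_two]; exact neg_one_sq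
      refine quat_of_eight u (orderOf_dvd_iff_pow_eq_one.1 ?_)
      have d1 := orderOf_dvd_of_pow_eq_one h1
      have d2 : orderOf u ∣ 24 := card_SL ▸ orderOf_dvd_natCard u
      obtain ⟨m, hm, hmeq⟩ := (Nat.dvd_prime_pow Nat.prime_two).1 d1
      rw [hmeq] at d2 ⊢
      have h3 : m ≤ 3 := by
        by_contra hlt
        have h16 : (2 : ℕ) ^ 4 ∣ 24 := dvd_trans (pow_dvd_pow 2 (by omega : 4 ≤ m)) d2
        norm_num at h16
      exact pow_dvd_pow 2 h3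
    refine ⟨a, b, h8 a ?_, h8 b ?_, rfl⟩
    · rcases hmeet' _ _ hk' with ⟨e, -⟩ | ⟨e, -⟩
      · exact Or.inl e
      · exact Or.inr e
    · rcases hmeet' _ _ hk' with ⟨-, e⟩ | ⟨-, e⟩
      · exact Or.inl (inv_eq_one.1 e)
      · refine Or.inr ?_
        rw [← inv_inv (b ^ 2 ^ k), e]
        exact inv_eq_of_mul_eq_one_right neg_one_sq
  exact ⟨{
    ψ₁ := f₁
    ψ₂ := f₂
    comm := hcomm
    inj₁ := hi₁
    inj₂ := hi₂
    z₁ := hz₁
    z₂ := hz₂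
    meet := hmeet'
    mem_cent := fun a b => Subgroup.mul_mem _ (hle₁ ((hr₁ _).2 ⟨a, rfl⟩)) (hle₂ ((hr₂ _).2 ⟨b, rfl⟩))
    conj_mem := fun c hc a b => by
      obtain ⟨a', b', e⟩ := (hK _).1 ((mem_normalizer_iff.1 (hN hc) _).1 ((hK _).2 ⟨a, b, rfl⟩))
      exact ⟨a', b', e.symm⟩
    memQ := hR }⟩

namespace Coord

variable (C : Coord G z Q)

/-- the product map -/
def ψ (a b : SL) : G := C.ψ₁ a * C.ψ₂ b

theorem ψ_mul (a b c d : SL) : C.ψ a b * C.ψ c d = C.ψ (a * c) (b * d) := by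
  simp only [ψ, map_mul]
  rw [mul_assoc, ← mul_assoc (C.ψ₂ b), ← C.comm]
  simp [mul_assoc]

theorem ψ_one : C.ψ 1 1 = 1 := by simp [ψ]

theorem ψ_inv (a b : SL) : (C.ψ a b)⁻¹ = C.ψ a⁻¹ b⁻¹ := by
  simp only [ψ, map_inv, mul_inv_rev]
  rw [← map_inv, ← map_inv]
  exact (C.comm _ _).symm

theorem neg_eq (a : SL) : -a = a * -1 := (mul_neg_one a).symm

theorem ψ_negneg (a b : SL) : C.ψ (-a) (-b) = C.ψ a b := by
  have hz : z * z = 1 := by rw [← C.z₁, ← map_mul, neg_one_sq, map_one]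
  rw [neg_eq a, neg_eq b, ← C.ψ_mul]
  simp only [ψ, C.z₁, C.z₂, hz, mul_one]

theorem ψ_z₁ : C.ψ (-1) 1 = z := by simp [ψ, C.z₁]

theorem ψ_z₂ : C.ψ 1 (-1) = z := by simp [ψ, C.z₂]

theorem mul_z_left (a b : SL) : C.ψ a b * z = C.ψ (-a) b :=
  (congrArg (C.ψ a b * ·) C.ψ_z₁.symm).trans (by rw [C.ψ_mul, mul_one, mul_neg_one])

theorem mul_z_right (a b : SL) : C.ψ a b * z = C.ψ a (-b) :=
  (congrArg (C.ψ a b * ·) C.ψ_z₂.symm).trans (by rw [C.ψ_mul, mul_one, mul_neg_one])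

theorem ψ_eq_one {a b : SL} (h : C.ψ a b = 1) : (a = 1 ∧ b = 1) ∨ (a = -1 ∧ b = -1) := by
  rcases C.meet a b⁻¹ (by rw [map_inv]; exact mul_eq_one_iff_eq_inv.1 h) with ⟨h1, h2⟩ | ⟨h1, h2⟩
  · exact Or.inl ⟨h1, inv_eq_one.1 h2⟩
  · refine Or.inr ⟨h1, ?_⟩
    rw [← inv_inv b, h2]
    exact inv_eq_of_mul_eq_one_right neg_one_sq

theorem ψ_eq {a b c d : SL} (h : C.ψ a b = C.ψ c d) :
    (a = c ∧ b = d) ∨ (a = -c ∧ b = -d) := by
  have h1 : C.ψ (c⁻¹ * a) (d⁻¹ * b) = 1 := by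
    rw [← C.ψ_mul, ← C.ψ_inv, h, inv_mul_cancel]
  rcases C.ψ_eq_one h1 with ⟨p, q⟩ | ⟨p, q⟩
  · exact Or.inl ⟨(inv_mul_eq_one.1 p).symm, (inv_mul_eq_one.1 q).symm⟩
  · exact Or.inr ⟨by rw [← mul_inv_cancel_left c a, p, mul_neg_one],
      by rw [← mul_inv_cancel_left d b, q, mul_neg_one]⟩

theorem mem_Q_iff (a b : SL) : C.ψ a b ∈ Q ↔ a ^ 4 = 1 ∧ b ^ 4 = 1 := by
  constructor
  · intro h
    obtain ⟨c, d, hc, hd, e⟩ := (C.memQ _).1 h
    rcases C.ψ_eq (show C.ψ c d = C.ψ a b from e) with ⟨p, q⟩ | ⟨p, q⟩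
    · exact ⟨p ▸ hc, q ▸ hd⟩
    · refine ⟨?_, ?_⟩
      · rw [← Even.neg_pow (by decide : Even 4), ← p, hc]
      · rw [← Even.neg_pow (by decide : Even 4), ← q, hd]
  · rintro ⟨ha, hb⟩
    exact (C.memQ _).2 ⟨a, b, ha, hb, rfl⟩

/-- an involution of `Q` other than `z` has two components of order four -/
theorem invol_parts {a b : SL} (ha : a ^ 4 = 1) (hb : b ^ 4 = 1)
    (h2 : C.ψ a b * C.ψ a b = 1) (h1 : C.ψ a b ≠ 1) (hz : C.ψ a b ≠ z) :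
    a * a = -1 ∧ b * b = -1 := by
  rw [C.ψ_mul] at h2
  rcases C.ψ_eq_one h2 with ⟨p, q⟩ | ⟨p, q⟩
  · exfalso
    rcases invol_unique a p with rfl | rfl <;> rcases invol_unique b q with rfl | rfl
    · exact h1 C.ψ_one
    · exact hz C.ψ_z₂
    · exact hz C.ψ_z₁
    · exact h1 (by rw [C.ψ_negneg, C.ψ_one])
  · exact ⟨p, q⟩

end Coord

end CfsgLib.U43Type.Shape
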