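import Cfsg.Agent.Lib.U43Type.Defs

/-!
# S5390 / S5391: finite facts about `SL₂(3)` for the shape of the centraliser
-/

set_option autoImplicit false
set_option maxRecDepth 100000

namespace CfsgLib.U43Type.Shape

/-- `SL₂(3)` -/
abbrev SL : Type := Matrix.SpecialLinearGroup (Fin 2) (ZMod 3)

/-- The entries of the 24 matrices, as digits to the base three. -/
def entries : List ℕ := [15, 16, 17, 21, 22, 23, 28, 31, 34, 37, 41, 42, 46, 48, 53, 56, 59, 62, 65, 67, 69, 74, 75, 79]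

theorem card_SL : Nat.card SL = 24 := by
  rw [Nat.card_eq_fintype_card]; decide +kernel

theorem neg_one_ne : (-1 : SL) ≠ 1 := by decide +kernel

theorem neg_one_sq : (-1 : SL) * -1 = 1 := by decide +kernel

theorem invol_unique : ∀ u : SL, u * u = 1 → u = 1 ∨ u = -1 := by decide +kernel

theorem squares : ∀ u : SL, ∃ v w : SL, u = v * v * (w * w) := by decide +kernel

theorem quat_mul : ∀ u v : SL, u ^ 4 = 1 → v ^ 4 = 1 → (u * v) ^ 4 = 1 := by decide +kernel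

theorem quat_conj : ∀ u v : SL, v ^ 4 = 1 → (u * v * u⁻¹) ^ 4 = 1 := by decide +kernel

theorem quat_of_eight : ∀ u : SL, u ^ 8 = 1 → u ^ 4 = 1 := by decide +kernel

theorem quat_sq : ∀ u : SL, u ^ 4 = 1 → u * u = 1 ∨ u * u = -1 := by decide +kernel

theorem sq_neg : ∀ u : SL, u * u = -1 → u ^ 4 = 1 ∧ u ≠ 1 ∧ u ≠ -1 := by decide +kernel

theorem quat_gen : ∃ i j : SL, i * i = -1 ∧ j * j = -1 ∧ i * j * (i * j) = -1 ∧
    ∀ u : SL, u ^ 4 = 1 → u = 1 ∨ u = -1 ∨ u = i ∨ u = -i ∨ u = j ∨ u = -j ∨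
      u = i * j ∨ u = -(i * j) := by decide +kernel

theorem cent_quat : ∀ u : SL, (∀ v : SL, v * v = -1 → u * v = v * u) → u = 1 ∨ u = -1 := by
  decide +kernel

theorem quat_comm : ∀ u v : SL, u ^ 4 = 1 → v ^ 4 = 1 → u * v = v * u ∨ u * v = -(v * u) := by
  decide +kernel

theorem anti : ∀ u : SL, u * u = -1 → ∃ v : SL, v * v = -1 ∧ u * v = -(v * u) ∧
    u * v * (u * v) = -1 := by decide +kernel

theorem comm_quat : ∀ u v : SL, u * u = -1 → v ^ 4 = 1 → u * v = v * u →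
    v = 1 ∨ v = -1 ∨ v = u ∨ v = -u := by decide +kernel

/-- conjugation by `diag (1, -1)`, as a function -/
def θf (u : SL) : SL :=
  ⟨!![(u : Matrix (Fin 2) (Fin 2) (ZMod 3)) 0 0, -(u : Matrix (Fin 2) (Fin 2) (ZMod 3)) 0 1;
    -(u : Matrix (Fin 2) (Fin 2) (ZMod 3)) 1 0, (u : Matrix (Fin 2) (Fin 2) (ZMod 3)) 1 1], by
      have h := u.2
      rw [Matrix.det_fin_two] at h
      rw [Matrix.det_fin_two]
      simp only [Matrix.of_apply, Matrix.cons_val', Matrix.cons_val_zero, Matrix.cons_val_one,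
        Matrix.cons_val_fin_one]
      rw [neg_mul_neg]
      exact h⟩

theorem θf_mul : ∀ u v : SL, θf (u * v) = θf u * θf v := by decide +kernel

theorem θf_one : θf 1 = 1 := by decide +kernel

/-- conjugation by `diag (1, -1)` -/
def θ : SL →* SL where
  toFun := θf
  map_one' := θf_one
  map_mul' := θf_mul

theorem θ_θ : ∀ u : SL, θ (θ u) = u := by decide +kernel

theorem θ_neg : θ (-1) = -1 := by decide +kernel

/-- first generator -/
def gs : SL := ⟨!![1, 1; 0, 1], by decide⟩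

/-- second generator -/
def gr : SL := ⟨!![1, 0; 1, 1], by decide⟩

theorem gen_cases : ∀ a b : SL,
    (a ^ 3 = 1 ∧ a ≠ 1 ∧ b ^ 3 = 1 ∧ b ≠ 1 ∧ a * b * (a * b) = -1) →
    ∃ u : SL, (u * gs * u⁻¹ = a ∧ u * gr * u⁻¹ = b) ∨
      (u * θf gs * u⁻¹ = a ∧ u * θf gr * u⁻¹ = b) := by decide +kernel

theorem gs_spec : gs ^ 3 = 1 ∧ gs ≠ 1 ∧ gr ^ 3 = 1 ∧ gr ≠ 1 ∧ gs * gr * (gs * gr) = -1 := by
  decide +kernel

/-- products of few generators -/
theorem gen_words : ∀ u : SL, ∃ a b c d e : Fin 3,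
    u = gs ^ a.val * gr ^ b.val * gs ^ c.val * gr ^ d.val * gs ^ e.val := by decide +kernel

theorem inner_fix : ∀ u b k : SL, b * b = -1 → k * k = -1 → b * k = -(k * b) →
    (u * b * u⁻¹ = b ∨ u * b * u⁻¹ = -b) → u * k * u⁻¹ = k ∨ u * k * u⁻¹ = -k := by decide +kernel

theorem outer_move : ∀ u b k : SL, (b * b = -1 ∧ k * k = -1 ∧ b * k = -(k * b) ∧
    (u * θf b * u⁻¹ = b ∨ u * θf b * u⁻¹ = -b)) → u * θf k * u⁻¹ ≠ k ∧ u * θf k * u⁻¹ ≠ -k := by
  decide +kernel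

/-- the matrix with the given code -/
def mat (i : ℕ) : Matrix (Fin 2) (Fin 2) (ZMod 3) :=
  let n := entries.getD i 0
  !![(n / 27 : ℕ), (n / 9 % 3 : ℕ); (n / 3 % 3 : ℕ), (n % 3 : ℕ)]

/-- the element with the given code -/
def slC (i : ℕ) : SL := if h : (mat i).det = 1 then ⟨mat i, h⟩ else 1

theorem slC_mul : ∀ a < 24, ∀ b < 24, mm a b < 24 ∧ slC (mm a b) = slC a * slC b := by
  decide +kernel

theorem slC_th : ∀ a < 24, tab5 thTab a < 24 ∧ slC (tab5 thTab a) = θ (slC a) := by decide +kernel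

theorem slC_neg : ∀ a < 24, tab5 negTab a < 24 ∧ slC (tab5 negTab a) = -slC a := by decide +kernel

theorem slC_surj : ∀ u : SL, ∃ a < 24, slC a = u := by decide +kernel

theorem slC_quat : ∀ a < 24, (quatBits.testBit a = true ↔ slC a ^ 4 = 1) := by decide +kernel

theorem pos_lt : ∀ k < 12, tab5 posTab k < 24 := by decide +kernel

theorem pos_spec : ∀ a < 24,
    (tab5 posIdx a = 0 ∧ 0 < tab5 posIdx (tab5 negTab a) ∧ tab5 posIdx (tab5 negTab a) ≤ 12 ∧
      tab5 posTab (tab5 posIdx (tab5 negTab a) - 1) = tab5 negTab a) ∨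
    (0 < tab5 posIdx a ∧ tab5 posIdx a ≤ 12 ∧ tab5 posTab (tab5 posIdx a - 1) = a) := by
  decide +kernel

theorem code_one : slC 6 = 1 ∧ slC 15 = -1 ∧ tab5 posTab 3 = 6 := by decide +kernel

end CfsgLib.U43Type.Shape
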