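import Cfsg.Agent.Lib.U43Type.SwapTools

/-!
# S5390 / S5391, piece P2: the parameters and the exchange of `z` and `e`

The images of two involutions of `C_Q(e)` and their images determine the model.  The exchange of
the two elementary abelian groups of order 16 is excluded by Burnside's fusion argument in the
Sylow 2-subgroup normalising both.
-/

set_option autoImplicit false

namespace CfsgLib.U43Type.SwapP2

open Subgroup
open scoped Pointwise

universe u

variable {G : Type u} [Group G] {z : G} {Q : Subgroup G} {ε δ : Bool}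

/-- the conjugation by an exchanging element preserves the centraliser of `z` and `e` -/
theorem img_exists (E : Emb ε δ z Q) {g : G} (hg : Exch E g) {n : ℕ} (hn : n ∈ cList) :
    ∃ m ∈ cList, Img E g n m := by
  obtain ⟨hlt, -, -⟩ := cList_spec ε δ hn
  obtain ⟨m, hm, h⟩ := code_cent E (x := g * E.φ n * g⁻¹) (by
      calc g * E.φ n * g⁻¹ * z = g * (E.φ n * E.φ eC) * g⁻¹ := by
            conv_lhs => arg 2; rw [← hg.ge]
            group
        _ = g * (E.φ eC * E.φ n) * g⁻¹ := by rw [comm_e E hn]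
        _ = z * (g * E.φ n * g⁻¹) := by
            conv_rhs => arg 1; rw [← hg.ge]
            group) (by
      calc g * E.φ n * g⁻¹ * E.φ eC = g * (E.φ n * z) * g⁻¹ := by rw [← hg.gz]; group
        _ = g * (z * E.φ n) * g⁻¹ := by rw [comm_z E hlt]
        _ = E.φ eC * (g * E.φ n * g⁻¹) := by rw [← hg.gz]; group)
  exact ⟨m, hm, h.symm⟩

theorem img_sig (E : Emb ε δ z Q) {g : G} (hg : Exch E g) {c : ℕ} (hc : c ∈ xList) :
    Img E g c (sig c) := by
  have h1 : Img E g zC eC := by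
    show g * E.φ zC * g⁻¹ = _
    rw [E.map_z, hg.gz]
  have h2 : Img E g eC zC := by
    show g * E.φ eC * g⁻¹ = _
    rw [E.map_z, hg.ge]
  simp only [xList, List.mem_cons, List.not_mem_nil, or_false] at hc
  rcases hc with rfl | rfl | rfl | rfl
  · show g * E.φ oneC * g⁻¹ = E.φ oneC
    rw [emb_one E]; group
  · exact h1
  · exact h2
  · show g * E.φ 12 * g⁻¹ = E.φ 12
    rw [← (base_facts ε δ).2.2.2.1, E.map_mul _ _ (by decide) (by decide)]
    have hsplit : g * (E.φ zC * E.φ eC) * g⁻¹ = g * E.φ zC * g⁻¹ * (g * E.φ eC * g⁻¹) := by group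
    rw [hsplit, (h1 : g * _ * g⁻¹ = _), (h2 : g * _ * g⁻¹ = _), E.map_z, comm_z E (by decide)]

theorem img_unique (E : Emb ε δ z Q) {g : G} {n m m' : ℕ} (hm : m < 1152) (hm' : m' < 1152)
    (h : Img E g n m) (h' : Img E g n m') : m = m' := E.inj _ _ hm hm' (h.symm.trans h')

theorem img_inj (E : Emb ε δ z Q) {g : G} {n n' m : ℕ} (hn : n < 1152) (hn' : n' < 1152)
    (h : Img E g n m) (h' : Img E g n' m) : n = n' :=
  E.inj _ _ hn hn' (mul_left_cancel (mul_right_cancel (h.trans h'.symm)))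

theorem img_mul (E : Emb ε δ z Q) {g : G} {a b x y : ℕ} (ha : a < 1152) (hb : b < 1152)
    (hx : x < 1152) (hy : y < 1152) (h : Img E g a x) (h' : Img E g b y) :
    Img E g (hmul ε δ a b) (hmul ε δ x y) := by
  show g * _ * g⁻¹ = _
  rw [E.map_mul a b ha hb, E.map_mul x y hx hy, ← (h : g * _ * g⁻¹ = _), ← (h' : g * _ * g⁻¹ = _)]
  group

/-- the intersection of `Q` with its conjugate -/
theorem meet (E : Emb ε δ z Q) (hyp : Hyp G z Q) {g : G} (hg : Exch E g) {x : G} (hx : x ∈ Q)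
    (hx' : g⁻¹ * x * g ∈ Q) : ∃ c ∈ xList, E.φ c = x := by
  have hez : E.φ eC ≠ z := fun h => absurd
    (E.inj eC zC (by decide) (by decide) (by rw [h, E.map_z])) (by decide)
  have hcard : Nat.card ↥(Q ⊓ Q.map (MulAut.conj g).toMonoidHom) = 4 :=
    hyp.inter g (by rw [hg.gz]; exact e_mem_Q E) (by rw [hg.gz]; exact hez)
  have hmem : ∀ y, y ∈ Q → g⁻¹ * y * g ∈ Q →
      y ∈ Q ⊓ Q.map (MulAut.conj g).toMonoidHom := fun y hy hy' =>
    ⟨hy, mem_map.2 ⟨_, hy', by simp [mul_assoc]⟩⟩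
  have hfin : ((Q ⊓ Q.map (MulAut.conj g).toMonoidHom : Subgroup G) : Set G).Finite :=
    Set.finite_coe_iff.1 (Nat.finite_of_card_ne_zero
      (by rw [SetLike.coe_sort_coe, hcard]; norm_num))
  have heq : E.φ '' {c | c ∈ xList} =
      ((Q ⊓ Q.map (MulAut.conj g).toMonoidHom : Subgroup G) : Set G) := by
    refine Set.eq_of_subset_of_ncard_le ?_ ?_ hfin
    · rintro _ ⟨c, hc, rfl⟩
      obtain ⟨hd, hs, hss⟩ := xList_sub hc
      obtain ⟨hl, hq, -⟩ := dList_spec ε δ hd
      refine hmem _ ((E.mem_Q c hl).2 hq) ?_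
      have h := img_sig E hg hs
      rw [hss] at h
      rw [← (h : g * _ * g⁻¹ = _)]
      obtain ⟨hl', hq', -⟩ := dList_spec ε δ (xList_sub hs).1
      simpa [mul_assoc] using (E.mem_Q (sig c) hl').2 hq'
    · rw [← Nat.card_coe_set_eq, SetLike.coe_sort_coe, hcard, Set.InjOn.ncard_image]
      · have : {c | c ∈ xList} = ((xList.toFinset : Finset ℕ) : Set ℕ) := by ext; simp
        rw [this, Set.ncard_coe_finset]
        decide
      · intro a ha b hb h
        exact E.inj a b (dList_spec ε δ (xList_sub ha).1).1 (dList_spec ε δ (xList_sub hb).1).1 h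
  obtain ⟨c, hc, h⟩ := (Set.ext_iff.1 heq x).2 (hmem x hx hx')
  exact ⟨c, hc, h⟩

/-- the square of `g` normalises `Q` -/
theorem sq_conj (E : Emb ε δ z Q) (hyp : Hyp G z Q) {g : G} (hg : Exch E g) {x : G} (hx : x ∈ Q) :
    g * (g * x * g⁻¹) * g⁻¹ ∈ Q := by
  have h : g * g ∈ centralizer ({z} : Set G) := by
    rw [mem_centralizer_singleton_iff]
    calc g * g * z = g * (g * z * g⁻¹) * g⁻¹ * (g * g) := by group
      _ = z * (g * g) := by rw [hg.gz, hg.ge]
  have := (mem_normalizer_iff.1 (hyp.nQ h) x).1 hx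
  convert this using 1
  group

/-- the four images -/
structure Quad (E : Emb ε δ z Q) (g : G) (u v a b : ℕ) : Prop where
  hu : u ∈ cList
  hv : v ∈ cList
  ha : a ∈ dList
  hb : b ∈ dList
  iu : Img E g 728 u
  iv : Img E g 712 v
  ia : Img E g u a
  ib : Img E g v b

theorem cond_u (E : Emb ε δ z Q) (hyp : Hyp G z Q) {g : G} (hg : Exch E g) {n u : ℕ}
    (hn : n ∈ dList) (hnx : n ∉ xList) (hsq : hmul ε δ n n = oneC) (hu : u ∈ cList)
    (iu : Img E g n u) : condU ε δ u = true := by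
  obtain ⟨hnl, hnq, -⟩ := dList_spec ε δ hn
  obtain ⟨hul, -, -⟩ := cList_spec ε δ hu
  have hpre : g⁻¹ * E.φ u * g = E.φ n := by rw [← (iu : g * _ * g⁻¹ = _)]; group
  simp only [condU, Bool.and_eq_true, Bool.not_eq_true', List.contains_eq_mem,
    decide_eq_false_iff_not, beq_iff_eq, List.all_eq_true, List.any_eq_true]
  refine ⟨⟨?_, ?_⟩, ?_⟩
  · intro hud
    obtain ⟨c, hc, hcu⟩ := meet E hyp hg ((E.mem_Q u hul).2 (dList_spec ε δ hud).2.1)
      (by rw [hpre]; exact (E.mem_Q n hnl).2 hnq)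
    obtain ⟨hcd, hs, hss⟩ := xList_sub hc
    have hcl := (dList_spec ε δ hcd).1
    obtain rfl := E.inj _ _ hcl hul hcu
    have h := img_sig E hg hs
    rw [hss] at h
    obtain rfl := img_inj E hnl (dList_spec ε δ (xList_sub hs).1).1 iu h
    exact hnx hs
  · refine img_unique E (hmul_lt ε δ hul hul) (by decide) (img_mul E hnl hnl hul hul iu iu) ?_
    rw [hsq]
    show g * E.φ oneC * g⁻¹ = E.φ oneC
    rw [emb_one E]; group
  · intro d hd
    obtain ⟨hdl, hdq, hdc⟩ := dList_spec ε δ hd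
    have hdQ := (E.mem_Q d hdl).2 hdq
    have hgd : g⁻¹ * E.φ d * g ∈ centralizer ({z} : Set G) := by
      rw [mem_centralizer_singleton_iff]
      calc g⁻¹ * E.φ d * g * z = g⁻¹ * (E.φ d * E.φ eC) * g := by rw [← hg.gz]; group
        _ = g⁻¹ * (E.φ eC * E.φ d) * g := by rw [comm_e E hdc]
        _ = z * (g⁻¹ * E.φ d * g) := by rw [← hg.gz]; group
    obtain ⟨x, hx, hxeq⟩ := meet E hyp hg (x := E.φ d * E.φ u * (E.φ d)⁻¹ * (E.φ u)⁻¹) (by
        have h := (mem_normalizer_iff.1 (hyp.nQ ((E.mem_cent _).2 ⟨u, hul, rfl⟩)) _).1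
          (inv_mem hdQ)
        have h2 := mul_mem hdQ h
        simpa [mul_assoc] using h2) (by
        have hq : E.φ n ∈ Q := (E.mem_Q n hnl).2 hnq
        have h := (mem_normalizer_iff.1 (hyp.nQ hgd) _).1 hq
        have h2 := mul_mem h (inv_mem hq)
        convert h2 using 1
        rw [← hpre]; group)
    have hxl := (dList_spec ε δ (xList_sub hx).1).1
    refine ⟨x, hx, code_eq₃ E hdl hul hxl hul hdl ?_⟩
    rw [hxeq]; group

theorem cond_rel (E : Emb ε δ z Q) {g : G} (hg : Exch E g) {p q x y : ℕ} (hp : p < 1152)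
    (hq : q < 1152) (hx : x < 1152) (hy : y < 1152) (hpx : Img E g p x) (hqy : Img E g q y) :
    condRel ε δ p q x y = true := by
  simp only [condRel, List.all_eq_true, Bool.or_eq_true, Bool.not_eq_true', beq_eq_false_iff_ne,
    beq_iff_eq]
  intro c hc
  obtain ⟨hcd, hs, -⟩ := xList_sub hc
  have hcl := (dList_spec ε δ hcd).1
  have hsl := (dList_spec ε δ (xList_sub hs).1).1
  by_cases h : hmul ε δ p q = hmul ε δ c (hmul ε δ q p)
  · refine Or.inr (code_eq₃ E hx hy hsl hy hx ?_)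
    have h' := mul_eq₃ E hp hq hcl hq hp h
    rw [← (hpx : g * _ * g⁻¹ = _), ← (hqy : g * _ * g⁻¹ = _),
      ← (img_sig E hg hc : g * _ * g⁻¹ = _)]
    have h'' : g * (E.φ p * E.φ q) * g⁻¹ = g * (E.φ c * (E.φ q * E.φ p)) * g⁻¹ := by rw [h']
    simpa [mul_assoc] using h''
  · exact Or.inl h

theorem cond_a (E : Emb ε δ z Q) (hyp : Hyp G z Q) {g : G} (hg : Exch E g) {n u a : ℕ}
    (hn : n ∈ dList) (hu : u ∈ cList) (hud : u ∉ dList) (husq : hmul ε δ u u = oneC)
    (ha : a ∈ cList) (iu : Img E g n u) (ia : Img E g u a) :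
    a ∈ dList ∧ condA ε δ a = true := by
  obtain ⟨hnl, hnq, -⟩ := dList_spec ε δ hn
  obtain ⟨hul, -, -⟩ := cList_spec ε δ hu
  obtain ⟨hal, -, haq⟩ := cList_spec ε δ ha
  have haQ : E.φ a ∈ Q := by
    have := sq_conj E hyp hg ((E.mem_Q n hnl).2 hnq)
    rwa [(iu : g * _ * g⁻¹ = _), (ia : g * _ * g⁻¹ = _)] at this
  have had := haq ((E.mem_Q a hal).1 haQ)
  refine ⟨had, ?_⟩
  simp only [condA, Bool.and_eq_true, Bool.not_eq_true', List.contains_eq_mem,
    decide_eq_false_iff_not, decide_eq_true_eq, beq_iff_eq]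
  refine ⟨⟨had, fun hax => ?_⟩, ?_⟩
  · obtain ⟨-, hs, hss⟩ := xList_sub hax
    have h := img_sig E hg hs
    rw [hss] at h
    obtain rfl := img_inj E hul (dList_spec ε δ (xList_sub hs).1).1 ia h
    exact hud (xList_sub hs).1
  · refine img_unique E (hmul_lt ε δ hal hal) (by decide) (img_mul E hul hul hal hal ia ia) ?_
    rw [husq]
    show g * E.φ oneC * g⁻¹ = E.φ oneC
    rw [emb_one E]; group

/-- the model is the one of `U₄(3)` -/
theorem search (E : Emb ε δ z Q) (hyp : Hyp G z Q) {g : G} (hg : Exch E g) :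
    (ε = true ∧ δ = true) ∧ ∃ u v a b, Quad E g u v a b ∧ concl u v a b = true := by
  have h1 : 728 ∈ dList := by decide
  have h2 : 712 ∈ dList := by decide
  obtain ⟨hl1, -, hc1⟩ := dList_spec ε δ h1
  obtain ⟨hl2, -, hc2⟩ := dList_spec ε δ h2
  obtain ⟨-, -, -, -, hs1, hs2, hcom⟩ := base_facts ε δ
  obtain ⟨u, hu, iu⟩ := img_exists E hg hc1
  obtain ⟨v, hv, iv⟩ := img_exists E hg hc2
  have cu := cond_u E hyp hg h1 (by decide) hs1 hu iu
  have cv := cond_u E hyp hg h2 (by decide) hs2 hv iv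
  obtain ⟨a, ha, ia⟩ := img_exists E hg hu
  obtain ⟨b, hb, ib⟩ := img_exists E hg hv
  have hu' := cu
  have hv' := cv
  simp only [condU, Bool.and_eq_true, Bool.not_eq_true', List.contains_eq_mem,
    decide_eq_false_iff_not, beq_iff_eq] at hu' hv'
  obtain ⟨had, ca⟩ := cond_a E hyp hg h1 hu hu'.1.1 hu'.1.2 ha iu ia
  obtain ⟨hbd, cb⟩ := cond_a E hyp hg h2 hv hv'.1.1 hv'.1.2 hb iv ib
  have hul := (cList_spec ε δ hu).1
  have hvl := (cList_spec ε δ hv).1
  have hal := (cList_spec ε δ ha).1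
  have hbl := (cList_spec ε δ hb).1
  have hzl : zC < 1152 := by decide
  have hel : eC < 1152 := by decide
  have iz : Img E g zC eC := img_sig E hg (c := zC) (by decide)
  have ie : Img E g eC zC := img_sig E hg (c := eC) (by decide)
  have huv : hmul ε δ u v = hmul ε δ eC (hmul ε δ v u) := by
    refine img_unique E (hmul_lt ε δ hul hvl) (hmul_lt ε δ hel (hmul_lt ε δ hvl hul))
      (img_mul E hl1 hl2 hul hvl iu iv) ?_
    rw [hcom]
    exact img_mul E hzl (hmul_lt ε δ hl2 hl1) hel (hmul_lt ε δ hvl hul) iz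
      (img_mul E hl2 hl1 hvl hul iv iu)
  have hab : hmul ε δ a b = hmul ε δ zC (hmul ε δ b a) := by
    refine img_unique E (hmul_lt ε δ hal hbl) (hmul_lt ε δ hzl (hmul_lt ε δ hbl hal))
      (img_mul E hul hvl hal hbl ia ib) ?_
    rw [huv]
    exact img_mul E hel (hmul_lt ε δ hvl hul) hzl (hmul_lt ε δ hbl hal) ie
      (img_mul E hvl hul hbl hal ib ia)
  have h := List.all_eq_true.1 (swapCheck_eq ε δ) u hu
  simp only [cu, Bool.not_true, Bool.false_or] at h
  have h := List.all_eq_true.1 h v hv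
  simp only [cv, Bool.not_true, Bool.false_or, beq_iff_eq.2 huv] at h
  have h := List.all_eq_true.1 h a had
  simp only [ca, Bool.not_true, Bool.false_or] at h
  have h := List.all_eq_true.1 h b hbd
  simp only [cb, beq_iff_eq.2 hab, cond_rel E hg hl1 hul hul hal iu ia,
    cond_rel E hg hl1 hvl hul hbl iu ib, cond_rel E hg hl2 hul hvl hal iv ia,
    cond_rel E hg hl2 hvl hvl hbl iv ib, Bool.not_true, Bool.false_or, Bool.and_eq_true] at h
  exact ⟨h.1, u, v, a, b, ⟨hu, hv, had, hbd, iu, iv, ia, ib⟩, h.2⟩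

/-- images of a product of three generators -/
theorem gen_img (E : Emb true true z Q) {g : G} (hg : Exch E g) {L : List ℕ} {p q p' q' : ℕ}
    (hp : p < 1152) (hq : q < 1152) (hp' : p' < 1152) (hq' : q' < 1152) (ip : Img E g p p')
    (iq : Img E g q q') (hL : ∀ m ∈ L, ∀ n ∈ L, hm m n ∈ L) (hxL : ∀ c ∈ xList, c ∈ L)
    (hpL : p' ∈ L) (hqL : q' ∈ L) {n : ℕ}
    (hn : ∃ x ∈ xList, ∃ p₀ ∈ [oneC, p], ∃ q₀ ∈ [oneC, q], n = hm (hm x p₀) q₀) :
    ∃ m ∈ L, Img E g n m := by
  obtain ⟨x, hx, p₀, hp₀, q₀, hq₀, rfl⟩ := hn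
  obtain ⟨hxd, hs, -⟩ := xList_sub hx
  have hxl := (dList_spec true true hxd).1
  have hsl := (dList_spec true true (xList_sub hs).1).1
  have h1 : Img E g oneC oneC := img_sig E hg (c := oneC) (by decide)
  have key : ∀ {r r' : ℕ}, r < 1152 → r' < 1152 → Img E g r r' → r' ∈ L → ∀ r₀ ∈ [oneC, r],
      ∃ r₁ ∈ L, r₀ < 1152 ∧ r₁ < 1152 ∧ Img E g r₀ r₁ := by
    intro r r' hr hr' ir hrL r₀ h₀
    simp only [List.mem_cons, List.not_mem_nil, or_false] at h₀
    rcases h₀ with rfl | rfl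
    · exact ⟨oneC, hxL _ (by decide), by decide, by decide, h1⟩
    · exact ⟨r', hrL, hr, hr', ir⟩
  obtain ⟨p₁, hp₁L, hp₀l, hp₁l, ip₁⟩ := key hp hp' ip hpL p₀ hp₀
  obtain ⟨q₁, hq₁L, hq₀l, hq₁l, iq₁⟩ := key hq hq' iq hqL q₀ hq₀
  exact ⟨hm (hm (sig x) p₁) q₁, hL _ (hL _ (hxL _ hs) _ hp₁L) _ hq₁L,
    img_mul E (hmul_lt true true hxl hp₀l) hq₀l (hmul_lt true true hsl hp₁l) hq₁l
      (img_mul E hxl hp₀l hsl hp₁l (img_sig E hg hx) ip₁) iq₁⟩

/-- the Sylow 2-subgroup of the model -/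
def sylC [Finite G] (E : Emb true true z Q) : Subgroup G where
  carrier := E.φ '' {n | n < 1152 ∧ inS n = true}
  one_mem' := ⟨oneC, ⟨by decide, s_gens.2.1⟩, emb_one E⟩
  mul_mem' := by
    rintro _ _ ⟨m, ⟨hm₀, hm₁⟩, rfl⟩ ⟨n, ⟨hn₀, hn₁⟩, rfl⟩
    refine ⟨hm m n, ⟨hmul_lt true true hm₀ hn₀, ?_⟩, E.map_mul m n hm₀ hn₀⟩
    have h := List.all_eq_true.1 s_mul m (List.mem_range.2 hm₀)
    simp only [hm₁, Bool.not_true, Bool.false_or, List.all_eq_true] at h
    simpa [hn₁] using h n (List.mem_range.2 hn₀)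
  inv_mem' := by
    rintro x ⟨m, ⟨hm₀, hm₁⟩, rfl⟩
    have hpow : ∀ k : ℕ, E.φ m ^ k ∈ E.φ '' {n | n < 1152 ∧ inS n = true} := by
      intro k
      induction k with
      | zero => exact ⟨oneC, ⟨by decide, s_gens.2.1⟩, by rw [emb_one E, pow_zero]⟩
      | succ k ih =>
        obtain ⟨n, ⟨hn₀, hn₁⟩, hn⟩ := ih
        refine ⟨hm n m, ⟨hmul_lt true true hn₀ hm₀, ?_⟩, ?_⟩
        · have h := List.all_eq_true.1 s_mul n (List.mem_range.2 hn₀)
          simp only [hn₁, Bool.not_true, Bool.false_or, List.all_eq_true] at h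
          simpa [hm₁] using h m (List.mem_range.2 hm₀)
        · rw [pow_succ, ← hn]
          exact E.map_mul n m hn₀ hm₀
    obtain ⟨k, hk⟩ : ∃ k : ℕ, E.φ m ^ k = (E.φ m)⁻¹ :=
      ⟨orderOf (E.φ m) - 1, eq_inv_of_mul_eq_one_left (by
        rw [← pow_succ, Nat.sub_add_cancel (orderOf_pos _), pow_orderOf_eq_one])⟩
    rw [← hk]
    exact hpow k

theorem sylC_card [Finite G] (E : Emb true true z Q) : Nat.card (sylC E) = 128 := by
  have hset : {n | n < 1152 ∧ inS n = true} =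
      ((((List.range 1152).filter inS).toFinset : Finset ℕ) : Set ℕ) := by ext; simp
  show Nat.card ↥(E.φ '' {n | n < 1152 ∧ inS n = true}) = 128
  rw [Nat.card_coe_set_eq, Set.InjOn.ncard_image (fun a ha b hb h => E.inj a b ha.1 hb.1 h), hset,
    Set.ncard_coe_finset, List.toFinset_card_of_nodup (List.nodup_range.filter _), s_count]

/-- Burnside's fusion argument -/
theorem no_exchange [Finite G] (E : Emb true true z Q) (hyp : Hyp G z Q) {g : G}
    (hE : ∀ n ∈ elab1, ∃ m ∈ elab2, Img E g n m) : False := by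
  have hlt : ∀ n, n ∈ elab1 ++ elab2 → n < 1152 := by decide
  set S := sylC E with hS
  have hcard : Nat.card S = 128 := sylC_card E
  have hmemz : z ∈ S := ⟨zC, ⟨by decide, s_gens.2.2⟩, E.map_z⟩
  have hSz : ∀ x ∈ S, x * z = z * x := by
    rintro _ ⟨n, ⟨hn, -⟩, rfl⟩
    exact comm_z E hn
  have hcent : ∀ x, x * z = z * x → (∀ y ∈ S, x * y = y * x) → x = 1 ∨ x = z := by
    intro x hxz hx
    obtain ⟨k, hk, rfl⟩ := (E.mem_cent x).1 (mem_centralizer_singleton_iff.2 hxz)
    have h := List.all_eq_true.1 s_cent k (List.mem_range.2 hk)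
    have hall : (sGens.all fun n => hm k n == hm n k) = true := by
      refine List.all_eq_true.2 fun n hn => beq_iff_eq.2 ?_
      have h1 := List.all_eq_true.1 s_gens.1 n hn
      simp only [Bool.and_eq_true, decide_eq_true_eq] at h1
      exact code_eq₂ E hk h1.1 h1.1 hk (hx _ ⟨n, h1, rfl⟩)
    simp only [hall, Bool.not_true, Bool.false_or, Bool.or_eq_true, beq_iff_eq] at h
    rcases h with rfl | rfl
    exacts [Or.inl (emb_one E), Or.inr E.map_z]
  -- it is a Sylow subgroup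
  haveI : Fact (Nat.Prime 2) := ⟨Nat.prime_two⟩
  obtain ⟨P, hSP⟩ := (IsPGroup.of_card (n := 7) (by rw [hcard]; norm_num) : IsPGroup 2 S).exists_le_sylow
  have hPS : (P : Subgroup G) = S := by
    have hPnt : Nontrivial P := by
      refine (Subgroup.nontrivial_iff_exists_ne_one _).2 ⟨z, hSP hmemz, fun h => ?_⟩
      simpa [h] using hyp.ord
    haveI := P.2.center_nontrivial
    obtain ⟨⟨⟨c, hcP⟩, hc⟩, hc1⟩ := exists_ne (1 : center ↥(P : Subgroup G))
    have hcomm : ∀ y ∈ (P : Subgroup G), y * c = c * y := fun y hy =>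
      congrArg Subtype.val (mem_center_iff.1 hc ⟨y, hy⟩)
    have hc2 : c ≠ 1 := fun h => hc1 (Subtype.ext (Subtype.ext h))
    have hcz : c = z := ((hcent c (hcomm z (hSP hmemz)).symm
      (fun y hy => (hcomm y (hSP hy)).symm))).resolve_left hc2
    have hle : (P : Subgroup G) ≤ centralizer ({z} : Set G) := fun y hy =>
      mem_centralizer_singleton_iff.2 (by rw [← hcz]; exact hcomm y hy)
    obtain ⟨k, hk⟩ := IsPGroup.iff_card.1 P.2
    have hd := Subgroup.card_dvd_of_le hle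
    rw [hyp.card, hk, show (1152 : ℕ) = 2 ^ 7 * 9 by norm_num] at hd
    have hk7 : k ≤ 7 := by
      have h2 := (Nat.Coprime.pow_left k (by norm_num : Nat.Coprime 2 9)).dvd_of_dvd_mul_right hd
      exact (Nat.pow_dvd_pow_iff_le_right (by norm_num)).1 h2
    refine (Subgroup.eq_of_le_of_card_ge hSP ?_).symm
    rw [hcard, hk]
    calc 2 ^ k ≤ 2 ^ 7 := Nat.pow_le_pow_right (by norm_num) hk7
      _ = 128 := by norm_num
  -- the two sets and the stabiliser of the second
  set A₁ : Set G := E.φ '' {n | n ∈ elab1} with hA₁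
  set A₂ : Set G := E.φ '' {n | n ∈ elab2} with hA₂
  have hfin : A₂.Finite := (List.finite_toSet elab2).image _
  have hn₁ : A₁.ncard = 16 ∧ A₂.ncard = 16 := by
    have hi : ∀ L : List ℕ, (∀ n ∈ L, n < 1152) → L.Nodup →
        (E.φ '' {n | n ∈ L}).ncard = L.length := by
      intro L hL hnd
      have hio : Set.InjOn E.φ {n | n ∈ L} := fun a ha b hb h => E.inj a b (hL a ha) (hL b hb) h
      rw [hio.ncard_image,
        show {n | n ∈ L} = ((L.toFinset : Finset ℕ) : Set ℕ) by ext; simp, Set.ncard_coe_finset,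
        List.toFinset_card_of_nodup hnd]
    exact ⟨hi elab1 (fun n hn => hlt n (List.mem_append_left _ hn)) (by decide),
      hi elab2 (fun n hn => hlt n (List.mem_append_right _ hn)) (by decide)⟩
  have hgA : (fun x => g * x * g⁻¹) '' A₁ = A₂ := by
    refine Set.eq_of_subset_of_ncard_le ?_ ?_ hfin
    · rintro _ ⟨_, ⟨n, hn, rfl⟩, rfl⟩
      obtain ⟨m, hm', h⟩ := hE n hn
      exact ⟨m, hm', h.symm⟩
    · rw [Set.ncard_image_of_injective _ (fun a b h => mul_left_cancel (mul_right_cancel h)),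
        hn₁.1, hn₁.2]
  have hSA : ∀ s ∈ S, (∀ x ∈ A₁, s * x * s⁻¹ ∈ A₁) ∧ ∀ x ∈ A₂, s * x * s⁻¹ ∈ A₂ := by
    rintro _ ⟨s, ⟨hs₀, hs₁⟩, rfl⟩
    have h := List.all_eq_true.1 s_norm s (List.mem_range.2 hs₀)
    simp only [hs₁, Bool.not_true, Bool.false_or, Bool.and_eq_true, List.all_eq_true,
      List.any_eq_true, beq_iff_eq] at h
    constructor
    · rintro _ ⟨n, hn, rfl⟩
      obtain ⟨m, hm', hmn⟩ := h.1 n hn
      have hnl := hlt n (List.mem_append_left _ hn)
      have hml := hlt m (List.mem_append_left _ hm')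
      refine ⟨m, hm', ?_⟩
      rw [← E.map_mul s n hs₀ hnl]
      change E.φ m = E.φ (hm s n) * _
      rw [hmn]
      change E.φ m = E.φ (hmul true true m s) * _
      rw [E.map_mul m s hml hs₀, mul_inv_cancel_right]
    · rintro _ ⟨n, hn, rfl⟩
      obtain ⟨m, hm', hmn⟩ := h.2 n hn
      have hnl := hlt n (List.mem_append_right _ hn)
      have hml := hlt m (List.mem_append_right _ hm')
      refine ⟨m, hm', ?_⟩
      rw [← E.map_mul s n hs₀ hnl]
      change E.φ m = E.φ (hm s n) * _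
      rw [hmn]
      change E.φ m = E.φ (hmul true true m s) * _
      rw [E.map_mul m s hml hs₀, mul_inv_cancel_right]
  set N := normalizer A₂ with hN
  have hPN : (P : Subgroup G) ≤ N := by
    intro s hs
    rw [hPS] at hs
    refine mem_set_normalizer_iff''.2 ?_
    exact fun x => ⟨fun hx => by simpa [mul_assoc] using (hSA s⁻¹ (inv_mem hs)).2 x hx,
          fun hx => by simpa [mul_assoc] using (hSA s hs).2 _ hx⟩
  have hPN' : ((g • P : Sylow 2 G) : Subgroup G) ≤ N := by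
    intro s hs
    have hs' : g⁻¹ * s * g ∈ S := by
      rw [Sylow.coe_subgroup_smul, mem_smul_pointwise_iff_exists] at hs
      obtain ⟨t, ht, rfl⟩ := hs
      rw [hPS] at ht
      simpa [mul_assoc] using ht
    have key : ∀ t, g⁻¹ * t * g ∈ S → ∀ x ∈ A₂, t * x * t⁻¹ ∈ A₂ := by
      intro t ht x hx
      obtain ⟨y, hy, rfl⟩ := hgA.symm.subset hx
      refine hgA.subset ⟨_, (hSA _ ht).1 y hy, ?_⟩
      group
    refine mem_set_normalizer_iff.2 fun x => ⟨key s hs' x, fun hx => ?_⟩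
    have := key s⁻¹ (by simpa [mul_assoc] using inv_mem hs') _ hx
    simpa [mul_assoc] using this
  obtain ⟨⟨n, hnN⟩, hn⟩ := MulAction.exists_smul_eq N ((g • P).subtype hPN') (P.subtype hPN)
  rw [Sylow.smul_subtype] at hn
  have hfix : (n * g) • P = P := by
    have := Sylow.subtype_injective hn
    simpa [mul_smul, Subgroup.smul_def] using this
  have hnorm : n * g ∈ normalizer ((P : Subgroup G) : Set G) :=
    Sylow.smul_eq_iff_mem_normalizer.1 hfix
  have hPmem : ∀ y, y ∈ (P : Subgroup G) ↔ y ∈ S := fun y => by rw [hPS]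
  have hzfix : n * g * z * (n * g)⁻¹ = z := by
    have h1 : n * g * z * (n * g)⁻¹ ∈ S :=
      (hPmem _).1 ((mem_normalizer_iff.1 hnorm z).1 ((hPmem z).2 hmemz))
    refine (hcent _ (hSz _ h1) fun y hy => ?_).resolve_left (fun h => ?_)
    · have h2 : (n * g)⁻¹ * y * (n * g) ∈ S := (hPmem _).1 ((mem_normalizer_iff.1 hnorm _).2
        (by simpa [mul_assoc] using (hPmem y).2 hy))
      have h3 := hSz _ h2
      calc n * g * z * (n * g)⁻¹ * y
          = n * g * (z * ((n * g)⁻¹ * y * (n * g))) * (n * g)⁻¹ := by group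
        _ = n * g * ((n * g)⁻¹ * y * (n * g) * z) * (n * g)⁻¹ := by rw [h3]
        _ = y * (n * g * z * (n * g)⁻¹) := by group
    · have hz1 : z = 1 := conj_eq_one_iff.1 h
      simpa [hz1] using hyp.ord
  obtain ⟨k, hk, hkeq⟩ := (E.mem_cent (n * g)).1 (mem_centralizer_singleton_iff.2
    (mul_inv_eq_iff_eq_mul.1 hzfix))
  have h := List.all_eq_true.1 not_conj k (List.mem_range.2 hk)
  simp only [Bool.not_eq_true'] at h
  apply Bool.eq_false_iff.1 h
  refine List.all_eq_true.2 fun c hc => List.any_eq_true.2 ?_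
  have hc₁ : c ∈ elab1 := by
    simp only [List.mem_cons, List.not_mem_nil, or_false] at hc
    rcases hc with rfl | rfl <;> decide
  obtain ⟨m', hm', h'⟩ := hE c hc₁
  obtain ⟨m, hm'', hm3⟩ : n * E.φ m' * n⁻¹ ∈ A₂ :=
    (mem_set_normalizer_iff.1 hnN _).1 ⟨m', hm', rfl⟩
  refine ⟨m, hm'', beq_iff_eq.2 (code_eq₂ E hk (hlt c (List.mem_append_left _ hc₁))
    (hlt m (List.mem_append_right _ hm'')) hk ?_)⟩
  rw [hkeq, hm3, ← (h' : g * _ * g⁻¹ = _)]
  group

/-- piece P2 -/
theorem main [Finite G] (E : Emb true true z Q) (hyp : Hyp G z Q) {g : G} (hg : Exch E g) :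
    Swap E g := by
  obtain ⟨-, u, v, a, b, hq, hc⟩ := search E hyp hg
  simp only [concl, Bool.and_eq_true, List.contains_iff_mem, Bool.or_eq_true] at hc
  obtain ⟨⟨⟨⟨huw, hvw⟩, ha₁⟩, hb₂⟩, hcase⟩ := hc
  have hl1 : 728 < 1152 := by norm_num
  have hl2 : 712 < 1152 := by norm_num
  have hul := (cList_spec true true hq.hu).1
  have hvl := (cList_spec true true hq.hv).1
  obtain ⟨hal, -, -⟩ := dList_spec true true hq.ha
  obtain ⟨hbl, -, -⟩ := dList_spec true true hq.hb
  have hw : ∀ m ∈ wList, ∀ n ∈ wList, hm m n ∈ wList := fun m hm' n hn =>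
    List.contains_iff_mem.1 (List.all_eq_true.1 (List.all_eq_true.1 w_mul m hm') n hn)
  have he₁ : ∀ m ∈ elab1, ∀ n ∈ elab1, hm m n ∈ elab1 := fun m hm' n hn =>
    List.contains_iff_mem.1 (List.all_eq_true.1 (List.all_eq_true.1 e_mul₁ m hm') n hn)
  have he₂ : ∀ m ∈ elab2, ∀ n ∈ elab2, hm m n ∈ elab2 := fun m hm' n hn =>
    List.contains_iff_mem.1 (List.all_eq_true.1 (List.all_eq_true.1 e_mul₂ m hm') n hn)
  have gD : ∀ n ∈ dList, ∃ m ∈ wList, Img E g n m := by
    intro n hn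
    refine gen_img E hg hl1 hl2 hul hvl hq.iu hq.iv hw (by decide) huw hvw ?_
    simpa using List.all_eq_true.1 d_gen n hn
  have hnot : ∀ w, w ∈ cList → (∃ n ∈ dList, n ∉ xList ∧ hm n n = oneC ∧ Img E g n w) →
      w ∉ dList := by
    intro w hw' ⟨n, hn, hnx, hsq, hi⟩
    have := cond_u E hyp hg hn hnx hsq hw' hi
    simp only [condU, Bool.and_eq_true, Bool.not_eq_true', List.contains_eq_mem,
      decide_eq_false_iff_not] at this
    exact this.1.1
  have hud : u ∉ dList := hnot u hq.hu ⟨728, by decide, by decide, by decide +kernel, hq.iu⟩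
  have hvd : v ∉ dList := hnot v hq.hv ⟨712, by decide, by decide, by decide +kernel, hq.iv⟩
  have gen₁ : ∀ w ∈ wList, w ∈ elab1 → w ∉ dList → ∀ n ∈ elab1,
      ∃ x ∈ xList, ∃ p₀ ∈ [oneC, 728], ∃ q₀ ∈ [oneC, w], n = hm (hm x p₀) q₀ := by
    intro w h1 h2 h3 n hn
    have h := List.all_eq_true.1 e_gen₁ w h1
    simp only [Bool.or_eq_true, Bool.not_eq_true', List.contains_eq_mem, decide_eq_false_iff_not,
      decide_eq_true_eq, h2, h3, not_true, false_or] at h
    simpa using List.all_eq_true.1 h n hn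
  have gen₂ : ∀ w ∈ wList, w ∈ elab2 → w ∉ dList → ∀ n ∈ elab2,
      ∃ x ∈ xList, ∃ p₀ ∈ [oneC, 712], ∃ q₀ ∈ [oneC, w], n = hm (hm x p₀) q₀ := by
    intro w h1 h2 h3 n hn
    have h := List.all_eq_true.1 e_gen₂ w h1
    simp only [Bool.or_eq_true, Bool.not_eq_true', List.contains_eq_mem, decide_eq_false_iff_not,
      decide_eq_true_eq, h2, h3, not_true, false_or] at h
    simpa using List.all_eq_true.1 h n hn
  rcases hcase with ⟨hu₁, hv₂⟩ | ⟨hu₂, hv₁⟩
  · have gW : ∀ n ∈ wList, ∃ m ∈ dList, Img E g n m := by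
      intro n hn
      choose f hf using gD
      have hsurj := Finset.surj_on_of_inj_on_of_card_le (s := dList.toFinset) (t := wList.toFinset)
        (fun d hd => f d (List.mem_toFinset.1 hd))
        (fun d hd => List.mem_toFinset.2 (hf d (List.mem_toFinset.1 hd)).1)
        (fun d d' hd hd' h => img_inj E (dList_spec true true (List.mem_toFinset.1 hd)).1
          (dList_spec true true (List.mem_toFinset.1 hd')).1
          ((hf d (List.mem_toFinset.1 hd)).2)
          (by simpa only [h] using (hf d' (List.mem_toFinset.1 hd')).2))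
        (by decide) n (List.mem_toFinset.2 hn)
      obtain ⟨d, hd, hdn⟩ := hsurj
      have hi := (hf d (List.mem_toFinset.1 hd)).2
      rw [← hdn] at hi
      have hnc : n ∈ cList :=
        (by decide : ∀ k ∈ wList, k ∈ cList) n hn
      obtain ⟨m, hm', him⟩ := img_exists E hg hnc
      obtain ⟨hdl, hdq, -⟩ := dList_spec true true (List.mem_toFinset.1 hd)
      obtain ⟨hml, -, hmQ⟩ := cList_spec true true hm'
      refine ⟨m, hmQ ((E.mem_Q m hml).1 ?_), him⟩
      have := sq_conj E hyp hg ((E.mem_Q d hdl).2 hdq)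
      rwa [(hi : g * _ * g⁻¹ = _), (him : g * _ * g⁻¹ = _)] at this
    exact ⟨hg.gz, hg.ge, gD, gW,
      fun n hn => gen_img E hg hl1 hul hul hal hq.iu hq.ia he₁ (by decide) hu₁ ha₁
        (gen₁ u huw hu₁ hud n hn),
      fun n hn => gen_img E hg hl2 hvl hvl hbl hq.iv hq.ib he₂ (by decide) hv₂ hb₂
        (gen₂ v hvw hv₂ hvd n hn)⟩
  · exact (no_exchange E hyp fun n hn => gen_img E hg hl1 hvl hul hbl hq.iu hq.ib he₂
      (by decide) hu₂ hb₂ (gen₁ v hvw hv₁ hvd n hn)).elim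

end CfsgLib.U43Type.SwapP2

namespace CfsgLib.U43Type

universe u

/-- P2: the parameters and the exchange of `z` and `e`. -/
theorem swap_of : StmtSwap.{u} := by
  intro G _ _ z Q hyp ε δ E
  obtain ⟨g, hg⟩ := SwapP2.exists_exch E hyp
  obtain ⟨⟨rfl, rfl⟩, -⟩ := SwapP2.search E hyp hg
  exact ⟨E, g, SwapP2.main E hyp hg⟩

end CfsgLib.U43Type
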