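import Cfsg.Agent.Lib.U43Type.Defs

/-!
# S5390 / S5391, piece P2: finite checks in the four candidate models

`728`, `712` are the two involutions of `dList` outside `X = [1, z, e, ze]` with product of
order 4.  If `g` exchanges `z` and `e`, the images `u`, `v` of these and the images `a`, `b` of
`u`, `v` satisfy `condU`, `condA`, `condRel`; only the model with both parameters true has such
elements.
-/

set_option autoImplicit false
set_option maxRecDepth 20000

namespace CfsgLib.U43Type.SwapP2

/-- the centraliser of `eC` -/
def cList : List ℕ := linkTab.map Prod.fst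

/-- the four group generated by `z` and `e` -/
def xList : List ℕ := [oneC, zC, eC, 12]

/-- the exchange of `z` and `e` on `xList` -/
def sig (c : ℕ) : ℕ := if c = zC then eC else if c = eC then zC else c

/-- elements conjugating `eC` to all noncentral involutions of `Q` -/
def orbH : List ℕ :=
  [0, 4, 8, 36, 40, 44, 96, 100, 104, 132, 136, 140, 192, 196, 200, 228, 232, 236]

/-- generators of a Sylow 2-subgroup -/
def sGens : List ℕ := [0, 1, 2, 24, 40]

/-- candidates for an image of an involution of `dList` -/
def condU (ε δ : Bool) (u : ℕ) : Bool :=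
  !(dList.contains u) && hmul ε δ u u == oneC &&
    dList.all fun d => xList.any fun x => hmul ε δ d u == hmul ε δ x (hmul ε δ u d)

/-- candidates for an image of the image -/
def condA (ε δ : Bool) (a : ℕ) : Bool :=
  dList.contains a && !(xList.contains a) && hmul ε δ a a == oneC

/-- a commutator relation `p q = c q p` passes to the images -/
def condRel (ε δ : Bool) (p q x y : ℕ) : Bool :=
  xList.all fun c => !(hmul ε δ p q == hmul ε δ c (hmul ε δ q p)) ||
    hmul ε δ x y == hmul ε δ (sig c) (hmul ε δ y x)

/-- both elementary groups are fixed, or exchanged -/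
def concl (u v a b : ℕ) : Bool :=
  wList.contains u && wList.contains v && elab1.contains a && elab2.contains b &&
    ((elab1.contains u && elab2.contains v) || (elab2.contains u && elab1.contains v))

/-- the search -/
def swapCheck (ε δ : Bool) : Bool :=
  cList.all fun u => !(condU ε δ u) || cList.all fun v =>
    !(condU ε δ v) || !(hmul ε δ u v == hmul ε δ eC (hmul ε δ v u)) || dList.all fun a =>
      !(condA ε δ a) || dList.all fun b =>
        !(condA ε δ b) || !(hmul ε δ a b == hmul ε δ zC (hmul ε δ b a)) ||
          !(condRel ε δ 728 u u a) || !(condRel ε δ 728 v u b) ||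
          !(condRel ε δ 712 u v a) || !(condRel ε δ 712 v v b) ||
          (ε && δ && concl u v a b)

theorem swapCheck_eq : ∀ ε δ : Bool, swapCheck ε δ = true := by decide +kernel

theorem base_facts : ∀ ε δ : Bool, hmul ε δ oneC oneC = oneC ∧ hmul ε δ zC zC = oneC ∧
    hmul ε δ eC eC = oneC ∧ hmul ε δ zC eC = 12 ∧ hmul ε δ 728 728 = oneC ∧
    hmul ε δ 712 712 = oneC ∧ hmul ε δ 728 712 = hmul ε δ zC (hmul ε δ 712 728) := by
  decide +kernel

theorem cent_fact : ∀ ε δ : Bool, (List.range 1152).all (fun m =>
    !(hmul ε δ m eC == hmul ε δ eC m) || cList.contains m) = true := by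
  decide +kernel

theorem cent_comm : ∀ ε δ : Bool, cList.all (fun m =>
    decide (m < 1152) && hmul ε δ m eC == hmul ε δ eC m && (!inQ m || dList.contains m)) = true := by
  decide +kernel

theorem d_facts : ∀ ε δ : Bool, dList.all (fun m =>
    decide (m < 1152) && hmul ε δ m eC == hmul ε δ eC m && inQ m && cList.contains m) = true := by
  decide +kernel

theorem orbit_fact : ∀ ε δ : Bool, (List.range 1152).all (fun n =>
    !(inQ n) || n == zC || n == oneC || !(hmul ε δ n n == oneC) ||
      orbH.any fun h => hmul ε δ h eC == hmul ε δ n h) = true := by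
  decide +kernel

theorem four_fact : ∀ ε δ : Bool, dList.all (fun x => xList.contains x || dList.any fun d =>
    !([d, hmul ε δ eC d, hmul ε δ x d, hmul ε δ (hmul ε δ x eC) d].contains (hmul ε δ d x))) =
      true := by
  decide +kernel

theorem d_gen : dList.all (fun n => xList.any fun x => [oneC, 728].any fun p =>
    [oneC, 712].any fun q => n == hm (hm x p) q) = true := by
  decide +kernel

theorem e_gen₁ : wList.all (fun w => !(elab1.contains w) || dList.contains w ||
    elab1.all fun n => xList.any fun x => [oneC, 728].any fun p =>
      [oneC, w].any fun q => n == hm (hm x p) q) = true := by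
  decide +kernel

theorem e_gen₂ : wList.all (fun w => !(elab2.contains w) || dList.contains w ||
    elab2.all fun n => xList.any fun x => [oneC, 712].any fun p =>
      [oneC, w].any fun q => n == hm (hm x p) q) = true := by
  decide +kernel

theorem w_mul : wList.all (fun m => wList.all fun n => wList.contains (hm m n)) = true := by
  decide +kernel

theorem e_mul₁ : elab1.all (fun m => elab1.all fun n => elab1.contains (hm m n)) = true := by
  decide +kernel

theorem e_mul₂ : elab2.all (fun m => elab2.all fun n => elab2.contains (hm m n)) = true := by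
  decide +kernel

/-- no element of the centraliser conjugates `elab1` to `elab2` -/
theorem not_conj : (List.range 1152).all (fun k =>
    !([728, 731].all fun n => elab2.any fun m => hm k n == hm m k)) = true := by
  decide +kernel

/-- the elements of the Sylow 2-subgroup -/
def inS (n : ℕ) : Bool := inQ (4 * (n / 4))

theorem s_count : ((List.range 1152).filter inS).length = 128 := by
  decide +kernel

theorem s_mul : (List.range 1152).all (fun m => !(inS m) ||
    (List.range 1152).all fun n => !(inS n) || inS (hm m n)) = true := by
  decide +kernel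

theorem s_gens : sGens.all (fun n => decide (n < 1152) && inS n) = true ∧ inS oneC = true ∧
    inS zC = true := by
  decide +kernel

theorem s_cent : (List.range 1152).all (fun k =>
    !(sGens.all fun n => hm k n == hm n k) || k == oneC || k == zC) = true := by
  decide +kernel

theorem s_norm : (List.range 1152).all (fun s => !(inS s) ||
    elab1.all (fun n => elab1.any fun m => hm s n == hm m s) &&
      elab2.all fun n => elab2.any fun m => hm s n == hm m s) = true := by
  decide +kernel

theorem tab_bounds : (∀ a, a < 24 → ∀ b, b < 24 → mm a b < 24 ∧ normP a b < 288) ∧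
    (∀ a, a < 12 → tab5 posTab a < 24) ∧
    ∀ a, a < 24 → tab5 thTab a < 24 ∧ tab5 negTab a < 24 := by
  decide +kernel

/-- the product of two codes is a code -/
theorem hmul_lt (ε δ : Bool) {m n : ℕ} (hm : m < 1152) (hn : n < 1152) :
    hmul ε δ m n < 1152 := by
  obtain ⟨h2, hp, h1⟩ := tab_bounds
  have hc₀ : tab5 posTab (n / 4 / 24) < 24 := hp _ (by omega)
  have hd₀ : n / 4 % 24 < 24 := by omega
  have hk : tab5 posTab (m / 4 / 24) < 24 := hp _ (by omega)
  have hmk : m / 4 % 24 < 24 := by omega
  have ht : ∀ (p : Prop) [Decidable p] (a b : ℕ), a < 24 → b < 24 → (if p then a else b) < 24 := by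
    intro p _ a b ha hb
    split <;> assumption
  simp only [hmul]
  set c₁ := if m % 2 = 1 then n / 4 % 24 else tab5 posTab (n / 4 / 24) with hc₁
  set d₁ := if m % 2 = 1 then tab5 posTab (n / 4 / 24) else n / 4 % 24 with hd₁
  have hc : c₁ < 24 := ht _ _ _ hd₀ hc₀
  have hd : d₁ < 24 := ht _ _ _ hc₀ hd₀
  set c := if m / 2 % 2 = 1 then tab5 thTab c₁ else c₁
  set d := if m / 2 % 2 = 1 then tab5 thTab d₁ else d₁
  have hc' : c < 24 := ht _ _ _ (h1 _ hc).1 hc
  have hd' : d < 24 := ht _ _ _ (h1 _ hd).1 hd
  have hb := (h2 _ hmk _ hd').1
  have ha := (h2 _ hk _ hc').1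
  have hk2 := (h2 _ ha _ (ht (((if δ = true then m % 2 * (n / 2 % 2) else 0) +
    (if ε = true then m / 2 % 2 * (n / 2 % 2) else 0)) % 2 = 1) _ _ (h1 _ hb).2 hb)).2
  omega

end CfsgLib.U43Type.SwapP2
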