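import Cfsg.Agent.Lib.U43Type.SwapData

/-!
# S5390 / S5391, piece P2: the exchange of `z` and `e` in a coded centraliser
-/

set_option autoImplicit false

namespace CfsgLib.U43Type.SwapP2

open Subgroup

universe u

variable {G : Type u} [Group G] {z : G} {Q : Subgroup G} {ε δ : Bool}

theorem emb_one (E : Emb ε δ z Q) : E.φ oneC = 1 := by
  have h := E.map_mul oneC oneC (by decide) (by decide)
  rw [(base_facts ε δ).1] at h
  exact left_eq_mul.1 h

/-- equal products give equal codes -/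
theorem code_eq (E : Emb ε δ z Q) {a b n : ℕ} (ha : a < 1152) (hb : b < 1152) (hn : n < 1152)
    (h : E.φ a * E.φ b = E.φ n) : hmul ε δ a b = n :=
  E.inj _ _ (hmul_lt ε δ ha hb) hn (by rw [E.map_mul a b ha hb, h])

theorem code_eq₂ (E : Emb ε δ z Q) {a b c d : ℕ} (ha : a < 1152) (hb : b < 1152) (hc : c < 1152)
    (hd : d < 1152) (h : E.φ a * E.φ b = E.φ c * E.φ d) : hmul ε δ a b = hmul ε δ c d :=
  code_eq E ha hb (hmul_lt ε δ hc hd) (by rw [E.map_mul c d hc hd, h])

theorem code_eq₃ (E : Emb ε δ z Q) {a b x c d : ℕ} (ha : a < 1152) (hb : b < 1152)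
    (hx : x < 1152) (hc : c < 1152) (hd : d < 1152)
    (h : E.φ a * E.φ b = E.φ x * (E.φ c * E.φ d)) :
    hmul ε δ a b = hmul ε δ x (hmul ε δ c d) :=
  code_eq₂ E ha hb hx (hmul_lt ε δ hc hd) (by rw [E.map_mul c d hc hd, h])

theorem mul_eq₃ (E : Emb ε δ z Q) {a b x c d : ℕ} (ha : a < 1152) (hb : b < 1152)
    (hx : x < 1152) (hc : c < 1152) (hd : d < 1152)
    (h : hmul ε δ a b = hmul ε δ x (hmul ε δ c d)) :
    E.φ a * E.φ b = E.φ x * (E.φ c * E.φ d) := by
  rw [← E.map_mul a b ha hb, h, E.map_mul x _ hx (hmul_lt ε δ hc hd), E.map_mul c d hc hd]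

theorem cList_spec (ε δ : Bool) {m : ℕ} (h : m ∈ cList) :
    m < 1152 ∧ hmul ε δ m eC = hmul ε δ eC m ∧ (inQ m = true → m ∈ dList) := by
  have := List.all_eq_true.1 (cent_comm ε δ) m h
  simp only [Bool.and_eq_true, decide_eq_true_eq, beq_iff_eq, Bool.or_eq_true, Bool.not_eq_true',
    List.contains_iff_mem] at this
  exact ⟨this.1.1, this.1.2, fun hq => this.2.resolve_left (by simp [hq])⟩

theorem dList_spec (ε δ : Bool) {m : ℕ} (h : m ∈ dList) :
    m < 1152 ∧ inQ m = true ∧ m ∈ cList := by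
  have := List.all_eq_true.1 (d_facts ε δ) m h
  simp only [Bool.and_eq_true, decide_eq_true_eq, beq_iff_eq, List.contains_iff_mem] at this
  exact ⟨this.1.1.1, this.1.2, this.2⟩

theorem xList_sub {c : ℕ} (h : c ∈ xList) : c ∈ dList ∧ sig c ∈ xList ∧ sig (sig c) = c := by
  revert c
  decide

/-- the action of `g` on codes -/
def Img (E : Emb ε δ z Q) (g : G) (n m : ℕ) : Prop := g * E.φ n * g⁻¹ = E.φ m

/-- `g` exchanges `z` and `e` -/
structure Exch (E : Emb ε δ z Q) (g : G) : Prop where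
  gz : g * z * g⁻¹ = E.φ eC
  ge : g * E.φ eC * g⁻¹ = z

theorem z_mem_Q (E : Emb ε δ z Q) : z ∈ Q :=
  E.map_z ▸ (E.mem_Q zC (by decide)).2 (by decide +kernel)

theorem e_mem_Q (E : Emb ε δ z Q) : E.φ eC ∈ Q := (E.mem_Q eC (by decide)).2 (by decide +kernel)

theorem comm_z (E : Emb ε δ z Q) {n : ℕ} (hn : n < 1152) : E.φ n * z = z * E.φ n :=
  (mem_centralizer_singleton_iff.1 ((E.mem_cent _).2 ⟨n, hn, rfl⟩))

theorem comm_e (E : Emb ε δ z Q) {n : ℕ} (hn : n ∈ cList) :
    E.φ n * E.φ eC = E.φ eC * E.φ n := by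
  obtain ⟨hlt, hc, -⟩ := cList_spec ε δ hn
  rw [← E.map_mul n eC hlt (by decide), ← E.map_mul eC n (by decide) hlt, hc]

/-- an element commuting with `z` and `e` is coded in `cList` -/
theorem code_cent (E : Emb ε δ z Q) {x : G} (hz : x * z = z * x)
    (he : x * E.φ eC = E.φ eC * x) : ∃ m ∈ cList, E.φ m = x := by
  obtain ⟨m, hm, rfl⟩ := (E.mem_cent x).1 (mem_centralizer_singleton_iff.2 hz)
  have h := code_eq₂ E hm (by decide : eC < 1152) (by decide) hm he
  have := List.all_eq_true.1 (cent_fact ε δ) m (List.mem_range.2 hm)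
  simp only [Bool.or_eq_true, Bool.not_eq_true', List.contains_iff_mem] at this
  exact ⟨m, this.resolve_left (by simp [h]), rfl⟩

/-- a noncentral involution of `Q` is conjugate to `e` in the centraliser of `z` -/
theorem orbit (E : Emb ε δ z Q) (hle : Q ≤ centralizer ({z} : Set G)) {x : G} (hx : x ∈ Q)
    (hxz : x ≠ z) (hx1 : x ≠ 1) (hxx : x * x = 1) :
    ∃ h, h * z = z * h ∧ h * E.φ eC * h⁻¹ = x := by
  obtain ⟨n, hn, rfl⟩ := (E.mem_cent x).1 (hle hx)
  have h1 := List.all_eq_true.1 (orbit_fact ε δ) n (List.mem_range.2 hn)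
  have hq := (E.mem_Q n hn).1 hx
  have hsq : hmul ε δ n n = oneC := code_eq E hn hn (by decide) (by rw [hxx, emb_one])
  have hnz : n ≠ zC := fun h => hxz (by rw [h, E.map_z])
  have hn1 : n ≠ oneC := fun h => hx1 (by rw [h, emb_one])
  simp only [hq, hsq, hnz, hn1, Bool.not_true, beq_self_eq_true, Bool.false_or, Bool.or_eq_true,
    List.any_eq_true, beq_iff_eq, or_false, false_or, Bool.false_eq_true] at h1
  obtain ⟨h, hh, heq⟩ := h1
  have hlt : h < 1152 := by
    have hall : orbH.all (fun h => decide (h < 1152)) = true := by decide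
    exact of_decide_eq_true (List.all_eq_true.1 hall h hh)
  refine ⟨E.φ h, comm_z E hlt, ?_⟩
  rw [← E.map_mul h eC hlt (by decide), heq, E.map_mul n h hn hlt, mul_inv_cancel_right]

/-- an element exchanging `z` and `e` -/
theorem exists_exch (E : Emb ε δ z Q) (hyp : Hyp G z Q) : ∃ g, Exch E g := by
  obtain ⟨g₀, hg₀, hne⟩ := hyp.fused
  have hz1 : z ≠ 1 := fun h => by simpa [h] using hyp.ord
  have hzz : z * z = 1 := by
    have := pow_orderOf_eq_one z
    rwa [hyp.ord, pow_two] at this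
  obtain ⟨h, hhz, hh⟩ := orbit E hyp.le hg₀ hne (fun h => hz1 (conj_eq_one_iff.1 h))
    (by simp [mul_assoc, ← mul_assoc z z, hzz])
  set g := h⁻¹ * g₀ with hgdef
  have hgz : g * z * g⁻¹ = E.φ eC := by
    rw [hgdef]
    calc h⁻¹ * g₀ * z * (h⁻¹ * g₀)⁻¹ = h⁻¹ * (g₀ * z * g₀⁻¹) * h := by group
      _ = E.φ eC := by rw [← hh]; group
  have hez : E.φ eC ≠ z := fun h => by
    have := E.inj eC zC (by decide) (by decide) (by rw [h, E.map_z])
    exact absurd this (by decide)
  have heQ := e_mem_Q E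
  -- `z` lies in the conjugate of `Q`
  set Qg := Q.map (MulAut.conj g).toMonoidHom with hQg
  have hmem : ∀ x, x ∈ Qg ↔ g⁻¹ * x * g ∈ Q := by
    intro x
    rw [hQg, mem_map]
    refine ⟨?_, fun hx => ⟨_, hx, by simp [mul_assoc]⟩⟩
    rintro ⟨y, hy, rfl⟩
    simpa [mul_assoc] using hy
  have hgez : g⁻¹ * E.φ eC * g = z := by rw [← hgz]; group
  have he1 : E.φ eC ∈ Q ⊓ Qg := ⟨heQ, (hmem _).2 (by rw [hgez]; exact z_mem_Q E)⟩
  have hcard : Nat.card ↥(Q ⊓ Qg) = 4 :=
    hyp.inter g (by rw [hgz]; exact heQ) (by rw [hgz]; exact hez)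
  have hzI : z ∈ Qg := by
    by_contra hzn
    have hfin : ((Q ⊓ Qg : Subgroup G) : Set G).Finite :=
      Set.finite_coe_iff.1 (Nat.finite_of_card_ne_zero (by rw [SetLike.coe_sort_coe, hcard]; norm_num))
    obtain ⟨x, hxI, hx1, hxe⟩ : ∃ x ∈ Q ⊓ Qg, x ≠ 1 ∧ x ≠ E.φ eC := by
      by_contra hall
      push Not at hall
      have : ((Q ⊓ Qg : Subgroup G) : Set G) ⊆ {1, E.φ eC} := fun y hy => by
        by_cases h1 : y = 1
        · exact Or.inl h1
        · exact Or.inr (hall y hy h1)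
      have := Set.ncard_le_ncard this (Set.toFinite _)
      rw [← Nat.card_coe_set_eq, SetLike.coe_sort_coe, hcard] at this
      have h2 : ({1, E.φ eC} : Set G).ncard ≤ 2 :=
        (Set.ncard_insert_le _ _).trans (by rw [Set.ncard_singleton])
      omega
    have hxe' : x * E.φ eC = E.φ eC * x := by
      have h2 := mem_centralizer_singleton_iff.1 (hyp.le ((hmem x).1 hxI.2))
      have h3 : g * (g⁻¹ * x * g * z) * g⁻¹ = g * (z * (g⁻¹ * x * g)) * g⁻¹ := by rw [h2]
      calc x * E.φ eC = g * (g⁻¹ * x * g * z) * g⁻¹ := by rw [← hgz]; group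
        _ = g * (z * (g⁻¹ * x * g)) * g⁻¹ := h3
        _ = E.φ eC * x := by rw [← hgz]; group
    obtain ⟨m, hm, rfl⟩ :=
      code_cent E (mem_centralizer_singleton_iff.1 (hyp.le hxI.1)) hxe'
    obtain ⟨hml, -, hmQ⟩ := cList_spec ε δ hm
    have hmd := hmQ ((E.mem_Q m hml).1 hxI.1)
    have hset : ((Q ⊓ Qg : Subgroup G) : Set G) =
        {1, E.φ eC, E.φ m, E.φ m * E.φ eC} := by
      refine (Set.eq_of_subset_of_ncard_le ?_ ?_ hfin).symm
      · intro y hy
        simp only [Set.mem_insert_iff, Set.mem_singleton_iff] at hy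
        rcases hy with rfl | rfl | rfl | rfl
        exacts [one_mem _, he1, hxI, mul_mem hxI he1]
      · rw [← Nat.card_coe_set_eq, SetLike.coe_sort_coe, hcard]
        have h1e : (1 : G) ≠ E.φ eC := fun h => hz1 (by rw [← hgez, ← h]; group)
        have hxe2 : E.φ m * E.φ eC ≠ E.φ m := by simpa using h1e.symm
        have hxe3 : E.φ m * E.φ eC ≠ E.φ eC := by simpa using hx1
        have hxe4 : E.φ m * E.φ eC ≠ 1 := by
          intro h
          apply hxe
          have h4 : E.φ eC * E.φ eC = 1 := by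
            rw [← E.map_mul _ _ (by decide) (by decide), (base_facts ε δ).2.2.1, emb_one]
          exact mul_right_cancel (h.trans h4.symm)
        rw [Set.ncard_insert_of_notMem (by simp [h1e, Ne.symm hx1, Ne.symm hxe4]) (Set.toFinite _),
          Set.ncard_insert_of_notMem (by simp [Ne.symm hxe, Ne.symm hxe3]) (Set.toFinite _),
          Set.ncard_insert_of_notMem (by simp [Ne.symm hxe2]) (Set.toFinite _),
          Set.ncard_singleton]
    -- no such element of order two
    have hf := List.all_eq_true.1 (four_fact ε δ) m hmd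
    simp only [Bool.or_eq_true, List.contains_iff_mem, List.any_eq_true, Bool.not_eq_true',
      List.contains_eq_mem, decide_eq_false_iff_not, decide_eq_true_eq] at hf
    have hzx : ∀ y ∈ Q ⊓ Qg, y ≠ z := fun y hy h => hzn (h ▸ hy.2)
    rcases hf with hf | ⟨d, hd, hd'⟩
    · simp only [xList, List.mem_cons, List.not_mem_nil, or_false] at hf
      rcases hf with rfl | rfl | rfl | rfl
      · exact hx1 (emb_one E)
      · exact hzx _ hxI E.map_z
      · exact hxe rfl
      · refine hzx _ (mul_mem hxI he1) ?_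
        have h4 : E.φ eC * E.φ eC = 1 := by
          rw [← E.map_mul _ _ (by decide) (by decide), (base_facts ε δ).2.2.1, emb_one]
        rw [← (base_facts ε δ).2.2.2.1, E.map_mul _ _ (by decide) (by decide), E.map_z,
          mul_assoc, h4, mul_one]
    · obtain ⟨hdl, hdQ, hdc⟩ := dList_spec ε δ hd
      have hdmem := (E.mem_Q d hdl).2 hdQ
      have hzd : g⁻¹ * E.φ d * g ∈ centralizer ({z} : Set G) := by
        rw [mem_centralizer_singleton_iff]
        calc g⁻¹ * E.φ d * g * z = g⁻¹ * (E.φ d * E.φ eC) * g := by rw [← hgz]; group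
          _ = g⁻¹ * (E.φ eC * E.φ d) * g := by rw [comm_e E hdc]
          _ = z * (g⁻¹ * E.φ d * g) := by rw [← hgz]; group
      have hconj : E.φ d * E.φ m * (E.φ d)⁻¹ ∈ Q ⊓ Qg := by
        refine ⟨Q.mul_mem (Q.mul_mem hdmem hxI.1) (Q.inv_mem hdmem), (hmem _).2 ?_⟩
        have := (mem_normalizer_iff.1 (hyp.nQ hzd) _).1 ((hmem _).1 hxI.2)
        convert this using 1
        group
      rw [← SetLike.mem_coe, hset] at hconj
      simp only [Set.mem_insert_iff, Set.mem_singleton_iff, mul_inv_eq_iff_eq_mul, one_mul] at hconj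
      apply hd'
      have he : eC < 1152 := by decide
      rw [← E.map_mul d m hdl hml, ← E.map_mul eC d he hdl, ← E.map_mul m d hml hdl,
        ← E.map_mul m eC hml he, ← E.map_mul _ d (hmul_lt ε δ hml he) hdl] at hconj
      have i1 := hmul_lt ε δ hdl hml
      simp only [List.mem_cons, List.not_mem_nil, or_false]
      rcases hconj with h | h | h | h
      · exact Or.inl (E.inj _ _ i1 hdl h)
      · exact Or.inr (Or.inl (E.inj _ _ i1 (hmul_lt ε δ he hdl) h))
      · exact Or.inr (Or.inr (Or.inl (E.inj _ _ i1 (hmul_lt ε δ hml hdl) h)))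
      · exact Or.inr (Or.inr (Or.inr (E.inj _ _ i1 (hmul_lt ε δ (hmul_lt ε δ hml he) hdl) h)))
  -- correct `g` by an element of the centraliser of `z`
  have hy : g⁻¹ * z * g ∈ Q := (hmem z).1 hzI
  have hyz : g⁻¹ * z * g ≠ z := fun h => hez (by
    rw [← hgz]
    conv_lhs => rw [← h]
    group)
  obtain ⟨k, hkz, hk⟩ := orbit E hyp.le hy hyz
    (fun h => hz1 (by
      have := congrArg (fun t => g * t * g⁻¹) h
      simpa [mul_assoc] using this))
    (by simp [mul_assoc, ← mul_assoc z z, hzz])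
  refine ⟨g * k, ?_, ?_⟩
  · calc g * k * z * (g * k)⁻¹ = g * (k * z * k⁻¹) * g⁻¹ := by group
      _ = E.φ eC := by rw [hkz, mul_inv_cancel_right, hgz]
  · calc g * k * E.φ eC * (g * k)⁻¹ = g * (k * E.φ eC * k⁻¹) * g⁻¹ := by group
      _ = z := by rw [hk]; group

end CfsgLib.U43Type.SwapP2
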