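import Cfsg.Agent.Lib.U43Type.Assemble
import Cfsg.Agent.Lib.U43Type.ThreeDefs

/-!
# S5390 / S5391, piece P4c: the two further letters and their relators

`c = g φ(971) g` exchanges `z` and `φ 349` and is known exactly on the centralizer of `φ 349` in
the centralizer of `z` (order 48), given the transport of `612`.
-/

set_option autoImplicit false
set_option maxRecDepth 100000
set_option linter.unusedSectionVars false
set_option linter.unusedSimpArgs false

namespace CfsgLib.U43Type

open Subgroup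

universe u

/-- the image of a code under the link -/
def lookA (n : ℕ) : ℕ := ((linkTab.find? fun p => Nat.beq p.1 n).map Prod.snd).getD 1152

/-- the image of an element of `elab2` under `c` -/
def tv (v : ℕ) : ℕ := lookA (hconj 971 (lookA v))

/-- the centralizer of `349` with the action of `c` -/
def centTab : List (ℕ × ℕ) :=
  elab2.flatMap fun v => [(v, tv v), (hm v 612, hm (tv v) 912), (hm v 912, hm (tv v) 612)]

/-- the elements of `Y` -/
def yList : List ℕ :=
  [oneC, 600, hinv 600].flatMap fun a => [oneC, 324, hinv 324].map (hm a ·)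

/-- exponents of the conjugate by `m` of `c k c`, when found -/
def imgOne (m k : ℕ) : Option (ℕ × ℕ) :=
  yList.findSome? fun y => centTab.findSome? fun p =>
    let r := hconj p.2 k
    if Nat.beq (hm y p.1) m then
      if Nat.beq r 900 then some (1, 0) else if Nat.beq r 624 then some (2, 0) else none
    else if Nat.beq (hm y (hm 3 p.1)) m then
      if Nat.beq r 508 then some (0, 1) else if Nat.beq r 416 then some (0, 2) else none
    else none

/-- one letter of a word whose value is kept as `y₁ ^ a * y₂ ^ b * φ n` -/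
def stepS (s : ℕ × ℕ × ℕ) (l : ℕ) : Option (ℕ × ℕ × ℕ) :=
  if l < 5 then some (s.1, s.2.1, hm s.2.2 (letC.getD l 0))
  else
    let n := hm s.2.2 zC
    match (if Nat.beq l 6 then imgOne n 900 else if Nat.beq l 7 then imgOne (hm n 3) 508 else none) with
    | some e => some ((s.1 + e.1) % 3, (s.2.1 + e.2) % 3, n)
    | none => none

/-- the state reached by a word -/
def evalS : ℕ × ℕ × ℕ → List ℕ → Option (ℕ × ℕ × ℕ)
  | s, [] => some s
  | s, l :: w => (stepS s l).bind fun t => evalS t w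

/-- the two relators defining the letters -/
def defRels : List (List ℕ) :=
  [[0, 2, 0, 4, 2, 4, 5, 4, 5, 1, 3, 1, 2, 5, 4, 5, 6],
   [0, 2, 0, 4, 2, 4, 5, 1, 4, 5, 1, 2, 1, 3, 5, 4, 1, 5, 7]]

theorem rels_check : (relsThree.all fun r =>
    defRels.contains r || (evalS (0, 0, oneC) r == some (0, 0, oneC))) = true := by
  decide +kernel

theorem tab_check : (elab2.all fun v => decide (v < 1152) && decide (lookA v < 1152) &&
    decide (hconj 971 (lookA v) < 1152) && decide (tv v < 1152)) = true := by decide +kernel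

theorem code_checks : hconj 971 eC = 764 ∧ lookA 764 = 349 ∧ hm 612 612 = 912 ∧ hm 912 912 = 612 ∧
    hm 971 971 = oneC ∧ hm 3 3 = oneC ∧ lookA 3 = 3 ∧ hm 900 (hm 900 900) = oneC ∧
    hm 508 (hm 508 508) = oneC ∧ hm 900 900 = 624 ∧ hm 508 508 = 416 ∧ hm 3 1 = 314 ∧
    centTab.contains (1, 1) = true ∧ hconj 1 900 = 508 ∧ hm x1C x2C = 612 ∧
    yList.contains (hconj 314 x1C) = true ∧ yList.contains (hconj 314 x2C) = true ∧
    hm 3 (hm 349 3) = 313 := by
  decide +kernel

theorem cand_check : ((List.range 1152).all fun k =>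
    Nat.beq k oneC || Nat.beq k 900 || Nat.beq k 624 ||
      !(Nat.beq (hconj 349 k) (hinv k) && Nat.beq (hm k 912) (hm 912 k) &&
        Nat.beq (hm k (hm k k)) oneC)) = true := by decide +kernel

theorem loc_check : (relsLocal.all fun r => r.all fun a => decide (a < 6)) = true := by
  decide +kernel

theorem loc_letters : ∀ r ∈ relsLocal, ∀ a ∈ r, a < 6 := fun r hr a ha => by
  simpa using List.all_eq_true.1 (List.all_eq_true.1 loc_check r hr) a ha

theorem def_check : hm (hm (hm (letC.getD 0 0) (letC.getD 2 0)) (hm (letC.getD 0 0)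
      (letC.getD 4 0))) (hm (letC.getD 2 0) (letC.getD 4 0)) = zC ∧
    hm (hm (letC.getD 1 0) (letC.getD 3 0)) (hm (letC.getD 1 0) (letC.getD 2 0)) = 900 ∧
    hm (hm (letC.getD 1 0) (letC.getD 2 0)) (hm (letC.getD 1 0) (letC.getD 3 0)) = 508 ∧
    letC.getD 4 0 = 971 ∧ letC.getD 1 0 = 3 ∧ (∀ i < 5, letC.getD i 0 < 1152) ∧
    hm zC zC = oneC := by decide +kernel

section

variable {G : Type u} [Group G] {z : G} {Q : Subgroup G} {E : Emb true true z Q} {g : G}

theorem Link.look (hg : Link E g) {n : ℕ} (h : lookA n < 1152) :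
    g * E.φ n * g⁻¹ = E.φ (lookA n) := by
  unfold lookA at h ⊢
  cases hf : linkTab.find? (fun p => Nat.beq p.1 n) with
  | none => simp [hf] at h
  | some p =>
    simp only [hf, Option.map_some, Option.getD_some]
    have h1 := List.find?_some hf
    rw [← Nat.eq_of_beq_eq_true h1]
    exact hg.act p (List.mem_of_find?_eq_some hf)

/-- the exchange of `z` and `φ 349` -/
def cMid (E : Emb true true z Q) (g : G) : G := g * E.φ 971 * g

theorem phi_sq (E : Emb true true z Q) {n : ℕ} (hn : n < 1152) (h : hm n n = oneC) :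
    E.φ n * E.φ n = 1 := by rw [← E.map_hm hn hn, h, E.map_one]

theorem cMid_sq (hg : Link E g) : cMid E g * cMid E g = 1 := by
  have h := phi_sq E (by norm_num : 971 < 1152) code_checks.2.2.2.2.1
  calc cMid E g * cMid E g = g * E.φ 971 * (g * g) * E.φ 971 * g := by rw [cMid]; group
    _ = g * (E.φ 971 * E.φ 971) * g := by rw [hg.sq]; group
    _ = 1 := by rw [h, mul_one, hg.sq]

theorem cMid_inv (hg : Link E g) : (cMid E g)⁻¹ = cMid E g :=
  inv_eq_of_mul_eq_one_right (cMid_sq hg)

theorem g_inv (hg : Link E g) : g⁻¹ = g := inv_eq_of_mul_eq_one_right hg.sq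

theorem cMid_z (hg : Link E g) : cMid E g * z * (cMid E g)⁻¹ = E.φ 349 := by
  obtain ⟨h1, h2, -⟩ := code_checks
  have hz : g * z * g⁻¹ = E.φ eC := by
    have := hg.act (zC, eC) (by decide)
    rwa [E.map_z] at this
  have he : E.φ 971 * E.φ eC * (E.φ 971)⁻¹ = E.φ 764 := by
    rw [← E.map_conj (by norm_num) code_lt.2.2.1, h1]
  have hl := hg.look (n := 764) (by rw [h2]; norm_num)
  rw [h2] at hl
  calc cMid E g * z * (cMid E g)⁻¹ = g * (E.φ 971 * (g * z * g⁻¹) * (E.φ 971)⁻¹) * g⁻¹ := by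
        rw [cMid]; group
    _ = E.φ 349 := by rw [hz, he, hl]

/-- `c` is known on the centralizer of `φ 349`. -/
theorem cent_tab (hg : Link E g)
    (ht : cMid E g * E.φ 612 * (cMid E g)⁻¹ = E.φ 912) :
    ∀ p ∈ centTab, p.1 < 1152 ∧ p.2 < 1152 ∧ cMid E g * E.φ p.1 * (cMid E g)⁻¹ = E.φ p.2 := by
  obtain ⟨-, -, h6, h9, -⟩ := code_checks
  have hv : ∀ v ∈ elab2, v < 1152 ∧ tv v < 1152 ∧
      cMid E g * E.φ v * (cMid E g)⁻¹ = E.φ (tv v) := by
    intro v hv
    have h := List.all_eq_true.1 tab_check v hv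
    simp only [Bool.and_eq_true, decide_eq_true_eq] at h
    obtain ⟨⟨⟨h1, h2⟩, h3⟩, h4⟩ := h
    refine ⟨h1, h4, ?_⟩
    calc cMid E g * E.φ v * (cMid E g)⁻¹
        = g * (E.φ 971 * (g * E.φ v * g⁻¹) * (E.φ 971)⁻¹) * g⁻¹ := by rw [cMid]; group
      _ = g * E.φ (hconj 971 (lookA v)) * g⁻¹ := by
          rw [hg.look h2, E.map_conj (by norm_num) h2]
      _ = E.φ (tv v) := hg.look h4
  have h612 : (612 : ℕ) < 1152 := by norm_num
  have h912 : (912 : ℕ) < 1152 := by norm_num
  have ht2 : cMid E g * E.φ 912 * (cMid E g)⁻¹ = E.φ 612 := by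
    calc cMid E g * E.φ 912 * (cMid E g)⁻¹
        = (cMid E g * E.φ 612 * (cMid E g)⁻¹) * (cMid E g * E.φ 612 * (cMid E g)⁻¹) := by
          rw [← h6, E.map_hm h612 h612]; group
      _ = E.φ 612 := by rw [ht, ← E.map_hm h912 h912, h9]
  intro p hp
  simp only [centTab, List.mem_flatMap, List.mem_cons, List.not_mem_nil, or_false] at hp
  obtain ⟨v, hv', rfl | rfl | rfl⟩ := hp
  · exact hv v hv'
  · obtain ⟨h1, h2, e⟩ := hv v hv'
    refine ⟨hm_lt h1 h612, hm_lt h2 h912, ?_⟩
    rw [E.map_hm h1 h612, E.map_hm h2 h912, ← e, ← ht]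
    group
  · obtain ⟨h1, h2, e⟩ := hv v hv'
    refine ⟨hm_lt h1 h912, hm_lt h2 h612, ?_⟩
    rw [E.map_hm h1 h912, E.map_hm h2 h612, ← e, ← ht2]
    group

/-- the first letter -/
def yOne (E : Emb true true z Q) (g : G) : G := cMid E g * E.φ 900 * cMid E g

/-- the second letter -/
def yTwo (E : Emb true true z Q) (g : G) : G := E.φ 3 * (cMid E g * E.φ 508 * cMid E g) * E.φ 3

theorem ySq (hg : Link E g) :
    yOne E g * yOne E g = cMid E g * E.φ 624 * cMid E g ∧ yOne E g ^ 3 = 1 ∧
    yTwo E g * yTwo E g = E.φ 3 * (cMid E g * E.φ 416 * cMid E g) * E.φ 3 ∧ yTwo E g ^ 3 = 1 := by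
  obtain ⟨-, -, -, -, -, h3, -, h900, h508, h624, h416, -⟩ := code_checks
  have hc := cMid_sq hg
  have e3 := phi_sq E (by norm_num : 3 < 1152) h3
  have a : E.φ 900 * E.φ 900 = E.φ 624 := by
    rw [← E.map_hm (by norm_num) (by norm_num), h624]
  have b : E.φ 508 * E.φ 508 = E.φ 416 := by
    rw [← E.map_hm (by norm_num) (by norm_num), h416]
  have a3 : E.φ 900 * E.φ 624 = 1 := by
    rw [← E.map_hm (by norm_num) (by norm_num), ← h624, h900, E.map_one]
  have b3 : E.φ 508 * E.φ 416 = 1 := by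
    rw [← E.map_hm (by norm_num) (by norm_num), ← h416, h508, E.map_one]
  have s1 : yOne E g * yOne E g = cMid E g * E.φ 624 * cMid E g := by
    calc yOne E g * yOne E g
        = cMid E g * E.φ 900 * (cMid E g * cMid E g) * E.φ 900 * cMid E g := by rw [yOne]; group
      _ = _ := by rw [hc, mul_one, mul_assoc (cMid E g), a]
  have s2 : yTwo E g * yTwo E g = E.φ 3 * (cMid E g * E.φ 416 * cMid E g) * E.φ 3 := by
    calc yTwo E g * yTwo E g
        = E.φ 3 * (cMid E g * E.φ 508 * cMid E g * (E.φ 3 * E.φ 3) * cMid E g * E.φ 508 *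
            cMid E g) * E.φ 3 := by rw [yTwo]; group
      _ = E.φ 3 * (cMid E g * E.φ 508 * (cMid E g * cMid E g) * E.φ 508 * cMid E g) * E.φ 3 := by
          rw [e3]; group
      _ = _ := by rw [hc, mul_one, mul_assoc (cMid E g) (E.φ 508), b]
  refine ⟨s1, ?_, s2, ?_⟩
  · rw [pow_succ', pow_two, s1, yOne]
    calc cMid E g * E.φ 900 * cMid E g * (cMid E g * E.φ 624 * cMid E g)
        = cMid E g * E.φ 900 * (cMid E g * cMid E g) * E.φ 624 * cMid E g := by group
      _ = 1 := by rw [hc, mul_one, mul_assoc (cMid E g), a3, mul_one, hc]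
  · rw [pow_succ', pow_two, s2, yTwo]
    calc E.φ 3 * (cMid E g * E.φ 508 * cMid E g) * E.φ 3 *
          (E.φ 3 * (cMid E g * E.φ 416 * cMid E g) * E.φ 3)
        = E.φ 3 * (cMid E g * E.φ 508 * cMid E g * (E.φ 3 * E.φ 3) * cMid E g * E.φ 416 *
            cMid E g) * E.φ 3 := by group
      _ = E.φ 3 * (cMid E g * E.φ 508 * (cMid E g * cMid E g) * E.φ 416 * cMid E g) * E.φ 3 := by
          rw [e3]; group
      _ = 1 := by rw [hc, mul_one, mul_assoc (cMid E g), b3, mul_one, hc, mul_one, e3]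

end

section

variable {G : Type u} [Group G] [Finite G] {z : G} {Q : Subgroup G} {E : Emb true true z Q} {g : G}
  {O : Subgroup G}

theorem yList_mem (hO : OData E O) : ∀ y ∈ yList, y < 1152 ∧ E.φ y ∈ O := by
  have h1 : x1C < 1152 ∧ x2C < 1152 := by decide
  have a1 : ∀ a ∈ [oneC, 600, hinv 600], a < 1152 ∧ E.φ a ∈ O := by
    intro a ha
    simp only [List.mem_cons, List.not_mem_nil, or_false] at ha
    rcases ha with rfl | rfl | rfl
    · exact ⟨code_lt.1, E.map_one ▸ one_mem O⟩
    · exact ⟨h1.1, hO.x1⟩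
    · exact ⟨(hinv_spec h1.1).1, E.map_inv h1.1 ▸ inv_mem hO.x1⟩
  have a2 : ∀ a ∈ [oneC, 324, hinv 324], a < 1152 ∧ E.φ a ∈ O := by
    intro a ha
    simp only [List.mem_cons, List.not_mem_nil, or_false] at ha
    rcases ha with rfl | rfl | rfl
    · exact ⟨code_lt.1, E.map_one ▸ one_mem O⟩
    · exact ⟨h1.2, hO.x2⟩
    · exact ⟨(hinv_spec h1.2).1, E.map_inv h1.2 ▸ inv_mem hO.x2⟩
  intro y hy
  simp only [yList, List.mem_flatMap, List.mem_map] at hy
  obtain ⟨a, ha, b, hb, rfl⟩ := hy
  obtain ⟨ha1, ha2⟩ := a1 a ha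
  obtain ⟨hb1, hb2⟩ := a2 b hb
  exact ⟨hm_lt ha1 hb1, E.map_hm ha1 hb1 ▸ mul_mem ha2 hb2⟩

theorem yOne_mem (hg : Link E g) (hO : OData E O)
    (ht : cMid E g * E.φ 612 * (cMid E g)⁻¹ = E.φ 912) : yOne E g ∈ O := by
  obtain ⟨m, hm', hord, hinvz, hfix⟩ := hO.fix 349 (by simp)
  set c := cMid E g with hc
  have hci : c⁻¹ = c := cMid_inv hg
  have hcz : c * z * c = E.φ 349 := by
    have := cMid_z hg
    rwa [← hc, hci] at this
  have hcc : c * c = 1 := cMid_sq hg
  have hcw : c * E.φ 349 * c = z := by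
    rw [← hcz]
    calc c * (c * z * c) * c = (c * c) * z * (c * c) := by group
      _ = z := by rw [hcc, one_mul, mul_one]
  have hk : c * m * c ∈ centralizer ({z} : Set G) := by
    rw [mem_centralizer_singleton_iff, ← hcw]
    calc c * m * c * (c * E.φ 349 * c) = c * m * (c * c) * E.φ 349 * c := by group
      _ = c * (E.φ 349 * m) * c := by rw [hcc, mul_one, mul_assoc c m, hfix]
      _ = c * E.φ 349 * (c * c) * m * c := by rw [hcc]; group
      _ = _ := by group
  obtain ⟨k, hk', ek⟩ := E.code hk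
  obtain ⟨-, -, -, -, -, -, -, -, -, -, -, -, -, -, h612, -⟩ := code_checks
  have hm612 : m * E.φ 612 = E.φ 612 * m := by
    rw [← h612, E.map_hm (by decide) (by decide)]
    exact hO.comm m hm' _ (mul_mem hO.x1 hO.x2)
  have hK1 : hconj 349 k = hinv k := by
    refine E.inj _ _ (hconj_lt (by norm_num) hk') (hinv_spec hk').1 ?_
    rw [E.map_conj (by norm_num) hk', E.map_inv hk', ek, ← hcz]
    calc c * z * c * (c * m * c) * (c * z * c)⁻¹
        = c * z * (c * c) * m * (c * c⁻¹) * z⁻¹ * c⁻¹ := by group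
      _ = c * (z * m * z⁻¹) * c := by rw [hcc, hci, hcc]; group
      _ = (c * m * c)⁻¹ := by rw [hinvz, mul_inv_rev, mul_inv_rev, hci, mul_assoc]
  have h912 : (912 : ℕ) < 1152 := by norm_num
  have hK2 : hm k 912 = hm 912 k := by
    refine E.inj _ _ (hm_lt hk' h912) (hm_lt h912 hk') ?_
    rw [E.map_hm hk' h912, E.map_hm h912 hk', ek, ← ht, hci]
    calc c * m * c * (c * E.φ 612 * c) = c * m * (c * c) * E.φ 612 * c := by group
      _ = c * (E.φ 612 * m) * c := by rw [hcc, mul_one, mul_assoc c m, hm612]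
      _ = c * E.φ 612 * (c * c) * m * c := by rw [hcc]; group
      _ = _ := by group
  have hK3 : hm k (hm k k) = oneC := by
    refine E.inj _ _ (hm_lt hk' (hm_lt hk' hk')) code_lt.1 ?_
    rw [E.map_hm hk' (hm_lt hk' hk'), E.map_hm hk' hk', ek, E.map_one]
    calc c * m * c * (c * m * c * (c * m * c)) = c * m * (c * c) * m * (c * c) * m * c := by group
      _ = c * m ^ 3 * c := by rw [hcc]; simp only [pow_succ, pow_zero, mul_one, one_mul, mul_assoc]
      _ = 1 := by rw [← hord, pow_orderOf_eq_one, mul_one, hcc]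
  have hkc := List.all_eq_true.1 cand_check k (List.mem_range.2 hk')
  rw [hK1, hK2, hK3] at hkc
  simp only [Nat.beq_refl, Bool.and_self, Bool.not_true, Bool.or_false, Bool.or_eq_true] at hkc
  have hback : m = c * E.φ k * c := by
    rw [ek]
    calc m = (c * c) * m * (c * c) := by rw [hcc, one_mul, mul_one]
      _ = _ := by group
  rcases hkc with (h | h) | h
  · exfalso
    rw [Nat.eq_of_beq_eq_true h, E.map_one, mul_one, hcc] at hback
    rw [hback, orderOf_one] at hord
    norm_num at hord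
  · rw [Nat.eq_of_beq_eq_true h] at hback
    rw [show yOne E g = m from hback.symm]
    exact hm'
  · rw [Nat.eq_of_beq_eq_true h] at hback
    obtain ⟨s1, s3, -, -⟩ := ySq (E := E) hg
    have : yOne E g = m * m := by
      rw [show m = yOne E g * yOne E g from hback.trans s1.symm]
      calc yOne E g = yOne E g ^ 3 * yOne E g := by rw [s3, one_mul]
        _ = _ := by simp only [pow_succ, pow_zero, one_mul, mul_assoc]
    exact this ▸ mul_mem hm' hm'

theorem yTwo_mem (hg : Link E g) (hO : OData E O)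
    (ht : cMid E g * E.φ 612 * (cMid E g)⁻¹ = E.φ 912) : yTwo E g ∈ O := by
  obtain ⟨-, -, -, -, -, h3, -, -, -, -, -, h314, hmem, h508, -, hx1, hx2, -⟩ := code_checks
  obtain ⟨-, -, e⟩ := cent_tab hg ht (1, 1) (by simpa using hmem)
  have h314' : (314 : ℕ) < 1152 := by norm_num
  have hy : ∀ x, x < 1152 → yList.contains (hconj 314 x) = true →
      E.φ 314 * E.φ x * (E.φ 314)⁻¹ ∈ O := fun x hx hc => by
    rw [← E.map_conj h314' hx]
    exact (yList_mem hO _ (by simpa using hc)).2
  have := hO.stable 314 h314' (hy _ (by decide) hx1) (hy _ (by decide) hx2) _ (yOne_mem hg hO ht)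
  have e2 : E.φ 314 * yOne E g * (E.φ 314)⁻¹ = yTwo E g := by
    have e3 : (E.φ 3)⁻¹ = E.φ 3 :=
      inv_eq_of_mul_eq_one_right (phi_sq E (by norm_num) h3)
    have e1 : cMid E g * E.φ 1 = E.φ 1 * cMid E g := by
      calc cMid E g * E.φ 1 = cMid E g * E.φ 1 * (cMid E g)⁻¹ * cMid E g := by group
        _ = E.φ 1 * cMid E g := by rw [e]
    rw [← h314, E.map_hm (by norm_num) (by norm_num), yOne, yTwo, ← h508,
      E.map_conj (by norm_num) (by norm_num), mul_inv_rev, e3]
    calc E.φ 3 * E.φ 1 * (cMid E g * E.φ 900 * cMid E g) * ((E.φ 1)⁻¹ * E.φ 3)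
        = E.φ 3 * (E.φ 1 * cMid E g) * E.φ 900 * ((cMid E g * (E.φ 1)⁻¹)) * E.φ 3 := by group
      _ = E.φ 3 * (cMid E g * E.φ 1) * E.φ 900 * ((E.φ 1)⁻¹ * cMid E g) * E.φ 3 := by
          rw [← e1, show cMid E g * (E.φ 1)⁻¹ = (E.φ 1)⁻¹ * cMid E g from
            (Commute.inv_right e1).eq]
      _ = _ := by group
  exact e2 ▸ this

theorem imgOne_spec (hg : Link E g) (hO : OData E O)
    (ht : cMid E g * E.φ 612 * (cMid E g)⁻¹ = E.φ 912) {m k : ℕ} {e : ℕ × ℕ}
    (hk : k < 1152) (h : imgOne m k = some e) :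
    m < 1152 ∧ E.φ m * (cMid E g * E.φ k * cMid E g) * (E.φ m)⁻¹
      = yOne E g ^ e.1 * yTwo E g ^ e.2 := by
  simp only [imgOne] at h
  obtain ⟨y, hy, h⟩ := List.exists_of_findSome?_eq_some h
  obtain ⟨p, hp, h⟩ := List.exists_of_findSome?_eq_some h
  obtain ⟨hy1, hyO⟩ := yList_mem hO y hy
  obtain ⟨hp1, hp2, hpe⟩ := cent_tab hg ht p hp
  obtain ⟨s1, -, s2, -⟩ := ySq (E := E) hg
  have hci := cMid_inv hg
  have hconjp : E.φ p.1 * (cMid E g * E.φ k * cMid E g) * (E.φ p.1)⁻¹
      = cMid E g * E.φ (hconj p.2 k) * cMid E g := by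
    rw [E.map_conj hp2 hk, ← hpe]
    have hcc := cMid_sq hg
    calc E.φ p.1 * (cMid E g * E.φ k * cMid E g) * (E.φ p.1)⁻¹
        = (cMid E g * cMid E g) * E.φ p.1 * (cMid E g * E.φ k * cMid E g) * (E.φ p.1)⁻¹ *
            (cMid E g * cMid E g) := by rw [hcc, one_mul, mul_one]
      _ = cMid E g * (cMid E g * E.φ p.1 * cMid E g * E.φ k *
            (cMid E g * (E.φ p.1)⁻¹ * cMid E g)) * cMid E g := by group
      _ = _ := by
          conv_rhs => rw [mul_inv_rev, mul_inv_rev, inv_inv, hci, ← mul_assoc (cMid E g) (E.φ p.1)⁻¹]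
  have hfin : ∀ r : G, r ∈ O → E.φ y * r * (E.φ y)⁻¹ = r := fun r hr => by
    rw [hO.comm _ hyO r hr, mul_inv_cancel_right]
  have h1O := yOne_mem hg hO ht
  have h2O := yTwo_mem hg hO ht
  by_cases hm1 : Nat.beq (hm y p.1) m = true
  · rw [if_pos hm1] at h
    have hmeq := Nat.eq_of_beq_eq_true hm1
    refine ⟨hmeq ▸ hm_lt hy1 hp1, ?_⟩
    rw [← hmeq, E.map_hm hy1 hp1]
    calc E.φ y * E.φ p.1 * (cMid E g * E.φ k * cMid E g) * (E.φ y * E.φ p.1)⁻¹
        = E.φ y * (E.φ p.1 * (cMid E g * E.φ k * cMid E g) * (E.φ p.1)⁻¹) * (E.φ y)⁻¹ := by group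
      _ = _ := by
        rw [hconjp]
        by_cases a1 : Nat.beq (hconj p.2 k) 900 = true
        · rw [if_pos a1, Option.some.injEq] at h
          rw [← h, Nat.eq_of_beq_eq_true a1, show cMid E g * E.φ 900 * cMid E g = yOne E g from rfl,
            hfin _ h1O, pow_one, pow_zero, mul_one]
        · rw [if_neg a1] at h
          by_cases a2 : Nat.beq (hconj p.2 k) 624 = true
          · rw [if_pos a2, Option.some.injEq] at h
            rw [← h, Nat.eq_of_beq_eq_true a2, ← s1, hfin _ (mul_mem h1O h1O), pow_two, pow_zero,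
              mul_one]
          · rw [if_neg a2] at h
            exact absurd h (by simp)
  · rw [if_neg hm1] at h
    by_cases hm2 : Nat.beq (hm y (hm 3 p.1)) m = true
    · rw [if_pos hm2] at h
      have hmeq := Nat.eq_of_beq_eq_true hm2
      have h3 : (3 : ℕ) < 1152 := by norm_num
      refine ⟨hmeq ▸ hm_lt hy1 (hm_lt h3 hp1), ?_⟩
      rw [← hmeq, E.map_hm hy1 (hm_lt h3 hp1), E.map_hm h3 hp1]
      have e3 : (E.φ 3)⁻¹ = E.φ 3 :=
        inv_eq_of_mul_eq_one_right (phi_sq E h3 code_checks.2.2.2.2.2.1)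
      calc E.φ y * (E.φ 3 * E.φ p.1) * (cMid E g * E.φ k * cMid E g) *
            (E.φ y * (E.φ 3 * E.φ p.1))⁻¹
          = E.φ y * (E.φ 3 * (E.φ p.1 * (cMid E g * E.φ k * cMid E g) * (E.φ p.1)⁻¹) *
              (E.φ 3)⁻¹) * (E.φ y)⁻¹ := by group
        _ = _ := by
          rw [hconjp, e3]
          by_cases a1 : Nat.beq (hconj p.2 k) 508 = true
          · rw [if_pos a1, Option.some.injEq] at h
            rw [← h, Nat.eq_of_beq_eq_true a1,
              show E.φ 3 * (cMid E g * E.φ 508 * cMid E g) * E.φ 3 = yTwo E g from rfl,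
              hfin _ h2O, pow_one, pow_zero, one_mul]
          · rw [if_neg a1] at h
            by_cases a2 : Nat.beq (hconj p.2 k) 416 = true
            · rw [if_pos a2, Option.some.injEq] at h
              rw [← h, Nat.eq_of_beq_eq_true a2, ← s2, hfin _ (mul_mem h2O h2O), pow_two, pow_zero,
                one_mul]
            · rw [if_neg a2] at h
              exact absurd h (by simp)
    · rw [if_neg hm2] at h
      exact absurd h (by simp)

/-- the eight letters -/
def eight (E : Emb true true z Q) (g : G) : Fin 8 → G :=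
  Fin.snoc (Fin.snoc (locLetters E g) (z * yOne E g)) (z * yTwo E g)

theorem eight_low (l : ℕ) (hl : l < 5) :
    eight E g (Fin.ofNat 8 l) = E.φ (letC.getD l 0) ∧ letC.getD l 0 < 1152 := by
  refine ⟨?_, def_check.2.2.2.2.2.1 l hl⟩
  interval_cases l <;> rfl

theorem pow_three_mod {y : G} (h : y ^ 3 = 1) (a : ℕ) : y ^ (a % 3) = y ^ a := by
  conv_rhs => rw [← Nat.mod_add_div a 3, pow_add, pow_mul, h, one_pow, mul_one]

theorem eval_sound (hg : Link E g) (hO : OData E O)
    (ht : cMid E g * E.φ 612 * (cMid E g)⁻¹ = E.φ 912) :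
    ∀ (w : List ℕ) (s t : ℕ × ℕ × ℕ), s.2.2 < 1152 → evalS s w = some t →
      t.2.2 < 1152 ∧ yOne E g ^ s.1 * yTwo E g ^ s.2.1 * E.φ s.2.2 * val (eight E g) w
        = yOne E g ^ t.1 * yTwo E g ^ t.2.1 * E.φ t.2.2 := by
  obtain ⟨-, p1, -, p2⟩ := ySq (E := E) hg
  have h1O := yOne_mem hg hO ht
  have h2O := yTwo_mem hg hO ht
  intro w
  induction w with
  | nil =>
    intro s t hs h
    simp only [evalS, Option.some.injEq] at h
    subst h
    exact ⟨hs, by simp [val]⟩
  | cons l w ih =>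
    intro s t hs h
    simp only [evalS] at h
    obtain ⟨r, hr, h⟩ := Option.bind_eq_some_iff.1 h
    suffices H : r.2.2 < 1152 ∧
        yOne E g ^ s.1 * yTwo E g ^ s.2.1 * E.φ s.2.2 * eight E g (Fin.ofNat 8 l)
          = yOne E g ^ r.1 * yTwo E g ^ r.2.1 * E.φ r.2.2 by
      obtain ⟨a, b⟩ := ih r t H.1 h
      refine ⟨a, ?_⟩
      rw [← b, ← H.2]
      simp only [val, List.map_cons, List.prod_cons, ← mul_assoc]
    by_cases hl : l < 5
    · simp only [stepS, hl, if_true, Option.some.injEq] at hr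
      obtain ⟨e, hlt⟩ := eight_low (E := E) (g := g) l hl
      subst hr
      exact ⟨hm_lt hs hlt, by rw [e, E.map_hm hs hlt]; simp only [mul_assoc]⟩
    simp only [stepS, hl, if_false] at hr
    have hnz : E.φ (hm s.2.2 zC) = E.φ s.2.2 * z := by rw [E.map_hm hs code_lt.2.1, E.map_z]
    have hnlt : hm s.2.2 zC < 1152 := hm_lt hs code_lt.2.1
    suffices H : ∀ (y : G) (e : ℕ × ℕ), eight E g (Fin.ofNat 8 l) = z * y →
        E.φ (hm s.2.2 zC) * y * (E.φ (hm s.2.2 zC))⁻¹ = yOne E g ^ e.1 * yTwo E g ^ e.2 →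
        r = ((s.1 + e.1) % 3, (s.2.1 + e.2) % 3, hm s.2.2 zC) →
        r.2.2 < 1152 ∧ yOne E g ^ s.1 * yTwo E g ^ s.2.1 * E.φ s.2.2 * eight E g (Fin.ofNat 8 l)
          = yOne E g ^ r.1 * yTwo E g ^ r.2.1 * E.φ r.2.2 by
      by_cases h6 : Nat.beq l 6 = true
      · rw [if_pos h6] at hr
        split at hr
        · rename_i e he
          obtain ⟨-, hspec⟩ := imgOne_spec hg hO ht (by norm_num) he
          exact H _ e (by rw [Nat.eq_of_beq_eq_true h6]; rfl) hspec (Option.some.inj hr).symm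
        · exact absurd hr (by simp)
      · rw [if_neg h6] at hr
        by_cases h7 : Nat.beq l 7 = true
        · rw [if_pos h7] at hr
          split at hr
          · rename_i e he
            obtain ⟨-, hspec⟩ := imgOne_spec hg hO ht (by norm_num) he
            refine H _ e (by rw [Nat.eq_of_beq_eq_true h7]; rfl) ?_ (Option.some.inj hr).symm
            rw [← hspec, E.map_hm hnlt (by norm_num), yTwo, mul_inv_rev,
              inv_eq_of_mul_eq_one_right (phi_sq E (by norm_num : 3 < 1152)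
                code_checks.2.2.2.2.2.1)]
            simp only [mul_assoc]
          · exact absurd hr (by simp)
        · rw [if_neg h7] at hr
          exact absurd hr (by simp)
    rintro y e hy hc rfl
    refine ⟨hnlt, ?_⟩
    rw [hy, pow_three_mod p1, pow_three_mod p2, pow_add, pow_add]
    calc yOne E g ^ s.1 * yTwo E g ^ s.2.1 * E.φ s.2.2 * (z * y)
        = yOne E g ^ s.1 * yTwo E g ^ s.2.1 *
            (E.φ (hm s.2.2 zC) * y * (E.φ (hm s.2.2 zC))⁻¹) * E.φ (hm s.2.2 zC) := by
          rw [hnz]; group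
      _ = _ := by
          rw [hc, mul_assoc (yOne E g ^ s.1) (yTwo E g ^ s.2.1),
            ← mul_assoc (yTwo E g ^ s.2.1),
            hO.comm _ (pow_mem h2O _) _ (pow_mem h1O _)]
          simp only [mul_assoc]

theorem inv_check2 : imgOne zC 900 = some (2, 0) ∧ imgOne (hm zC 3) 508 = some (0, 2) := by
  decide +kernel

theorem letters_of (hg : Link E g) (hO : OData E O)
    (ht : cMid E g * E.φ 612 * (cMid E g)⁻¹ = E.φ 912) : Letters G (eight E g) := by
  obtain ⟨-, p1, -, p2⟩ := ySq (E := E) hg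
  obtain ⟨hzl, h900, h508, h971, h3e, -, hzz⟩ := def_check
  have h3 : (3 : ℕ) < 1152 := by norm_num
  have hz2 : z * z = 1 := by rw [← E.map_z, phi_sq E code_lt.2.1 hzz]
  have hzi : z⁻¹ = z := inv_eq_of_mul_eq_one_right hz2
  have e3 : E.φ 3 * E.φ 3 = 1 := phi_sq E h3 code_checks.2.2.2.2.2.1
  have e3i : (E.φ 3)⁻¹ = E.φ 3 := inv_eq_of_mul_eq_one_right e3
  have i1 : z * yOne E g * z = yOne E g ^ 2 := by
    have := (imgOne_spec hg hO ht (by norm_num) inv_check2.1).2
    rw [E.map_z, pow_zero, mul_one, hzi] at this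
    exact this
  have i2 : z * yTwo E g * z = yTwo E g ^ 2 := by
    have := (imgOne_spec hg hO ht (by norm_num) inv_check2.2).2
    rw [E.map_hm code_lt.2.1 h3, E.map_z, pow_zero, one_mul, mul_inv_rev, hzi, e3i] at this
    rw [← this, yTwo]
    simp only [mul_assoc]
  have u2 : z * yOne E g * (z * yOne E g) = 1 := by
    rw [← mul_assoc, i1, ← pow_succ, p1]
  have v2 : z * yTwo E g * (z * yTwo E g) = 1 := by
    rw [← mul_assoc, i2, ← pow_succ, p2]
  have hsq : ∀ i, eight E g i * eight E g i = 1 := by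
    have hl : ∀ l < 5, eight E g (Fin.ofNat 8 l) * eight E g (Fin.ofNat 8 l) = 1 := by
      intro l hl
      obtain ⟨e, hlt⟩ := eight_low (E := E) (g := g) l hl
      rw [e]
      refine phi_sq E hlt ?_
      interval_cases l <;> decide +kernel
    intro i
    fin_cases i
    exacts [hl 0 (by norm_num), hl 1 (by norm_num), hl 2 (by norm_num), hl 3 (by norm_num),
      hl 4 (by norm_num), hg.sq, u2, v2]
  refine ⟨hsq, fun r hr => ?_⟩
  rcases List.mem_append.1 hr with hr | hr
  · -- relators of the first six letters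
    rw [← hg.local_rels r hr]
    have hlt : ∀ a ∈ r, a < 6 := by
      have h := loc_letters r hr
      exact h
    simp only [val]
    refine congrArg List.prod (List.map_congr_left fun a ha => ?_)
    have := hlt a ha
    interval_cases a <;> rfl
  have hchk := List.all_eq_true.1 rels_check r hr
  rw [Bool.or_eq_true] at hchk
  rcases hchk with hd | he
  · -- the two defining relators
    have hw : ∀ a b c d, a < 5 → b < 5 → c < 5 → d < 5 → eight E g (Fin.ofNat 8 a) *
        (eight E g (Fin.ofNat 8 b) * (eight E g (Fin.ofNat 8 c) * eight E g (Fin.ofNat 8 d))) =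
        E.φ (hm (hm (letC.getD a 0) (letC.getD b 0)) (hm (letC.getD c 0) (letC.getD d 0))) := by
      intro a b c d ha hb hc hd'
      obtain ⟨ea, la⟩ := eight_low (E := E) (g := g) a ha
      obtain ⟨eb, lb⟩ := eight_low (E := E) (g := g) b hb
      obtain ⟨ec, lc⟩ := eight_low (E := E) (g := g) c hc
      obtain ⟨ed, ld⟩ := eight_low (E := E) (g := g) d hd'
      rw [ea, eb, ec, ed, E.map_hm (hm_lt la lb) (hm_lt lc ld), E.map_hm la lb, E.map_hm lc ld,
        mul_assoc]
    have hzw : ∀ rest : List ℕ, val (eight E g) ([0, 2, 0, 4, 2, 4] ++ rest) =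
        z * val (eight E g) rest := by
      intro rest
      simp only [val, List.map_append, List.prod_append]
      congr 1
      have l0 := def_check.2.2.2.2.2.1 0 (by norm_num)
      have l2 := def_check.2.2.2.2.2.1 2 (by norm_num)
      have l4 := def_check.2.2.2.2.2.1 4 (by norm_num)
      conv_rhs => rw [← E.map_z, ← hzl, E.map_hm (hm_lt (hm_lt l0 l2) (hm_lt l0 l4)) (hm_lt l2 l4),
        E.map_hm (hm_lt l0 l2) (hm_lt l0 l4), E.map_hm l0 l2, E.map_hm l0 l4, E.map_hm l2 l4]
      simp only [List.map_cons, List.map_nil, List.prod_cons, List.prod_nil, mul_one]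
      rw [(eight_low (E := E) (g := g) 0 (by norm_num)).1,
        (eight_low (E := E) (g := g) 2 (by norm_num)).1,
        (eight_low (E := E) (g := g) 4 (by norm_num)).1]
      simp only [mul_assoc]
    have w1 := hw 1 3 1 2 (by norm_num) (by norm_num) (by norm_num) (by norm_num)
    have w2 := hw 1 2 1 3 (by norm_num) (by norm_num) (by norm_num) (by norm_num)
    rw [h900] at w1
    rw [h508] at w2
    have hg3 : g * E.φ 3 = E.φ 3 * g := by
      have := hg.look (n := 3) (by rw [code_checks.2.2.2.2.2.2.1]; exact h3)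
      rw [code_checks.2.2.2.2.2.2.1] at this
      calc g * E.φ 3 = g * E.φ 3 * g⁻¹ * g := by group
        _ = E.φ 3 * g := by rw [this]
    simp only [defRels, List.contains_iff_mem, List.mem_cons, List.not_mem_nil, or_false] at hd
    have happ : ∀ u v : List ℕ, val (eight E g) (u ++ v) = val (eight E g) u * val (eight E g) v :=
      fun u v => by simp only [val, List.map_append, List.prod_append]
    have e4 : eight E g (Fin.ofNat (7 + 1) 4) = E.φ 971 := by
      rw [← h971]; exact (eight_low (E := E) (g := g) 4 (by norm_num)).1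
    have e1 : eight E g (Fin.ofNat (7 + 1) 1) = E.φ 3 := by
      rw [← h3e]; exact (eight_low (E := E) (g := g) 1 (by norm_num)).1
    have e5 : eight E g (Fin.ofNat (7 + 1) 5) = g := rfl
    have k1 : val (eight E g) [1, 3, 1, 2] = E.φ 900 := by
      rw [← w1]; simp only [val, List.map_cons, List.map_nil, List.prod_cons, List.prod_nil, mul_one]
    have k2 : val (eight E g) [1, 2, 1, 3] = E.φ 508 := by
      rw [← w2]; simp only [val, List.map_cons, List.map_nil, List.prod_cons, List.prod_nil, mul_one]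
    have t1 : val (eight E g) [5, 4, 5, 6] = cMid E g * (z * yOne E g) := by
      simp only [val, List.map_cons, List.map_nil, List.prod_cons, List.prod_nil, mul_one, e4, e5,
        cMid, show eight E g (Fin.ofNat (7 + 1) 6) = z * yOne E g from rfl, mul_assoc]
    have t2 : val (eight E g) [5, 4, 5] = cMid E g := by
      simp only [val, List.map_cons, List.map_nil, List.prod_cons, List.prod_nil, mul_one, e4, e5,
        cMid, mul_assoc]
    have t3 : val (eight E g) [5, 1, 4, 5] = E.φ 3 * cMid E g := by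
      simp only [val, List.map_cons, List.map_nil, List.prod_cons, List.prod_nil, mul_one, e4, e5, e1,
        cMid, ← mul_assoc, hg3]
    have t4 : val (eight E g) [5, 4, 1, 5, 7] = cMid E g * E.φ 3 * (z * yTwo E g) := by
      simp only [val, List.map_cons, List.map_nil, List.prod_cons, List.prod_nil, mul_one, e4, e5, e1,
        cMid, show eight E g (Fin.ofNat (7 + 1) 7) = z * yTwo E g from rfl]
      rw [← mul_assoc (E.φ 3) g, ← hg3]
      simp only [mul_assoc]
    rcases hd with rfl | rfl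
    · rw [show ([0, 2, 0, 4, 2, 4, 5, 4, 5, 1, 3, 1, 2, 5, 4, 5, 6] : List ℕ) =
        [0, 2, 0, 4, 2, 4] ++ ([5, 4, 5] ++ ([1, 3, 1, 2] ++ [5, 4, 5, 6])) from rfl, hzw, happ,
        happ, t2, k1, t1, ← u2]
      simp only [yOne, mul_assoc]
    · rw [show ([0, 2, 0, 4, 2, 4, 5, 1, 4, 5, 1, 2, 1, 3, 5, 4, 1, 5, 7] : List ℕ) =
        [0, 2, 0, 4, 2, 4] ++ ([5, 1, 4, 5] ++ ([1, 2, 1, 3] ++ [5, 4, 1, 5, 7])) from rfl, hzw,
        happ, happ, t3, k2, t4, ← v2]
      simp only [yTwo, mul_assoc]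
  · -- the others by evaluation
    have he' : evalS (0, 0, oneC) r = some (0, 0, oneC) := by simpa using he
    obtain ⟨-, e⟩ := eval_sound hg hO ht r (0, 0, oneC) (0, 0, oneC) code_lt.1 he'
    simpa [E.map_one] using e

end

/-- P4 from `O` and the transport of `612`. -/
theorem three_rels_of
    (htr : ∀ (G : Type u) [Group G] [Finite G] (z : G) (Q : Subgroup G), Hyp G z Q →
      ∀ (E : Emb true true z Q) (g : G), Link E g →
        (g * E.φ 971 * g) * E.φ 612 * (g * E.φ 971 * g)⁻¹ = E.φ 912) :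
    StmtThreeRels.{u} := by
  intro hod hesc G _ _ z Q h E g hg
  obtain ⟨O, hO⟩ := hod hesc G z Q h E g hg
  exact ⟨_, _, letters_of hg hO (htr G z Q h E g hg)⟩

end CfsgLib.U43Type
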