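import Cfsg.Agent.Lib.U43Type.Link
import Cfsg.Agent.Lib.U43Type.Cert.ECert
import Cfsg.Agent.Lib.PresCert.Sound

/-!
# S5390 / S5391: transport of two elements of order 3

The conjugates of two elements of order 3 by `g l g` are computed in the normalizer of `elab2`.
-/

set_option autoImplicit false
set_option linter.unusedSectionVars false
set_option linter.unusedVariables false
set_option maxRecDepth 100000
set_option maxHeartbeats 1000000

namespace CfsgLib.U43Type

open Subgroup LinkCert CfsgLib.PresCert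

universe u

namespace TransportProof

/-- four involutions generating the normalizer of `elab2` in `C(z)` -/
def nLet : List ℕ := [791, 315, 748, 13]

/-- a letter as a step -/
def eStep (l : ℕ) : Option ℕ := if l = 4 then none else some (nLet.getD l 0)

/-- one step in the evaluation of a word -/
def eVal : Option (ℕ × Option ℕ) → Option ℕ → Option (ℕ × Option ℕ)
  | none, _ => none
  | some (n, none), some h => if h < 1152 then some (hm n h, none) else none
  | some (n, none), none => some (n, some oneC)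
  | some (n, some a), some h => if h < 1152 then some (n, some (hm a h)) else none
  | some (n, some a), none => if keys.contains a then some (hm n (linkFn a), none) else none

/-- the value of a word in the four letters -/
def codeW (w : List ℕ) : ℕ := w.foldl (fun r i => hm r (nLet.getD i 0)) oneC

/-- the word `c x c k⁻¹` from words for `l`, `x`, `l` and `k⁻¹` -/
def relW (a b c d : List ℕ) : List ℕ := 4 :: a ++ 4 :: b ++ 4 :: c ++ 4 :: d

/-- the subgroup of the first three letters, grown -/
def small : List ℕ :=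
  (List.range 12).foldl (fun S _ => (S ++ S.flatMap fun x => [hm x 791, hm x 315, hm x 748]).dedup)
    [oneC]

/-- the two instances `(x, k, word for x, word for k⁻¹)` -/
def cases2 : List (ℕ × ℕ × List ℕ × List ℕ) :=
  [(612, 912, [0, 1, 2, 0, 1], [0, 2, 1, 0, 1]), (412, 512, [3, 2, 0, 2, 3, 1], [3, 2, 0, 2, 3, 1])]

theorem small_ok : oneC ∈ small ∧ (small.all fun x => decide (x < 1152) &&
    [791, 315, 748].all fun l => small.contains (hm x l)) = true := by decide +kernel

theorem pick_ok : (cases2.all fun p => elab2.all fun n =>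
    !(small.contains n && Nat.beq (hm (hm (hm n p.2.1) (hm n p.2.1)) (hm n p.2.1)) oneC) ||
      Nat.beq n oneC) = true := by decide +kernel

theorem cube_ok : (cases2.all fun p => Nat.beq (hm (hm p.1 p.1) p.1) oneC && decide (p.1 < 1152) &&
    decide (p.2.1 < 1152)) = true ∧ (elab2.all fun n => Nat.beq (hm (hm n n) n) n) = true := by
  decide +kernel

theorem rel_ok : (cases2.all fun p =>
    let a := [0, 1, 2, 3, 2, 3, 0]
    let c := [0, 3, 2, 3, 2, 1, 0]
    let r := relW a p.2.2.1 c p.2.2.2
    (Nat.beq (codeW a) 971 && Nat.beq (codeW c) 971 && Nat.beq (codeW p.2.2.1) p.1 &&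
      Nat.beq (codeW p.2.2.2) (hinv p.2.1)) &&
    ((eSide true).all fun x => runOK linkFn (r.map eStep) x &&
      Nat.beq (wordFn linkFn (r.map eStep) x) x) &&
    r.all (fun x => decide (x < 5))) = true := by
  decide +kernel

theorem walk_ok : (cases2.all fun p =>
    let r := relW [0, 1, 2, 3, 2, 3, 0] p.2.2.1 [0, 3, 2, 3, 2, 1, 0] p.2.2.2
    Cert.E.cert.walk 600000 (r ++ r ++ r) 0 == some 0) = true := by decide +kernel

/-- relators that are powers -/
def ePow : List (List ℕ × ℕ) := [([0, 4], 5), ([0, 2, 0, 4], 3)]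

theorem epow_ok : (ePow.all fun p =>
    ((eSide true).all fun x => runOK linkFn (p.1.map eStep) x &&
      (eSide true).contains (wordFn linkFn (p.1.map eStep) x)) &&
    (eSide true).all fun x => Nat.beq ((wordFn linkFn (p.1.map eStep))^[p.2] x) x &&
      (!Nat.beq (wordFn linkFn (p.1.map eStep) x) x || Nat.beq x oneC)) = true := by
  decide +kernel

theorem eFacts : Cert.E.cert.g = 5 ∧ Cert.E.cert.n = 360 ∧
    (∀ r ∈ Cert.E.cert.subs, r = [0] ∨ r = [1] ∨ r = [2]) ∧
    (∀ x < 5, Cert.E.cert.iv x = x) ∧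
    (∀ r ∈ Cert.E.cert.rels, (∀ x ∈ r, x < 5) ∧
      ((r.map eStep).foldl eVal (some (oneC, none)) = some (oneC, none) ∨
        ∃ p ∈ ePow, r = (List.replicate p.2 p.1).flatten)) ∧
    (∀ x < 4, nLet.getD x 0 < 1152 ∧ hm (nLet.getD x 0) (nLet.getD x 0) = oneC) := by
  decide +kernel

theorem time_lt (c x : ℕ) : Cert.E.cert.time c x < 600000 := by
  have h : Cert.E.cert.time c x ≤ 524287 := Nat.and_le_right
  omega

open LinkProof

variable {G : Type u} [Group G] {z : G} {Q : Subgroup G} (E : Emb true true z Q)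

/-- the meaning of a state -/
def stEl (g : G) : ℕ × Option ℕ → G
  | (n, none) => E.φ n
  | (n, some a) => E.φ n * g * E.φ a

/-- the bound on a state -/
def stOK : ℕ × Option ℕ → Prop
  | (n, none) => n < 1152
  | (n, some a) => n < 1152 ∧ a < 1152

theorem foldl_none' (r : List (Option ℕ)) : r.foldl eVal none = none := by
  induction r with
  | nil => rfl
  | cons l r ih => simp [eVal, ih]

theorem eval_steps (g : G) (hsq : g * g = 1)
    (ha : ∀ x ∈ keys, g * E.φ x * g⁻¹ = E.φ (linkFn x)) (r : List (Option ℕ)) :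
    ∀ s t, stOK s → r.foldl eVal (some s) = some t →
      stOK t ∧ stEl E g t = stEl E g s * wordEl E g r := by
  induction r with
  | nil =>
    intro s t hs h
    simp only [List.foldl_nil, Option.some.injEq] at h
    subst h
    exact ⟨hs, by simp [wordEl]⟩
  | cons l r ih =>
    intro s t hs h
    simp only [List.foldl_cons] at h
    cases hst : eVal (some s) l with
    | none => rw [hst, foldl_none'] at h; cases h
    | some s' =>
      rw [hst] at h
      suffices H : stOK s' ∧ stEl E g s' = stEl E g s * stepEl E g l by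
        obtain ⟨h1, h2⟩ := ih s' t H.1 h
        exact ⟨h1, by rw [h2, H.2]; simp [wordEl, mul_assoc]⟩
      obtain ⟨n, _ | a⟩ := s <;> cases l <;> simp only [eVal] at hst
      · simp only [Option.some.injEq] at hst
        subst hst
        exact ⟨⟨hs, code_lt.1⟩, by simp [stEl, stepEl, E.map_one]⟩
      · split_ifs at hst with hl
        simp only [Option.some.injEq] at hst
        subst hst
        exact ⟨hm_lt hs hl, E.map_hm hs hl⟩
      · split_ifs at hst with hl
        simp only [Option.some.injEq] at hst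
        subst hst
        obtain ⟨hn, ha'⟩ : n < 1152 ∧ a < 1152 := hs
        have hk : a ∈ keys := List.contains_iff_mem.1 hl
        refine ⟨hm_lt hn (linkFn_lt hk), ?_⟩
        simp only [stEl, stepEl]
        rw [E.map_hm hn (linkFn_lt hk), ← ha a hk, inv_eq_of_mul_eq_one_right hsq]
        simp only [mul_assoc]
      · split_ifs at hst with hl
        simp only [Option.some.injEq] at hst
        subst hst
        obtain ⟨hn, ha'⟩ : n < 1152 ∧ a < 1152 := hs
        exact ⟨⟨hn, hm_lt ha' hl⟩, by simp [stEl, stepEl, E.map_hm ha' hl, mul_assoc]⟩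

/-- an element inducing the map `f` on `elab2` with the stated conditions is a code there -/
theorem fix_side {y : G} (h : ∀ x ∈ eSide true, y * E.φ x * y⁻¹ = E.φ x) :
    ∃ n ∈ eSide true, E.φ n = y := by
  have hz := h zC (side_spec true).2
  rw [E.map_z] at hz
  obtain ⟨n, hn, hyn⟩ := exists_code E hz
  have hlt : ∀ x ∈ eSide true, x < 1152 := fun x hx => keys_lt ((side_spec true).1 x hx)
  exact ⟨n, cent_side_spec true hn fun x hx =>
    conj_eq E hn (hlt x hx) (hlt x hx) (by rw [hyn]; exact h x hx), hyn⟩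

/-- the letters -/
def eLet (g : G) (x : ℕ) : G := stepEl E g (eStep x)

theorem wordEl_map (g : G) (r : List ℕ) :
    wordEl E g (r.map eStep) = (r.map (eLet E g)).prod := by
  simp only [wordEl, List.map_map]
  rfl

theorem eLet_code (g : G) {x : ℕ} (hx : x < 4) : eLet E g x = E.φ (nLet.getD x 0) := by
  simp [eLet, eStep, if_neg (Nat.ne_of_lt hx), stepEl]

theorem code_word (g : G) (w : List ℕ) : ∀ r, r < 1152 → (∀ x ∈ w, x < 4) →
    w.foldl (fun r i => hm r (nLet.getD i 0)) r < 1152 ∧
      E.φ (w.foldl (fun r i => hm r (nLet.getD i 0)) r) = E.φ r * (w.map (eLet E g)).prod := by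
  induction w with
  | nil => exact fun r hr _ => ⟨hr, by simp⟩
  | cons i w ih =>
    intro r hr hw
    have hi := hw i (List.mem_cons_self ..)
    obtain ⟨hl, -⟩ := eFacts.2.2.2.2.2 i hi
    obtain ⟨h1, h2⟩ := ih _ (hm_lt hr hl) fun j hj => hw j (List.mem_cons_of_mem _ hj)
    refine ⟨h1, ?_⟩
    simp only [List.foldl_cons, List.map_cons, List.prod_cons]
    rw [h2, E.map_hm hr hl, eLet_code E g hi, mul_assoc]

theorem codeW_spec (g : G) {w : List ℕ} (hw : ∀ x ∈ w, x < 4) :
    (w.map (eLet E g)).prod = E.φ (codeW w) := by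
  have h := (code_word E g w oneC code_lt.1 hw).2
  rw [E.map_one, one_mul] at h
  exact h.symm

theorem small_mem {y : G} (g : G) (hy : y ∈ closure {q | ∃ x < 3, eLet E g x = q}) :
    ∃ n ∈ small, E.φ n = y := by
  obtain ⟨h1, h2⟩ := small_ok
  simp only [List.all_eq_true, Bool.and_eq_true, decide_eq_true_eq] at h2
  induction hy using Subgroup.closure_induction_right with
  | one => exact ⟨oneC, h1, E.map_one⟩
  | mul_right a _ b hb ih =>
    obtain ⟨n, hn, rfl⟩ := ih
    obtain ⟨x, hx, rfl⟩ := hb
    obtain ⟨hnl, hcl⟩ := h2 n hn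
    have hxl : nLet.getD x 0 ∈ [791, 315, 748] := by interval_cases x <;> simp [nLet]
    refine ⟨hm n (nLet.getD x 0), List.contains_iff_mem.1 (hcl _ hxl), ?_⟩
    rw [E.map_hm hnl (eFacts.2.2.2.2.2 x (by omega)).1, eLet_code E g (by omega)]
  | mul_inv_cancel a _ b hb ih =>
    obtain ⟨n, hn, rfl⟩ := ih
    obtain ⟨x, hx, rfl⟩ := hb
    obtain ⟨hnl, hcl⟩ := h2 n hn
    obtain ⟨hl, hinvol⟩ := eFacts.2.2.2.2.2 x (by omega)
    have hxl : nLet.getD x 0 ∈ [791, 315, 748] := by interval_cases x <;> simp [nLet]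
    refine ⟨hm n (nLet.getD x 0), List.contains_iff_mem.1 (hcl _ hxl), ?_⟩
    rw [eLet_code E g (by omega), E.map_hm hnl hl]
    congr 1
    refine eq_inv_of_mul_eq_one_left ?_
    rw [← E.map_hm hl hl, hinvol, E.map_one]

theorem relW_prod (f : ℕ → G) (a b c d : List ℕ) :
    ((relW a b c d).map f).prod = f 4 * ((a.map f).prod * (f 4 * ((b.map f).prod *
      (f 4 * ((c.map f).prod * (f 4 * (d.map f).prod)))))) := by
  simp [relW]

theorem wx_lt : (cases2.all fun p => (p.2.2.1.all fun i => decide (i < 4)) &&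
    p.2.2.2.all fun i => decide (i < 4)) = true := by decide +kernel

theorem sq971 : hm 971 971 = oneC := by decide +kernel

/-- the relation obtained from the coset table -/
theorem relation {g : G} (hg : Link E g) {p : ℕ × ℕ × List ℕ × List ℕ} (hp : p ∈ cases2) :
    (g * E.φ 971 * g) * E.φ p.1 * (g * E.φ 971 * g)⁻¹ = E.φ p.2.1 := by
  obtain ⟨eg, en, esub, eiv, erel, elet⟩ := eFacts
  have hsq := hg.sq
  have ha : ∀ x ∈ keys, g * E.φ x * g⁻¹ = E.φ (linkFn x) := by
    intro x hx
    obtain ⟨q, hq, rfl⟩ := List.mem_map.1 hx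
    have : (linkTab.all fun p => Nat.beq (linkFn p.1) p.2) = true := by decide +kernel
    rw [hg.act q hq]
    congr 1
    exact (by simpa using List.all_eq_true.1 this q hq : linkFn q.1 = q.2).symm
  have hf : ∀ x ∈ keys, linkFn x < 1152 ∧ g * E.φ x * g⁻¹ = E.φ (linkFn x) :=
    fun x hx => ⟨linkFn_lt hx, ha x hx⟩
  have hlt : ∀ x ∈ eSide true, x < 1152 := fun x hx => keys_lt ((side_spec true).1 x hx)
  set f := eLet E g with hfdef
  have hinvol : ∀ x < 5, f x * f x = 1 := by
    intro x hx
    rcases eq_or_lt_of_le (Nat.le_of_lt_succ hx) with rfl | hx4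
    · exact hsq
    · rw [hfdef, eLet_code E g hx4, ← E.map_hm (elet x hx4).1 (elet x hx4).1, (elet x hx4).2,
        E.map_one]
  have hrels : ∀ r ∈ Cert.E.cert.rels, (r.map f).prod = 1 := by
    intro r hr
    rcases (erel r hr).2 with h | ⟨q, hq, rfl⟩
    · have := (eval_steps E g hsq ha _ (oneC, none) (oneC, none) code_lt.1 h).2
      simp only [stEl, E.map_one, one_mul] at this
      rw [hfdef, ← wordEl_map, ← this]
    · have h := List.all_eq_true.1 epow_ok q hq
      simp only [Bool.and_eq_true, List.all_eq_true, Bool.or_eq_true] at h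
      obtain ⟨hrun, hfix⟩ := h
      set y := (q.1.map f).prod with hy
      have hpw : ((List.replicate q.2 q.1).flatten.map f).prod = y ^ q.2 := by
        simp only [hy, List.map_flatten, List.map_replicate, List.prod_flatten, List.prod_replicate]
      rw [hpw]
      have hwy : y = wordEl E g (q.1.map eStep) := (wordEl_map E g q.1).symm
      have hstep : ∀ x ∈ eSide true, wordFn linkFn (q.1.map eStep) x ∈ eSide true ∧
          y * E.φ x * y⁻¹ = E.φ (wordFn linkFn (q.1.map eStep) x) := fun x hx => by
        refine ⟨List.contains_iff_mem.1 (hrun x hx).2, ?_⟩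
        rw [hwy]
        exact (word_spec E g _ hf _ x (hlt x hx) (hrun x hx).1).2
      have hit : ∀ k : ℕ, ∀ x ∈ eSide true, (wordFn linkFn (q.1.map eStep))^[k] x ∈ eSide true ∧
          y ^ k * E.φ x * (y ^ k)⁻¹ = E.φ ((wordFn linkFn (q.1.map eStep))^[k] x) := by
        intro k
        induction k with
        | zero => exact fun x hx => ⟨hx, by simp⟩
        | succ k ih =>
          intro x hx
          obtain ⟨h1, h2⟩ := ih x hx
          rw [Function.iterate_succ_apply']
          refine ⟨(hstep _ h1).1, ?_⟩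
          rw [← (hstep _ h1).2, ← h2, pow_succ']
          group
      obtain ⟨n, hn, hyn⟩ := fix_side E (y := y ^ q.2) fun x hx => by
        rw [(hit q.2 x hx).2]
        exact congrArg E.φ (Nat.eq_of_beq_eq_true (hfix x hx).1)
      have hfixn : wordFn linkFn (q.1.map eStep) n = n := by
        refine E.inj _ _ (hlt _ (hstep n hn).1) (hlt n hn) ?_
        rw [← (hstep n hn).2, hyn]
        group
      have := (hfix n hn).2
      rw [hfixn] at this
      simp at this
      rw [← hyn, this, E.map_one]
  -- the model of the certificate on the subgroup generated by the letters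
  set L := closure {q | ∃ x < 5, f x = q} with hL
  let gen : ℕ → L := fun x => if h : x < 5 then ⟨f x, subset_closure ⟨x, h, rfl⟩⟩ else 1
  have hgen : ∀ x, x < 5 → (gen x : G) = f x := fun x hx => by simp [gen, hx]
  have hprod : ∀ r : List ℕ, (∀ x ∈ r, x < 5) → ((r.map gen).prod : L).1 = (r.map f).prod := by
    intro r hr
    rw [← Subgroup.coe_subtype, map_list_prod, List.map_map]
    exact congrArg List.prod (List.map_congr_left fun x hx => hgen x (hr x hx))
  let K : Subgroup G := closure {q | ∃ x < 3, f x = q}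
  let M : Model Cert.E.cert L :=
    { gen := gen
      gen_inv := fun x hx => by
        rw [eg] at hx
        refine ⟨by rw [eiv x hx, eg]; exact hx, ?_⟩
        rw [eiv x hx]
        refine eq_inv_of_mul_eq_one_left (Subtype.ext ?_)
        rw [Subgroup.coe_mul, hgen x hx, hinvol x hx, Subgroup.coe_one]
      rels_eq := fun r hr => ⟨fun x hx => by rw [eg]; exact (erel r hr).1 x hx,
        Subtype.ext ((hprod r (erel r hr).1).trans (hrels r hr))⟩
      sub := K.subgroupOf L
      subs_mem := fun r hr => by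
        have : ∃ x, x < 3 ∧ r = [x] := by
          rcases esub r hr with rfl | rfl | rfl <;> exact ⟨_, by norm_num, rfl⟩
        obtain ⟨x, hx, rfl⟩ := this
        show ((List.map gen [x]).prod : L).1 ∈ K
        rw [List.map_singleton, List.prod_singleton, hgen x (by omega)]
        exact subset_closure ⟨x, hx, rfl⟩
      closure_gen := by
        apply map_injective L.subtype_injective
        rw [MonoidHom.map_closure, ← MonoidHom.range_eq_map, range_subtype]
        refine congrArg Subgroup.closure (Set.ext fun q => ?_)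
        rw [eg]
        constructor
        · rintro ⟨_, ⟨x, hx, rfl⟩, rfl⟩
          exact ⟨x, hx, (hgen x hx).symm⟩
        · rintro ⟨x, hx, rfl⟩
          exact ⟨gen x, ⟨x, hx, rfl⟩, hgen x hx⟩ }
  obtain ⟨x, k, wx, wk⟩ := p
  have hc := List.all_eq_true.1 cube_ok.1 _ hp
  simp only [Bool.and_eq_true, decide_eq_true_eq] at hc
  obtain ⟨⟨hx3, hxl⟩, hkl⟩ := hc
  have hr := List.all_eq_true.1 rel_ok _ hp
  simp only [Bool.and_eq_true, List.all_eq_true, decide_eq_true_eq] at hr
  obtain ⟨⟨⟨⟨⟨ca, cc⟩, cx⟩, ck⟩, hact⟩, hr5⟩ := hr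
  have cax : codeW [0, 1, 2, 3, 2, 3, 0] = 971 := Nat.eq_of_beq_eq_true ca
  have ccx : codeW [0, 3, 2, 3, 2, 1, 0] = 971 := Nat.eq_of_beq_eq_true cc
  have cxx : codeW wx = x := Nat.eq_of_beq_eq_true cx
  have ckx : codeW wk = hinv k := Nat.eq_of_beq_eq_true ck
  have hw4 : (∀ i ∈ wx, i < 4) ∧ ∀ i ∈ wk, i < 4 := by
    have := List.all_eq_true.1 wx_lt _ hp
    simpa using this
  set c := g * E.φ 971 * g with hcdef
  set r := relW [0, 1, 2, 3, 2, 3, 0] wx [0, 3, 2, 3, 2, 1, 0] wk with hrdef
  have f4 : f 4 = g := rfl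
  have hR : (r.map f).prod = c * E.φ x * c * (E.φ k)⁻¹ := by
    have e1 := codeW_spec E g (w := [0, 1, 2, 3, 2, 3, 0]) (by decide)
    have e3 := codeW_spec E g (w := [0, 3, 2, 3, 2, 1, 0]) (by decide)
    rw [cax] at e1
    rw [ccx] at e3
    have e2 := codeW_spec E g hw4.1
    have e4 := codeW_spec E g hw4.2
    rw [cxx] at e2
    rw [ckx, E.map_inv hkl] at e4
    rw [← hfdef] at e1 e2 e3 e4
    rw [hrdef, relW_prod, e1, e2, e3, e4, f4, hcdef]
    simp only [mul_assoc]
  clear_value r
  have hcc : c * c = 1 := by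
    have h971 : E.φ 971 * E.φ 971 = 1 := by
      rw [← E.map_hm (by norm_num : (971 : ℕ) < 1152) (by norm_num : (971 : ℕ) < 1152),
        sq971, E.map_one]
    calc c * c = g * E.φ 971 * (g * g) * E.φ 971 * g := by simp only [hcdef, mul_assoc]
      _ = _ := by rw [hsq, mul_one, mul_assoc g, h971, mul_one, hsq]
  -- it centralizes `elab2`, so is an element of it
  obtain ⟨n, hn, hRn⟩ := fix_side E (y := (r.map f).prod) fun v hv => by
    obtain ⟨h1, h2⟩ := hact v hv
    rw [hfdef, ← wordEl_map, (word_spec E g _ hf _ v (hlt v hv) h1).2]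
    exact congrArg E.φ (Nat.eq_of_beq_eq_true h2)
  have hnl := hlt n hn
  have hn3 : hm (hm n n) n = n :=
    Nat.eq_of_beq_eq_true (List.all_eq_true.1 cube_ok.2 n hn)
  -- its cube lies in the small subgroup
  have hw := List.all_eq_true.1 walk_ok _ hp
  simp only [beq_iff_eq, ← hrdef] at hw
  have hrel := Cert.walk_sound M (t := 600000)
    (fun c' x' h1 h2 _ => Cert.slots_ok M Cert.E.valid _ c' x' h1 h2 rfl) _ _ _ hw
  simp only [Cert.Rel, Cert.val_zero, one_mul, inv_one, mul_one] at hrel
  have hr5' : ∀ i ∈ r ++ r ++ r, i < 5 := by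
    intro i hi
    simp only [List.mem_append, or_self] at hi
    exact hr5 i hi
  have hK : (((r ++ r ++ r).map f).prod) ∈ K := by
    rw [← hprod _ hr5']
    exact Subgroup.mem_subgroupOf.1 hrel
  simp only [List.map_append, List.prod_append, ← hRn] at hK
  rw [← E.map_hm hnl hnl, ← E.map_hm (hm_lt hnl hnl) hnl, hn3] at hK
  obtain ⟨m, hm', hmn⟩ := small_mem E g hK
  have hms : m < 1152 := by
    have := List.all_eq_true.1 small_ok.2 m hm'
    simp only [Bool.and_eq_true, decide_eq_true_eq] at this
    exact this.1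
  obtain rfl : m = n := E.inj _ _ hms hnl hmn
  -- the order of `x`
  have key : c * E.φ x * c⁻¹ = E.φ (hm m k) := by
    rw [E.map_hm hnl hkl, hRn, hR, inv_eq_of_mul_eq_one_right hcc]
    group
  have hcube : hm (hm (hm m k) (hm m k)) (hm m k) = oneC := by
    have hl := hm_lt hnl hkl
    refine E.inj _ _ (hm_lt (hm_lt hl hl) hl) code_lt.1 ?_
    have e : E.φ x * E.φ x * E.φ x = 1 := by
      rw [← E.map_hm hxl hxl, ← E.map_hm (hm_lt hxl hxl) hxl,
        (Nat.eq_of_beq_eq_true hx3), E.map_one]
    rw [E.map_hm (hm_lt hl hl) hl, E.map_hm hl hl, E.map_one, ← key]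
    calc _ = c * (E.φ x * E.φ x * E.φ x) * c⁻¹ := by group
      _ = 1 := by rw [e]; group
  have hpick := List.all_eq_true.1 (List.all_eq_true.1 pick_ok _ hp) m hn
  rw [List.contains_iff_mem.2 hm', hcube] at hpick
  simp at hpick
  rw [key, hpick, E.map_hm code_lt.1 hkl, E.map_one, one_mul]

end TransportProof

open TransportProof in
/-- P4a: the exact conjugates of `φ 612` and `φ 412` by `g φ(971) g`. -/
theorem transport {G : Type u} [Group G] [Finite G] {z : G} {Q : Subgroup G} (h : Hyp G z Q)
    (E : Emb true true z Q) {g : G} (hg : Link E g) :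
    (g * E.φ 971 * g) * E.φ 612 * (g * E.φ 971 * g)⁻¹ = E.φ 912 ∧
      (g * E.φ 971 * g) * E.φ 412 * (g * E.φ 971 * g)⁻¹ = E.φ 512 :=
  ⟨relation E hg (p := (612, 912, [0, 1, 2, 0, 1], [0, 2, 1, 0, 1])) (by simp [cases2]),
    relation E hg (p := (412, 512, [3, 2, 0, 2, 3, 1], [3, 2, 0, 2, 3, 1])) (by simp [cases2])⟩

end CfsgLib.U43Type
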