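import Cfsg.Agent.Lib.U43Type.Main
import Cfsg.Agent.Lib.U43Type.Shape
import Cfsg.Agent.Lib.U43Type.Swap
import Cfsg.Agent.Lib.U43Type.Link
import Cfsg.Agent.Lib.U43Type.Model
import Cfsg.Agent.Lib.U43Type.ThreeRels
import Cfsg.Agent.Lib.U43Type.Transport
import Cfsg.Agent.Lib.U43Type.Escape
import Cfsg.Agent.Lib.U43Type.OData

/-!
# S5390 / S5391: groups of `U₄(3)` type
-/

set_option autoImplicit false
set_option linter.style.haveILetI false

namespace CfsgLib.U43Type

open Subgroup

universe u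

theorem three_of : StmtThree.{u} :=
  three_rels_of (fun _ _ _ _ _ h E g hg => (transport h E hg).1) odata_of escape_of

/-- A group of `U₄(3)` type is `PSU₄(3)`. -/
theorem group_of {G : Type u} [Group G] [Finite G] {z : G} {Q : Subgroup G} (h : Hyp G z Q)
    (K : Type) [Field K] [Fintype K] (hK : Fintype.card K = 9) :
    Nonempty (G ≃* Cfsg.PSU 4 K 3) ∧ Nat.card G = 2 ^ 7 * 3 ^ 6 * 5 * 7 ∧
      ∀ x y : G, orderOf x = 2 → orderOf y = 2 → IsConj x y :=
  conclusion shape_of swap_of link_of three_of model_of h K hK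

/-- Order and classes of involutions. -/
theorem group_of' {G : Type u} [Group G] [Finite G] {z : G} {Q : Subgroup G} (h : Hyp G z Q) :
    Nat.card G = 2 ^ 7 * 3 ^ 6 * 5 * 7 ∧
      ∀ x y : G, orderOf x = 2 → orderOf y = 2 → IsConj x y := by
  haveI : Fact (Nat.Prime 3) := ⟨Nat.prime_three⟩
  haveI : Fintype (GaloisField 3 2) := Fintype.ofFinite _
  exact (group_of h (GaloisField 3 2) (by
    rw [← Nat.card_eq_fintype_card, GaloisField.card 3 2 (by norm_num)]; norm_num)).2

end CfsgLib.U43Type
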